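import Cfsg.Agent.Lib.Linear.AschGen.Core
import Cfsg.Agent.Lib.Linear.Aschbacher.Orth
import Cfsg.Agent.Lib.Linear.OrthSplitMax

/-!
# Adjoints for a quadratic form and the decompositions they give
-/

set_option autoImplicit false
set_option linter.unusedSectionVars false
set_option linter.style.haveILetI false

namespace Cfsg.Lib.Linear.AschOrth

open Cfsg.Geo Cfsg.Lib.Linear Cfsg.Lib.Linear.Asch Cfsg.Lib.Linear.AschGen
open scoped Matrix MatrixGroups

variable {ι : Type} [Fintype ι] [DecidableEq ι] {F : Type*} [Field F]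
  {Q : (ι → F) → F} {B : LinearMap.BilinForm F (ι → F)}

/-- The adjoint of a matrix for the polar form of `Q`. -/
noncomputable def oadj (Q : (ι → F) → F) (M : Matrix ι ι F) : Matrix ι ι F :=
  (gramMatrix (QuadraticMap.polar Q))⁻¹ * Mᵀ * gramMatrix (QuadraticMap.polar Q)

theorem B_gram (C : Orth.Space Q B) (u v : ι → F) :
    B u v = u ⬝ᵥ gramMatrix (QuadraticMap.polar Q) *ᵥ v := by
  rw [← C.polar, sesq_gram (isSesq_polar C)]
  rfl

theorem oadj_spec (C : Orth.Space Q B) (M : Matrix ι ι F) (u v : ι → F) :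
    B (M *ᵥ u) v = B u (oadj Q M *ᵥ v) := by
  rw [B_gram C, B_gram C, oadj, Matrix.mulVec_mulVec, ← Matrix.mul_assoc, ← Matrix.mul_assoc,
    Matrix.mul_nonsing_inv _ (isUnit_gram C), Matrix.one_mul, ← Matrix.mulVec_mulVec,
    ← Matrix.vecMul_transpose, ← Matrix.dotProduct_mulVec]

theorem eq_of_B (C : Orth.Space Q B) {M M' : Matrix ι ι F} (h : ∀ u v, B u (M *ᵥ v) = B u (M' *ᵥ v)) :
    M = M' :=
  Orth.mat_ext fun v => sub_eq_zero.1 (C.nondeg _ fun u => by rw [map_sub, h, sub_self])

theorem oadj_unique (C : Orth.Space Q B) {M M' : Matrix ι ι F}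
    (h : ∀ u v, B (M *ᵥ u) v = B u (M' *ᵥ v)) : oadj Q M = M' :=
  eq_of_B C fun u v => by rw [← oadj_spec C, h]

theorem oadj_mul (C : Orth.Space Q B) (M N : Matrix ι ι F) : oadj Q (M * N) = oadj Q N * oadj Q M :=
  oadj_unique C fun u v => by
    rw [← Matrix.mulVec_mulVec, ← Matrix.mulVec_mulVec, oadj_spec C, oadj_spec C]

theorem oadj_oadj (C : Orth.Space Q B) (M : Matrix ι ι F) : oadj Q (oadj Q M) = M :=
  oadj_unique C fun u v => by rw [C.symm, ← oadj_spec C, C.symm]

theorem oadj_one (C : Orth.Space Q B) : oadj Q (1 : Matrix ι ι F) = 1 :=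
  oadj_unique C fun u v => by rw [Matrix.one_mulVec, Matrix.one_mulVec]

theorem oadj_add (M N : Matrix ι ι F) : oadj Q (M + N) = oadj Q M + oadj Q N := by
  simp only [oadj, Matrix.transpose_add, Matrix.mul_add, Matrix.add_mul]

theorem oadj_smul (c : F) (M : Matrix ι ι F) : oadj Q (c • M) = c • oadj Q M := by
  simp only [oadj, Matrix.transpose_smul, Matrix.mul_smul, Matrix.smul_mul]

theorem oadj_zero : oadj Q (0 : Matrix ι ι F) = 0 := by simp [oadj]

theorem oadj_sub (M N : Matrix ι ι F) : oadj Q (M - N) = oadj Q M - oadj Q N := by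
  rw [sub_eq_add_neg, ← neg_one_smul F N, oadj_add, oadj_smul, neg_one_smul, ← sub_eq_add_neg]

theorem oadj_algebraMap (C : Orth.Space Q B) (c : F) :
    oadj Q (algebraMap F (Matrix ι ι F) c) = algebraMap F (Matrix ι ι F) c := by
  rw [Algebra.algebraMap_eq_smul_one, oadj_smul, oadj_one C]

theorem oadj_of_mem (C : Orth.Space Q B) {g : GL ι F} (hg : g ∈ isometryGroup F Q) :
    oadj Q g.val = (g⁻¹).val :=
  oadj_unique C fun u v => by
    conv_lhs => rw [← mulVec_inv_mulVec g v, C.B_act hg]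

theorem oadj_conj (C : Orth.Space Q B) {h : GL ι F} (hh : h ∈ isometryGroup F Q) (M : Matrix ι ι F) :
    oadj Q (conjA h M) = conjA h (oadj Q M) := by
  rw [conjA_apply, conjA_apply, oadj_mul C, oadj_mul C, oadj_of_mem C hh,
    oadj_of_mem C (inv_mem hh), inv_inv, mul_assoc]

theorem oadj_mem_adj (C : Orth.Space Q B) {N : Subgroup (GL ι F)} (hN : N ≤ isometryGroup F Q)
    {M : Matrix ι ι F} (hM : M ∈ adj N) : oadj Q M ∈ adj N := by
  induction hM using Algebra.adjoin_induction with
  | mem x hx =>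
    obtain ⟨g, hg, rfl⟩ := hx
    rw [oadj_of_mem C (hN hg)]
    exact Algebra.subset_adjoin (mem_matrixSet (inv_mem hg))
  | algebraMap c => rw [oadj_algebraMap C]; exact Subalgebra.algebraMap_mem _ c
  | add x y _ _ hx hy => rw [oadj_add]; exact add_mem hx hy
  | mul x y _ _ hx hy => rw [oadj_mul C]; exact mul_mem hy hx

theorem oadj_mem_centralizer (C : Orth.Space Q B) {N : Subgroup (GL ι F)} (hN : N ≤ isometryGroup F Q)
    {M : Matrix ι ι F} (hM : M ∈ Subalgebra.centralizer F (matrixSet N)) :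
    oadj Q M ∈ Subalgebra.centralizer F (matrixSet N) := by
  rw [Subalgebra.mem_centralizer_iff] at hM ⊢
  rintro _ ⟨g, hg, rfl⟩
  have h1 := congrArg (oadj Q) (hM _ (mem_matrixSet (inv_mem hg)))
  rwa [oadj_mul C, oadj_mul C, oadj_of_mem C (hN (inv_mem hg)), inv_inv, eq_comm] at h1

theorem oadj_mem_bicomm (C : Orth.Space Q B) {N : Subgroup (GL ι F)} (hN : N ≤ isometryGroup F Q)
    {M : Matrix ι ι F} (hM : M ∈ bicomm N) : oadj Q M ∈ bicomm N := by
  rw [bicomm, Algebra.mem_inf] at hM ⊢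
  refine ⟨oadj_mem_centralizer C hN hM.1, ?_⟩
  rw [Subalgebra.mem_centralizer_iff]
  intro x hx
  have h1 := (Subalgebra.mem_centralizer_iff F).1 hM.2 _ (oadj_mem_centralizer C hN hx)
  have h2 := congrArg (oadj Q) h1
  rwa [oadj_mul C, oadj_mul C, oadj_oadj C, eq_comm] at h2

/-- The adjoint permutes the primitive idempotents of the centre of a commutant. -/
theorem idem_adj (C : Orth.Space Q B) {H N : Subgroup (GL ι F)} (hN : N ≤ isometryGroup F Q) {t : ℕ}
    {e : Fin t → Matrix ι ι F} (hs : IdemSystem H N e) (i : Fin t) : ∃ j, oadj Q (e i) = e j := by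
  have hidem : ∀ l, oadj Q (e l) * oadj Q (e l) = oadj Q (e l) := fun l => by
    rw [← oadj_mul C, (hs.idem.idem l).eq]
  have hx := oadj_mem_bicomm C hN (hs.mem i)
  obtain ⟨j, hj⟩ : ∃ j, oadj Q (e i) * e j ≠ 0 := by
    by_contra hcon
    push Not at hcon
    have h1 : oadj Q (e i) * ∑ j, e j = 0 := by
      rw [Finset.mul_sum]; exact Finset.sum_eq_zero fun j _ => hcon j
    rw [hs.idem.complete, mul_one] at h1
    have h2 := congrArg (oadj Q) h1
    rw [oadj_oadj C, oadj_zero] at h2
    exact hs.ne_zero i h2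
  refine ⟨j, ?_⟩
  have h2 := (hs.minimal _ hx (hidem i) j).resolve_left hj
  have hy := oadj_mem_bicomm C hN (hs.mem j)
  have h3 : oadj Q (e j) * e i = oadj Q (e j) := by
    have := congrArg (oadj Q) h2
    rwa [oadj_mul C, oadj_oadj C] at this
  have h4 : oadj Q (e j) = e i := by
    rcases hs.minimal _ hy (hidem j) i with h5 | h5
    · rw [h3] at h5
      have h6 := congrArg (oadj Q) h5
      rw [oadj_oadj C, oadj_zero] at h6
      exact absurd h6 (hs.ne_zero j)
    · rwa [h3] at h5
  rw [← h4, oadj_oadj C]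

theorem range_toLin'_mem {E : Matrix ι ι F} {v : ι → F} :
    v ∈ LinearMap.range (Matrix.toLin' E) ↔ ∃ u, E *ᵥ u = v := by
  simp [LinearMap.mem_range]

/-- Subspaces carried to each other by an isometry are isometric. -/
theorem isometric_of_move {g : GL ι F} (hg : g ∈ isometryGroup F Q) {W W' : Submodule F (ι → F)}
    (h : W.map (Matrix.toLin' g.val) = W') : AreIsometricFor Q W W' := by
  have hinj : Function.Injective (Matrix.toLin' g.val) := fun a c hac => by
    rw [Matrix.toLin'_apply, Matrix.toLin'_apply] at hac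
    simpa only [inv_mulVec_mulVec] using congrArg ((g⁻¹).val *ᵥ ·) hac
  refine ⟨(Submodule.equivMapOfInjective _ hinj W).trans (LinearEquiv.ofEq _ _ h), fun w => ?_⟩
  show Q (Matrix.toLin' g.val (w : ι → F)) = _
  rw [Matrix.toLin'_apply, Orth.mem_iso.1 hg]

/-- The members of a decomposition have total dimension that of the space. -/
theorem decomp_card {t m : ℕ} {D : Fin t → Submodule F (ι → F)} (hD : IsMDecomposition m D) :
    t * m = Fintype.card ι := by
  classical
  have hint := DirectSum.isInternal_submodule_of_iSupIndep_of_iSup_eq_top hD.indep hD.iSup_eq_top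
  have hdim := (LinearEquiv.ofBijective (DirectSum.coeLinearMap D) hint).finrank_eq
  rw [Module.finrank_directSum] at hdim
  simpa [hD.finrank_eq, Module.finrank_fintype_fun_eq_card] using hdim

/-- Self-adjoint idempotents permuted transitively give an orthogonal decomposition. -/
theorem idem_orth_decomp (C : Orth.Space Q B) {H N : Subgroup (GL ι F)} (hH : H ≤ isometryGroup F Q)
    {t : ℕ} {e : Fin t → Matrix ι ι F} (hs : IdemSystem H N e) (ht : 2 ≤ t)
    (hadj : ∀ i, oadj Q (e i) = e i) :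
    ∃ m, IsOrthogonalMDecomposition Q m (fun i => LinearMap.range (Matrix.toLin' (e i))) ∧
      H ≤ decompositionStabilizer (fun i => LinearMap.range (Matrix.toLin' (e i))) := by
  obtain ⟨m, hm, hle⟩ := hs.mDecomposition ht
  refine ⟨m, ⟨⟨hm, fun i => ?_, fun i j hij u hu v hv => ?_⟩, fun i j => ?_⟩, hle⟩
  · intro w hw hw0
    obtain ⟨u, rfl⟩ := range_toLin'_mem.1 hw
    obtain ⟨y, hy⟩ := C.exists_pair hw0
    have h1 : B (e i *ᵥ u) (e i *ᵥ y) = 1 := by
      rw [← hy]
      conv_rhs => rw [← (hs.idem.idem i).eq, ← Matrix.mulVec_mulVec, oadj_spec C, hadj]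
    exact ⟨⟨_, range_toLin'_mem.2 ⟨y, rfl⟩, by rw [C.polar, C.symm, h1]; exact one_ne_zero⟩,
      ⟨_, range_toLin'_mem.2 ⟨y, rfl⟩, by rw [C.polar, h1]; exact one_ne_zero⟩⟩
  · obtain ⟨u, rfl⟩ := range_toLin'_mem.1 hu
    obtain ⟨v, rfl⟩ := range_toLin'_mem.1 hv
    rw [C.polar, oadj_spec C, hadj, Matrix.mulVec_mulVec, hs.idem.ortho hij, Matrix.zero_mulVec, map_zero]
  · obtain ⟨h, hh, he⟩ := hs.trans i j
    refine isometric_of_move (hH hh) ?_
    show _ = LinearMap.range (Matrix.toLin' (e j))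
    rw [← he, conjA_apply, Matrix.toLin'_mul, LinearMap.range_comp_of_range_eq_top, Matrix.toLin'_mul,
      LinearMap.range_comp]
    exact LinearMap.range_eq_top.2 fun v => ⟨h.val *ᵥ v, by rw [Matrix.toLin'_apply, inv_mulVec_mulVec]⟩

/-- An imprimitive group of isometries with an odd number of blocks preserves an orthogonal decomposition. -/
theorem imprimitive_odd (C : Orth.Space Q B) (hcard : Odd (Fintype.card ι)) {H : Subgroup (GL ι F)}
    (hH : H ≤ isometryGroup F Q) (himp : Imprimitive H) :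
    ∃ (t m : ℕ) (D : Fin t → Submodule F (ι → F)), 2 ≤ t ∧ t * m = Fintype.card ι ∧
      IsOrthogonalMDecomposition Q m D ∧ H ≤ decompositionStabilizer D := by
  classical
  obtain ⟨N, t, e, ht, hN, hs⟩ := himp
  choose π hπ using idem_adj C (hN.le.trans hH) hs
  have hinj : Function.Injective e := fun i j hij => by
    by_contra hne
    have := hs.idem.ortho hne
    simp only at this
    rw [← hij, (hs.idem.idem i).eq] at this
    exact hs.ne_zero i this
  have hππ : ∀ i, π (π i) = i := fun i => hinj (by rw [← hπ, ← hπ, oadj_oadj C])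
  obtain ⟨m0, hm0, -⟩ := hs.mDecomposition ht
  have htodd : Odd t := (Nat.odd_mul.1 (decomp_card hm0 ▸ hcard)).1
  obtain ⟨i₀, hi₀⟩ : ∃ i, π i = i := by
    let s : Equiv.Perm (Fin t) := Function.Involutive.toPerm π hππ
    haveI : Fact (Nat.Prime 2) := ⟨Nat.prime_two⟩
    exact Equiv.Perm.exists_fixed_point_of_prime (α := Fin t) (p := 2) (n := 1)
      (by rw [Fintype.card_fin]; exact fun h => (Nat.not_even_iff_odd.2 htodd) (even_iff_two_dvd.2 h))
      (σ := s) (Equiv.ext fun i => by rw [pow_one, sq, Equiv.Perm.mul_apply, Equiv.Perm.one_apply]; exact hππ i)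
  have hall : ∀ j, oadj Q (e j) = e j := fun j => by
    obtain ⟨h, hh, he⟩ := hs.trans i₀ j
    rw [← he, oadj_conj C (hH hh), hπ, hi₀]
  obtain ⟨m, hm, hle⟩ := idem_orth_decomp C hH hs ht hall
  exact ⟨t, m, _, ht, decomp_card hm.decomp.decomp, hm, hle⟩

/-- The lines of a frame form an orthogonal decomposition. -/
theorem lines_of_frame (C : Orth.Space Q B) (h2 : (2 : F) ≠ 0) {r : ℕ} (hcard : Fintype.card ι = r)
    (hr : 2 ≤ r) {c : F} (hc : c ≠ 0) {v : Fin r → ι → F}
    (hv : ∀ i j, B (v i) (v j) = if i = j then c else 0) {H : Subgroup (GL ι F)}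
    (hH : H ≤ isometryGroup F Q) (hperm : ∀ g ∈ H, ∀ i, ∃ j, g.val *ᵥ v i ∈ Submodule.span F {v j}) :
    ∃ D : Fin r → Submodule F (ι → F), IsOrthogonalMDecomposition Q 1 D ∧ H ≤ decompositionStabilizer D := by
  classical
  have hne : ∀ i, v i ≠ 0 := fun i h => hc (by
    have := hv i i
    rw [h, map_zero, if_pos rfl] at this
    exact this.symm)
  have hli : LinearIndependent F v := Fintype.linearIndependent_iff.2 fun g hg i => by
    have h1 := congrArg (fun z => B z (v i)) hg
    simp only [map_sum, map_smul, LinearMap.sum_apply, LinearMap.smul_apply, map_zero,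
      LinearMap.zero_apply, hv, smul_eq_mul, mul_ite, mul_zero, Finset.sum_ite_eq', Finset.mem_univ,
      if_true] at h1
    exact (mul_eq_zero.1 h1).resolve_right hc
  refine ⟨fun i => Submodule.span F {v i}, ⟨⟨⟨hr, one_pos, fun i => finrank_span_singleton (hne i),
    hli.iSupIndep_span_singleton, ?_⟩, fun i w hw hw0 => ?_, fun i j hij a ha b hb => ?_⟩, fun i j => ?_⟩,
    fun g hg => ?_⟩
  · rw [← Submodule.span_range_eq_iSup]
    haveI : Nonempty (Fin r) := ⟨⟨0, by omega⟩⟩
    exact hli.span_eq_top_of_card_eq_finrank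
      (by rw [Fintype.card_fin, Module.finrank_fintype_fun_eq_card, hcard])
  · obtain ⟨a, rfl⟩ := Submodule.mem_span_singleton.1 hw
    have ha : a ≠ 0 := fun h => hw0 (by rw [h, zero_smul])
    have h1 : B (v i) (a • v i) = a * c := by rw [map_smul, hv, if_pos rfl, smul_eq_mul]
    exact ⟨⟨v i, Submodule.mem_span_singleton_self _, by rw [C.polar, h1]; exact mul_ne_zero ha hc⟩,
      ⟨v i, Submodule.mem_span_singleton_self _, by rw [C.polar, C.symm, h1]; exact mul_ne_zero ha hc⟩⟩
  · obtain ⟨a, rfl⟩ := Submodule.mem_span_singleton.1 ha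
    obtain ⟨b, rfl⟩ := Submodule.mem_span_singleton.1 hb
    rw [C.polar, map_smul, map_smul, LinearMap.smul_apply, hv, if_neg hij, smul_zero, smul_zero]
  · refine ⟨(LinearEquiv.toSpanNonzeroSingleton F _ _ (hne i)).symm.trans
      (LinearEquiv.toSpanNonzeroSingleton F _ _ (hne j)), fun w => ?_⟩
    have hQ : ∀ l, Q (v l) = c / 2 := fun l => by
      rw [eq_div_iff h2, mul_comm, ← C.self, hv, if_pos rfl]
    obtain ⟨a, rfl⟩ := (LinearEquiv.toSpanNonzeroSingleton F _ _ (hne i)).surjective w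
    rw [LinearEquiv.trans_apply, LinearEquiv.symm_apply_apply]
    simp [LinearEquiv.toSpanNonzeroSingleton_apply, C.smul, hQ]
  · choose π hπ using hperm g hg
    have hex : ∀ i, ∃ μ : F, μ ≠ 0 ∧ g.val *ᵥ v i = μ • v (π i) := fun i => by
      obtain ⟨μ, hμ⟩ := Submodule.mem_span_singleton.1 (hπ i)
      refine ⟨μ, fun h => hne i ?_, hμ.symm⟩
      rw [← inv_mulVec_mulVec g (v i), ← hμ, h, zero_smul, Matrix.mulVec_zero]
    have hinj : Function.Injective π := fun i j hij => by
      by_contra hne'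
      obtain ⟨μ, hμ, hi⟩ := hex i
      obtain ⟨ν, hν, hj⟩ := hex j
      have h1 := C.B_act (hH hg) (v i) (v j)
      rw [hi, hj, hij, map_smul, map_smul, LinearMap.smul_apply, hv, hv, if_pos rfl, if_neg hne'] at h1
      simp [hμ, hν, hc] at h1
    refine ⟨Equiv.ofBijective π (Finite.injective_iff_bijective.1 hinj), fun i => ?_⟩
    obtain ⟨μ, hμ, hi⟩ := hex i
    show (Submodule.span F {v i}).map _ = Submodule.span F {v (π i)}
    rw [Submodule.map_span, Set.image_singleton, Matrix.toLin'_apply, hi]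
    exact Submodule.span_singleton_smul_eq (isUnit_iff_ne_zero.2 hμ) _

end Cfsg.Lib.Linear.AschOrth
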