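import Cfsg.Agent.Lib.Linear.AschOrth.EvenQuad
import Cfsg.Agent.Lib.Linear.Aschbacher.OrthForms

/-!
# Even-dimensional orthogonal groups over subfields
-/

set_option autoImplicit false
set_option linter.unusedSectionVars false
set_option linter.style.haveILetI false

namespace Cfsg.Lib.Linear.AschOrth

open Cfsg.Geo Cfsg.Lib.Linear Cfsg.Lib.Linear.Asch Cfsg.Lib.Linear.AschGen Module
open scoped Matrix MatrixGroups

variable {ι : Type} [Fintype ι] [DecidableEq ι] {F : Type*} [Field F]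
  {Q : (ι → F) → F} {B : LinearMap.BilinForm F (ι → F)} {H G : Subgroup (GL ι F)}

/-- In even characteristic a quadratic form whose polar form is rational on a structure fixed by an
irreducible group with rational entries is itself rational there. -/
theorem rational_of_polar [Finite F] (C : Orth.Space Q B) (h2 : (2 : F) = 0) (hn : 2 ≤ Fintype.card ι)
    (hG : G ≤ isometryGroup F Q) (hirr : ActsIrreducibly (matrixSet G)) {F₁ : Subfield F} (Bm : GL ι F)
    (hrat : ∀ x ∈ G, ∀ i j, (Bm.val * x.val * Bm⁻¹.val) i j ∈ F₁) {ζ : F}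
    (hBF : ∀ u v : ι → F, (∀ i, u i ∈ F₁) → (∀ i, v i ∈ F₁) →
      ζ * B (Bm⁻¹.val *ᵥ u) (Bm⁻¹.val *ᵥ v) ∈ F₁) :
    ∀ u : ι → F, (∀ i, u i ∈ F₁) → ζ * Q (Bm⁻¹.val *ᵥ u) ∈ F₁ := by
  classical
  obtain ⟨φ, hφ⟩ := LinearMap.exists_leftInverse_of_injective (LinearMap.toSpanSingleton F₁ F (1 : F))
    (LinearMap.ker_eq_bot.2 (smul_left_injective F₁ one_ne_zero))
  have hφ1 : φ 1 = 1 := by simpa using LinearMap.congr_fun hφ 1
  let ψ : F → F := fun a => ((φ a : F₁) : F)
  have hψa : ∀ a b, ψ (a + b) = ψ a + ψ b := fun a b => by simp [ψ]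
  have hψl : ∀ c ∈ F₁, ∀ a, ψ (c * a) = c * ψ a := fun c hc a => by
    simp only [ψ]
    rw [show c * a = (⟨c, hc⟩ : F₁) • a from rfl, map_smul, smul_eq_mul, Subfield.coe_mul]
  have hψ1 : ψ 1 = 1 := by simp [ψ, hφ1]
  have hψid : ∀ a ∈ F₁, ψ a = a := fun a ha => by
    conv_lhs => rw [← mul_one a]
    rw [hψl a ha, hψ1, mul_one]
  set P := Bm⁻¹ with hP
  let L0 : (ι → F) → F := fun u => ψ (ζ * Q (P.val *ᵥ u)) - ζ * Q (P.val *ᵥ u)
  have hadd0 : ∀ u v, (∀ i, u i ∈ F₁) → (∀ i, v i ∈ F₁) → L0 (u + v) = L0 u + L0 v := by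
    intro u v hu hv
    simp only [L0, Matrix.mulVec_add, C.add, mul_add, hψa, hψid _ (hBF u v hu hv)]
    ring
  have hsmul0 : ∀ a ∈ F₁, ∀ u, L0 (a • u) = a ^ 2 * L0 u := by
    intro a ha u
    simp only [L0, Matrix.mulVec_smul, C.smul]
    rw [show ζ * (a ^ 2 * Q (P.val *ᵥ u)) = a ^ 2 * (ζ * Q (P.val *ᵥ u)) by ring, hψl _ (pow_mem ha 2)]
    ring
  let e : ι → ι → F := fun i => Pi.single i 1
  have he : ∀ i j, e i j ∈ F₁ := fun i j => by
    simp only [e, Pi.single_apply]
    split_ifs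
    exacts [F₁.one_mem, F₁.zero_mem]
  have hsum0 : ∀ u : ι → F, (∀ i, u i ∈ F₁) → ∀ s : Finset ι,
      (∀ j, (∑ i ∈ s, u i • e i) j ∈ F₁) ∧ L0 (∑ i ∈ s, u i • e i) = ∑ i ∈ s, u i ^ 2 * L0 (e i) := by
    intro u hu s
    induction s using Finset.induction_on with
    | empty =>
      refine ⟨fun j => by simp, ?_⟩
      have := hsmul0 0 F₁.zero_mem (e (Classical.choice (Fintype.card_pos_iff.1 (by omega))))
      simpa using this
    | insert i s hi ih =>
      have hm : ∀ j, (u i • e i) j ∈ F₁ := fun j => by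
        rw [Pi.smul_apply, smul_eq_mul]
        exact F₁.mul_mem (hu i) (he i j)
      rw [Finset.sum_insert hi, Finset.sum_insert hi]
      exact ⟨fun j => by rw [Pi.add_apply]; exact F₁.add_mem (hm j) (ih.1 j),
        by rw [hadd0 _ _ hm ih.1, hsmul0 _ (hu i), ih.2]⟩
  have hexp : ∀ u : ι → F, (∀ i, u i ∈ F₁) → L0 u = ∑ i, u i ^ 2 * L0 (e i) := fun u hu => by
    conv_lhs => rw [pi_eq_sum_univ' u]
    exact (hsum0 u hu Finset.univ).2
  let L : (ι → F) → F := fun v => ∑ i, (Bm.val *ᵥ v) i ^ 2 * L0 (e i)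
  have hLadd : ∀ u v, L (u + v) = L u + L v := by
    intro u v
    simp only [L, Matrix.mulVec_add, Pi.add_apply, ← Finset.sum_add_distrib]
    refine Finset.sum_congr rfl fun i _ => ?_
    linear_combination ((Bm.val *ᵥ u) i * (Bm.val *ᵥ v) i * L0 (e i)) * h2
  have hLsmul : ∀ (c : F) v, L (c • v) = c ^ 2 * L v := by
    intro c v
    simp only [L, Matrix.mulVec_smul, Pi.smul_apply, smul_eq_mul, Finset.mul_sum]
    exact Finset.sum_congr rfl fun i _ => by ring
  have hLP : ∀ u, (∀ i, u i ∈ F₁) → L (P.val *ᵥ u) = L0 u := fun u hu => by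
    rw [hexp u hu]
    simp only [L, hP, mulVec_inv_mulVec]
  have hLg : ∀ g ∈ G, ∀ v, L (g.val *ᵥ v) = L v := by
    intro g hg v
    let μ : (ι → F) →+ F := AddMonoidHom.mk' L hLadd
    set X := Bm.val * g.val * Bm⁻¹.val with hX
    have hPX : ∀ u, P.val *ᵥ (X *ᵥ u) = g.val *ᵥ (P.val *ᵥ u) := fun u => by
      rw [hX, hP, ← Matrix.mulVec_mulVec, ← Matrix.mulVec_mulVec, inv_mulVec_mulVec]
    have hv : v = ∑ i, (Bm.val *ᵥ v) i • (P.val *ᵥ e i) := by
      conv_lhs => rw [← inv_mulVec_mulVec Bm v, pi_eq_sum_univ' (Bm.val *ᵥ v), Matrix.mulVec_sum]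
      simp [e, hP, Matrix.mulVec_smul]
    conv_lhs => rw [hv]
    show μ (g.val *ᵥ ∑ i, (Bm.val *ᵥ v) i • (P.val *ᵥ e i)) = _
    rw [Matrix.mulVec_sum, map_sum]
    refine Finset.sum_congr rfl fun i _ => ?_
    show L (g.val *ᵥ ((Bm.val *ᵥ v) i • (P.val *ᵥ e i))) = _
    rw [Matrix.mulVec_smul, hLsmul, ← hPX]
    have hXe : ∀ j, (X *ᵥ e i) j ∈ F₁ := fun j => by
      simp only [e, Matrix.mulVec_single_one, Matrix.col_apply]
      exact hrat g hg j i
    rw [hLP _ hXe]
    congr 1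
    simp only [L0, hPX, Orth.mem_iso.1 (hG hg)]
  have hzero := semilinear_zero h2 hirr hn hLadd hLsmul (fun g hg v hv => by rw [hLg g hg, hv])
  intro u hu
  have h1 := hzero (P.val *ᵥ u)
  rw [hLP u hu] at h1
  show ζ * Q (P.val *ᵥ u) ∈ F₁
  rw [← sub_eq_zero.1 h1]
  exact (φ _).2

/-- A group normalising an absolutely irreducible group of isometries realised over a proper subfield lies in
a subfield group whose structure carries a multiple of the quadratic form. -/
theorem realisable_even [Fintype F] [Nonempty ι] (C : Orth.Space Q B) (hn : 2 ≤ Fintype.card ι)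
    {F₀ : Subfield F} (hF₀ : F₀ ≠ ⊤)
    (hG : ActsAbsolutelyIrreducibly (matrixSet G)) (hGU : G ≤ isometryGroup F Q)
    (hn' : ∀ g ∈ H, ∀ a ∈ G, g * a * g⁻¹ ∈ G) (hreal : RealisableOver F₀ (matrixSet G)) :
    ∃ (F₁ : Subfield F) (r : ℕ) (P : GL ι F) (ζ : F), F₁ ≠ ⊤ ∧ r.Prime ∧
      Fintype.card F = Nat.card F₁ ^ r ∧ ζ ≠ 0 ∧ IsQuadFormRationalStructure (fun v => ζ * Q v) F₁ P ∧
      H ≤ subfieldSubgroup F₁ P := by
  classical
  obtain ⟨Bm, hB⟩ := hreal
  obtain ⟨F₁, r, hle, hne, hr, hcard⟩ := exists_prime_index hF₀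
  set G₀ := gramMatrix (QuadraticMap.polar Q) with hG₀
  set P₀ : GL ι F := Bm⁻¹ with hP₀
  set J : Matrix ι ι F := P₀.valᵀ * G₀ * P₀.val with hJ
  have hG₀u : IsUnit G₀.det := isUnit_gram C
  have hP₀d : P₀.val.det ≠ 0 := Matrix.GeneralLinearGroup.det_ne_zero P₀
  have hJdet : J.det ≠ 0 := by
    rw [hJ, Matrix.det_mul, Matrix.det_mul, Matrix.det_transpose]
    exact mul_ne_zero (mul_ne_zero hP₀d hG₀u.ne_zero) hP₀d
  have hrat : ∀ x ∈ G, ∀ i j, (Bm.val * x.val * Bm⁻¹.val) i j ∈ F₁ :=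
    fun x hx i j => hle (hB _ (mem_matrixSet hx) i j)
  have hfix : ∀ x ∈ G, (Bm.val * x.val * Bm⁻¹.val)ᵀ * J * (Bm.val * x.val * Bm⁻¹.val) = J := by
    intro x hx
    have h1 : P₀.val * (Bm.val * x.val * Bm⁻¹.val) = x.val * P₀.val := by
      rw [hP₀, ← Matrix.mul_assoc, ← Matrix.mul_assoc, Units.inv_mul, Matrix.one_mul]
    calc (Bm.val * x.val * Bm⁻¹.val)ᵀ * J * (Bm.val * x.val * Bm⁻¹.val)
        = (P₀.val * (Bm.val * x.val * Bm⁻¹.val))ᵀ * G₀ * (P₀.val * (Bm.val * x.val * Bm⁻¹.val)) := by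
          rw [hJ, Matrix.transpose_mul P₀.val]
          simp only [Matrix.mul_assoc]
      _ = P₀.valᵀ * (x.valᵀ * G₀ * x.val) * P₀.val := by
          rw [h1, Matrix.transpose_mul]
          simp only [Matrix.mul_assoc]
      _ = J := by rw [iso_gram C (hGU hx), hJ]
  obtain ⟨i0, j0, h0⟩ : ∃ i j, J i j ≠ 0 := by
    by_contra hne'
    push Not at hne'
    exact hJdet (by rw [show J = 0 from Matrix.ext hne']; exact Matrix.det_zero)
  obtain ⟨φ, hφ⟩ := LinearMap.exists_leftInverse_of_injective (LinearMap.toSpanSingleton F₁ F (J i0 j0))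
    (LinearMap.ker_eq_bot.2 (smul_left_injective F₁ h0))
  have hφ1 : φ (J i0 j0) = 1 := by simpa using LinearMap.congr_fun hφ 1
  let ψ : F → F := fun a => ((φ a : F₁) : F)
  have hψl : ∀ (c : F), c ∈ F₁ → ∀ a, ψ (c * a) = c * ψ a := fun c hc a => by
    simp only [ψ]
    rw [show c * a = (⟨c, hc⟩ : F₁) • a from rfl, map_smul, smul_eq_mul, Subfield.coe_mul]
  have hψs : ∀ (f : ι → F), ψ (∑ k, f k) = ∑ k, ψ (f k) := fun f => by
    simp only [ψ, map_sum, AddSubmonoidClass.coe_finsetSum]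
  have hψL : ∀ A X : Matrix ι ι F, (∀ i j, A i j ∈ F₁) → (A * X).map ψ = A * X.map ψ :=
    fun A X hA => Matrix.ext fun i j => by
      simp only [Matrix.map_apply, Matrix.mul_apply, hψs, hψl _ (hA i _)]
  have hψR : ∀ X A : Matrix ι ι F, (∀ i j, A i j ∈ F₁) → (X * A).map ψ = X.map ψ * A :=
    fun X A hA => Matrix.ext fun i j => by
      simp only [Matrix.map_apply, Matrix.mul_apply, hψs]
      exact Finset.sum_congr rfl fun k _ => by rw [mul_comm, hψl _ (hA k j), mul_comm]
  set M : Matrix ι ι F := J.map ψ with hM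
  have hMfix : ∀ x ∈ G, (Bm.val * x.val * Bm⁻¹.val)ᵀ * M * (Bm.val * x.val * Bm⁻¹.val) = M := by
    intro x hx
    set X := Bm.val * x.val * Bm⁻¹.val with hX
    have hA : ∀ i j, Xᵀ i j ∈ F₁ := fun i j => hrat x hx j i
    rw [hM, ← hψL _ _ hA, ← hψR _ _ (hrat x hx), hfix x hx]
  set M' := Bm.valᵀ * M * Bm.val with hM'
  obtain ⟨c, hc⟩ := hG.2 (G₀⁻¹ * M') (by
    rintro _ ⟨x, hx, rfl⟩
    have e1 : x.valᵀ * M' * x.val = M' := by
      calc x.valᵀ * M' * x.val = (Bm.val * x.val)ᵀ * M * (Bm.val * x.val) := by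
            rw [hM', Matrix.transpose_mul]; simp only [Matrix.mul_assoc]
        _ = Bm.valᵀ * ((Bm.val * x.val * Bm⁻¹.val)ᵀ * M * (Bm.val * x.val * Bm⁻¹.val)) * Bm.val := by
            have h1 : Bm.val * x.val = (Bm.val * x.val * Bm⁻¹.val) * Bm.val := by
              simp only [Matrix.mul_assoc, Units.inv_mul, Matrix.mul_one]
            conv_lhs => rw [h1, Matrix.transpose_mul]
            simp only [Matrix.mul_assoc]
        _ = M' := by rw [hMfix x hx]
    have e2 : G₀ * x.val = (x⁻¹).valᵀ * G₀ := by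
      calc G₀ * x.val = ((x * x⁻¹).valᵀ) * (G₀ * x.val) := by simp
        _ = (x⁻¹).valᵀ * (x.valᵀ * G₀ * x.val) := by
            rw [Units.val_mul, Matrix.transpose_mul]; simp only [Matrix.mul_assoc]
        _ = _ := by rw [iso_gram C (hGU hx)]
    have e3 : M' * x.val = (x⁻¹).valᵀ * M' := by
      calc M' * x.val = ((x * x⁻¹).valᵀ) * (M' * x.val) := by simp
        _ = (x⁻¹).valᵀ * (x.valᵀ * M' * x.val) := by
            rw [Units.val_mul, Matrix.transpose_mul]; simp only [Matrix.mul_assoc]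
        _ = _ := by rw [e1]
    have e4 : G₀⁻¹ * (x⁻¹).valᵀ = x.val * G₀⁻¹ := by
      calc G₀⁻¹ * (x⁻¹).valᵀ = G₀⁻¹ * ((x⁻¹).valᵀ * G₀) * G₀⁻¹ := by
            rw [Matrix.mul_assoc, Matrix.mul_assoc, Matrix.mul_nonsing_inv _ hG₀u, Matrix.mul_one]
        _ = x.val * G₀⁻¹ := by rw [← e2, ← Matrix.mul_assoc G₀⁻¹, Matrix.nonsing_inv_mul _ hG₀u, Matrix.one_mul]
    rw [Matrix.mul_assoc, e3, ← Matrix.mul_assoc, e4, Matrix.mul_assoc])
  have hM'c : M' = c • G₀ := by
    have h1 := congrArg (G₀ * ·) hc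
    simpa [← Matrix.mul_assoc, Matrix.mul_nonsing_inv _ hG₀u] using h1
  have hMc : M = c • J := by
    calc M = P₀.valᵀ * M' * P₀.val := by
          rw [hM', hP₀]
          simp only [← Matrix.mul_assoc, ← Matrix.transpose_mul, Units.mul_inv, Matrix.transpose_one,
            Matrix.one_mul]
          rw [Matrix.mul_assoc, Units.mul_inv, Matrix.mul_one]
      _ = c • J := by rw [hM'c, hJ, Matrix.mul_smul, Matrix.smul_mul]
  have hc0 : c ≠ 0 := by
    intro h
    have h1 := congrFun (congrFun hMc i0) j0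
    rw [h, zero_smul, hM, Matrix.map_apply, Matrix.zero_apply] at h1
    simp only [ψ, hφ1] at h1
    exact one_ne_zero h1
  have hcJ : ∀ i j, c * J i j ∈ F₁ := fun i j => by
    have h1 := congrFun (congrFun hMc i) j
    rw [Matrix.smul_apply, smul_eq_mul, hM, Matrix.map_apply] at h1
    rw [← h1]
    exact (φ _).2
  have hBF : ∀ u v : ι → F, (∀ i, u i ∈ F₁) → (∀ i, v i ∈ F₁) →
      c * B (P₀.val *ᵥ u) (P₀.val *ᵥ v) ∈ F₁ := by
    intro u v hu hv
    have h1 : B (P₀.val *ᵥ u) (P₀.val *ᵥ v) = u ⬝ᵥ J *ᵥ v := by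
      rw [B_gram C, hJ, ← Matrix.mulVec_mulVec, ← Matrix.mulVec_mulVec,
        Matrix.dotProduct_mulVec u P₀.valᵀ, Matrix.vecMul_transpose]
    rw [h1, dotProduct, Finset.mul_sum]
    refine sum_mem fun i _ => ?_
    rw [Matrix.mulVec, dotProduct, Finset.mul_sum, Finset.mul_sum]
    refine sum_mem fun j _ => ?_
    rw [show c * (u i * (J i j * v j)) = u i * (c * J i j) * v j by ring]
    exact F₁.mul_mem (F₁.mul_mem (hu i) (hcJ i j)) (hv j)
  refine ⟨F₁, r, P₀, c, hne, hr, hcard, hc0, ?_, fun h hh => ?_⟩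
  · by_cases h2 : (2 : F) = 0
    · exact rational_of_polar C h2 hn hGU hG.1 Bm hrat hBF
    · intro u hu
      show c * Q (P₀.val *ᵥ u) ∈ F₁
      rw [show c * Q (P₀.val *ᵥ u) = c * B (P₀.val *ᵥ u) (P₀.val *ᵥ u) / 2 by
        rw [C.self]; field_simp]
      exact F₁.div_mem (hBF u u hu hu) (by simpa using F₁.natCast_mem 2)
  · rw [mem_subfieldSubgroup_iff, hP₀, inv_inv]
    exact ratG_mono le_rfl (rat_normalizer hG F₁ Bm hrat (hn' h hh))

/-- A totally singular family with dual partners of half the dimension makes the space of plus type. -/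
theorem plus_of_pairs (C : Orth.Space Q B) {κ : Type} [Fintype κ] [DecidableEq κ]
    (hκ : 2 * Fintype.card κ = Fintype.card ι) (x f : κ → ι → F) (hx : ∀ i, Q (x i) = 0)
    (hxx : ∀ i j, B (x i) (x j) = 0) {c : κ → F} (hc : ∀ i, c i ≠ 0)
    (hxf : ∀ i j, B (x i) (f j) = if i = j then c i else 0) : IsPlusTypeOn Q (⊤ : Submodule F (ι → F)) := by
  have hB0 : ∀ a ∈ Submodule.span F (Set.range x), ∀ b ∈ Submodule.span F (Set.range x), B a b = 0 := by
    intro a ha b hb
    have h1 : Submodule.span F (Set.range x) ≤ LinearMap.ker (B.flip b) := by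
      refine Submodule.span_le.2 ?_
      rintro _ ⟨i, rfl⟩
      have h2 : Submodule.span F (Set.range x) ≤ LinearMap.ker (B (x i)) := by
        refine Submodule.span_le.2 ?_
        rintro _ ⟨j, rfl⟩
        exact LinearMap.mem_ker.2 (hxx i j)
      show B.flip b (x i) = 0
      exact LinearMap.mem_ker.1 (h2 hb)
    exact LinearMap.mem_ker.1 (h1 ha)
  have hli : LinearIndependent F x := Fintype.linearIndependent_iff.2 fun g hg i => by
    have h1 := congrArg (fun z => B z (f i)) hg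
    simp only [map_sum, map_smul, LinearMap.sum_apply, LinearMap.smul_apply, map_zero, LinearMap.zero_apply,
      hxf, smul_eq_mul, mul_ite, mul_zero, Finset.sum_ite_eq', Finset.mem_univ, if_true] at h1
    exact (mul_eq_zero.1 h1).resolve_right (hc i)
  refine ⟨Submodule.span F (Set.range x), le_top, fun w hw => ?_, ?_⟩
  · induction hw using Submodule.span_induction with
    | mem w hw => obtain ⟨i, rfl⟩ := hw; exact hx i
    | zero => exact C.zero
    | add a b ha hb iha ihb => rw [C.add, iha, ihb, hB0 a ha b hb, add_zero, add_zero]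
    | smul t a _ iha => rw [C.smul, iha, mul_zero]
  · rw [finrank_span_eq_card hli, finrank_top, finrank_fintype_fun_eq_card, hκ]

open Polynomial in
/-- An irreducible quadratic over a subfield of index two has a simple root. -/
theorem exists_root_two [Fintype F] {F₁ : Subfield F} (hcard : Fintype.card F = Nat.card F₁ ^ 2) {a : F₁}
    (ha : ∀ z₁ z₂ : F₁, z₁ ^ 2 + 1 * z₁ * z₂ + a * z₂ ^ 2 = 0 → z₁ = 0 ∧ z₂ = 0) :
    ∃ t : F, t ^ 2 + t + (a : F) = 0 ∧ 2 * t + 1 ≠ 0 := by
  classical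
  haveI : Finite F₁ := inferInstance
  set p : F₁[X] := X ^ 2 + X + C a with hp
  have hnat : p.natDegree = 2 := by
    rw [hp]; compute_degree!
  have hmon : p.Monic := by
    rw [hp]; monicity!
  have hnoroot : ∀ s : F₁, s ^ 2 + s + a ≠ 0 := fun s hs =>
    one_ne_zero (α := F₁) (ha s 1 (by linear_combination hs)).2
  have hirr : Irreducible p := by
    rw [irreducible_iff_roots_eq_zero_of_degree_le_three (by omega) (by omega)]
    refine Multiset.eq_zero_of_forall_notMem fun s hs => hnoroot s ?_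
    have := (Polynomial.mem_roots hmon.ne_zero).1 hs
    simpa [hp] using this
  haveI := Fact.mk hirr
  have hd : Module.finrank F₁ (AdjoinRoot p) = 2 := by
    rw [← hnat]; exact finrank_quotient_span_eq_natDegree
  have hd2 : Module.finrank F₁ F = 2 := by
    haveI : Module.Finite F₁ F := Module.Finite.of_finite
    have h1 := Module.natCard_eq_pow_finrank (K := F₁) (V := F)
    rw [Nat.card_eq_fintype_card (α := F), hcard] at h1
    exact (Nat.pow_right_injective Finite.one_lt_card h1).symm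
  obtain ⟨σ⟩ := FiniteField.nonempty_algHom_of_finrank_dvd (F := F₁) (K := AdjoinRoot p) (L := F)
    (by rw [hd, hd2])
  set t := σ (AdjoinRoot.root p) with ht
  have h1 : t ^ 2 + t + (a : F) = 0 := by
    have h : aeval t p = 0 := by
      rw [ht, aeval_algHom_apply, AdjoinRoot.aeval_eq, AdjoinRoot.mk_self, map_zero]
    simp only [hp, map_add, map_pow, aeval_X, aeval_C] at h
    exact h
  refine ⟨t, h1, fun h2t => ?_⟩
  by_cases h2 : (2 : F) = 0
  · exact one_ne_zero (α := F) (by linear_combination h2t - t * h2)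
  · refine hnoroot ⟨-(1 / 2), F₁.neg_mem (F₁.div_mem F₁.one_mem (by simpa using F₁.natCast_mem 2))⟩ ?_
    apply Subtype.ext
    have htv : t = -(1 / 2) := by field_simp; linear_combination h2t
    rw [htv] at h1
    simpa using h1

/-- A rational structure over a subfield of index two makes the form of plus type. -/
theorem plus_of_index_two [Fintype F] (C : Orth.Space Q B) {m : ℕ} (hm : 1 ≤ m)
    (hcard : Fintype.card ι = 2 * m) {F₁ : Subfield F} (hF : Fintype.card F = Nat.card F₁ ^ 2) {P : GL ι F}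
    {ζ : F} (hζ : ζ ≠ 0) (hrat : IsQuadFormRationalStructure (fun v => ζ * Q v) F₁ P) :
    IsPlusTypeOn Q (⊤ : Submodule F (ι → F)) := by
  classical
  haveI : Finite F₁ := inferInstance
  let up : (ι → F₁) → (ι → F) := fun u => P.val *ᵥ fun i => ((u i : F₁) : F)
  have hup_add : ∀ u v, up (u + v) = up u + up v := fun u v => by
    rw [← Matrix.mulVec_add]; rfl
  have hup_smul : ∀ (c : F₁) u, up (c • u) = (c : F) • up u := fun c u => by
    rw [← Matrix.mulVec_smul]; rfl
  let Q₁ : (ι → F₁) → F₁ := fun u => ⟨ζ * Q (up u), hrat _ fun i => (u i).2⟩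
  have hmem : ∀ u v, ζ * B (up u) (up v) ∈ F₁ := fun u v => by
    have h1 : ζ * B (up u) (up v) = (Q₁ (u + v) : F) - Q₁ u - Q₁ v := by
      show _ = ζ * Q (up (u + v)) - ζ * Q (up u) - ζ * Q (up v)
      rw [hup_add, C.add]; ring
    rw [h1]
    exact F₁.sub_mem (F₁.sub_mem (Q₁ _).2 (Q₁ _).2) (Q₁ _).2
  let B₁ : LinearMap.BilinForm F₁ (ι → F₁) := LinearMap.mk₂ F₁ (fun u v => ⟨ζ * B (up u) (up v), hmem u v⟩)
    (fun u u' v => Subtype.ext (by simp [hup_add, mul_add]))
    (fun c u v => Subtype.ext (by simp [hup_smul]; ring))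
    (fun u v v' => Subtype.ext (by simp [hup_add, mul_add]))
    (fun c u v => Subtype.ext (by simp [hup_smul]; ring))
  have C₁ : Orth.Space Q₁ B₁ :=
    ⟨fun c v => Subtype.ext (by
      show ζ * Q (up (c • v)) = ((c : F) ^ 2) * (ζ * Q (up v))
      rw [hup_smul, C.smul]; ring),
    fun u v => Subtype.ext (by
      show ζ * Q (up (u + v)) - ζ * Q (up u) - ζ * Q (up v) = ζ * B (up u) (up v)
      rw [hup_add, C.add]; ring),
    fun v hv => by
      have h1 : up v = 0 := C.nondeg _ fun w => by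
        rw [← mulVec_inv_mulVec P w, pi_eq_sum_univ' ((P⁻¹).val *ᵥ w), Matrix.mulVec_sum, map_sum,
          LinearMap.sum_apply]
        refine Finset.sum_eq_zero fun i _ => ?_
        rw [Matrix.mulVec_smul, map_smul, LinearMap.smul_apply]
        have h2 : ζ * B (up (Pi.single i 1)) (up v) = 0 := congrArg Subtype.val (hv (Pi.single i 1))
        have h3 : up (Pi.single i 1) = P.val *ᵥ Pi.single i 1 := by
          show P.val *ᵥ _ = _
          congr 1
          funext j
          simp only [Pi.single_apply]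
          split_ifs <;> rfl
        rw [h3] at h2
        rw [(mul_eq_zero.1 h2).resolve_left hζ, smul_zero]
      have h2 := congrArg ((P⁻¹).val *ᵥ ·) h1
      simp only [up, inv_mulVec_mulVec, Matrix.mulVec_zero] at h2
      exact funext fun i => Subtype.ext (congrFun h2 i)⟩
  have hQup : ∀ u, Q (up u) = ζ⁻¹ * (Q₁ u : F) := fun u => by
    show _ = ζ⁻¹ * (ζ * Q (up u)); rw [inv_mul_cancel_left₀ hζ]
  have hBup : ∀ u v, B (up u) (up v) = ζ⁻¹ * ((Q₁ (u + v) - Q₁ u - Q₁ v : F₁) : F) := fun u v => by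
    show _ = ζ⁻¹ * (ζ * Q (up (u + v)) - ζ * Q (up u) - ζ * Q (up v))
    rw [hup_add, C.add]; field_simp; ring
  rcases NondegFix.exists_std C₁ hm (W := ⊤) (by rw [finrank_top, finrank_fintype_fun_eq_card, hcard])
    C₁.ndeg_top with ⟨E, hE, -⟩ | ⟨a, ha, E, hE, -⟩
  · refine plus_of_pairs C (κ := Fin m) (by rw [Fintype.card_fin, hcard])
      (fun i => up (E (Pi.single (.inl i) 1))) (fun i => up (E (Pi.single (.inr i) 1)))
      (fun i => ?_) (fun i j => ?_) (c := fun _ => ζ⁻¹) (fun _ => inv_ne_zero hζ) (fun i j => ?_)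
    · rw [hQup, hE]; simp [Cfsg.quadFormPlus]
    · rw [hBup, ← map_add, hE, hE, hE]; simp [Cfsg.quadFormPlus]
    · rw [hBup, ← map_add, hE, hE, hE]
      rcases eq_or_ne i j with rfl | h
      · simp [Cfsg.quadFormPlus, Pi.single_apply]
      · simp [Cfsg.quadFormPlus, Pi.single_apply, h, h.symm]
  · obtain ⟨t, ht, ht'⟩ := exists_root_two hF ha
    let y := up (E (Pi.single (.inr 0) 1))
    let z := up (E (Pi.single (.inr 1) 1))
    let xs : Fin (m - 1) → ι → F := fun i => up (E (Pi.single (.inl (.inl i)) 1))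
    let fs : Fin (m - 1) → ι → F := fun i => up (E (Pi.single (.inl (.inr i)) 1))
    have hQy : Q y = ζ⁻¹ := by rw [hQup, hE]; simp [Cfsg.quadFormMinus]
    have hQz : Q z = ζ⁻¹ * (a : F) := by rw [hQup, hE]; simp [Cfsg.quadFormMinus]
    have hyz : B y z = ζ⁻¹ := by rw [hBup, ← map_add, hE, hE, hE]; simp [Cfsg.quadFormMinus]; ring
    have hxy : ∀ i, B (xs i) y = 0 := fun i => by
      rw [hBup, ← map_add, hE, hE, hE]; simp [Cfsg.quadFormMinus]
    have hxz : ∀ i, B (xs i) z = 0 := fun i => by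
      rw [hBup, ← map_add, hE, hE, hE]; simp [Cfsg.quadFormMinus]
    have hfy : ∀ i, B (fs i) y = 0 := fun i => by
      rw [hBup, ← map_add, hE, hE, hE]; simp [Cfsg.quadFormMinus]
    have hfz : ∀ i, B (fs i) z = 0 := fun i => by
      rw [hBup, ← map_add, hE, hE, hE]; simp [Cfsg.quadFormMinus]
    have hQxs : ∀ i, Q (xs i) = 0 := fun i => by rw [hQup, hE]; simp [Cfsg.quadFormMinus]
    have hxx : ∀ i j, B (xs i) (xs j) = 0 := fun i j => by
      rw [hBup, ← map_add, hE, hE, hE]; simp [Cfsg.quadFormMinus]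
    have hxf : ∀ i j, B (xs i) (fs j) = if i = j then ζ⁻¹ else 0 := fun i j => by
      rw [hBup, ← map_add, hE, hE, hE]
      rcases eq_or_ne i j with rfl | h
      · simp [Cfsg.quadFormMinus, Pi.single_apply]
      · simp [Cfsg.quadFormMinus, Pi.single_apply, h, h.symm]
    refine plus_of_pairs C (κ := Fin (m - 1) ⊕ Unit)
      (by rw [Fintype.card_sum, Fintype.card_fin, Fintype.card_unit, hcard]; omega)
      (Sum.elim xs fun _ => t • y + z) (Sum.elim fs fun _ => y) ?_ ?_
      (c := Sum.elim (fun _ => ζ⁻¹) fun _ => ζ⁻¹ * (2 * t + 1)) ?_ ?_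
    · rintro (i | u)
      · exact hQxs i
      · show Q (t • y + z) = 0
        rw [C.add, C.smul, map_smul, LinearMap.smul_apply, smul_eq_mul, hQy, hQz, hyz]
        linear_combination ζ⁻¹ * ht
    · have hs : B (t • y + z) (t • y + z) = 0 := by
        rw [C.self, C.add, C.smul, map_smul, LinearMap.smul_apply, smul_eq_mul, hQy, hQz, hyz]
        linear_combination 2 * ζ⁻¹ * ht
      rintro (i | u) (j | v)
      · exact hxx i j
      · simp [hxy, hxz]
      · show B (t • y + z) (xs j) = 0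
        rw [C.symm]; simp [hxy, hxz]
      · exact hs
    · rintro (i | u)
      · exact inv_ne_zero hζ
      · exact mul_ne_zero (inv_ne_zero hζ) ht'
    · rintro (i | u) (j | v)
      · simpa using hxf i j
      · simp [hxy]
      · show B (t • y + z) (fs j) = _
        rw [C.symm]; simp [hfy, hfz]
      · show B (t • y + z) y = _
        rw [map_add, LinearMap.add_apply, map_smul, LinearMap.smul_apply, smul_eq_mul, C.self, C.symm z y, hQy,
          hyz]
        simp
        ring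

end Cfsg.Lib.Linear.AschOrth
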