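import Cfsg.Agent.Lib.Linear.AschOrth.EvenTensor
import Cfsg.Agent.Lib.Linear.AschOrth.EvenSubfield
import Cfsg.Agent.Lib.Linear.AschSp.TensorPow
import Cfsg.Agent.Lib.Linear.AschGen.Structures

/-!
# Tensor powers and groups of symplectic type in dimension eight

Both force the space to be of plus type.
-/

set_option autoImplicit false
set_option linter.unusedSectionVars false
set_option linter.style.haveILetI false

namespace Cfsg.Lib.Linear.AschOrth

open Cfsg.Geo Cfsg.Lib.Linear Cfsg.Lib.Linear.Asch Cfsg.Lib.Linear.AschGen Module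
open Cfsg.Lib.Linear.AschSp (pureVec pureTens_mulVec pureVec_dot scalar_of_comm_powStd wreath_pureVec)
open scoped Matrix MatrixGroups commutatorElement

variable {ι : Type} [Fintype ι] [DecidableEq ι] {F : Type*} [Field F]
  {Q : (ι → F) → F} {B : LinearMap.BilinForm F (ι → F)} {H : Subgroup (GL ι F)}

/-- An element with a coordinate matrix of determinant one in a perfect factor. -/
theorem perfect_det_one {d t : ℕ} [NeZero d] {M : Subgroup (GL ι F)} (hM : ⁅M, M⁆ = M)
    {e : ι ≃ (Fin t → Fin d)} {P : GL ι F} {i : Fin t}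
    (hspan : ∀ g ∈ M, ∃ a, g.val = powEmb e P i a) {g : GL ι F} (hg : g ∈ M) :
    ∃ a, g.val = powEmb e P i a ∧ a.det = 1 := by
  have hinj := powEmb_injective (F := F) (Nat.pos_of_ne_zero (NeZero.ne d)) e P i
  have hmul : ∀ a b, powEmb e P i (a * b) = powEmb e P i a * powEmb e P i b := fun a b => by
    show tm e P _ = tm e P _ * tm e P _
    rw [← tm_mul, powStd_mul]
  have hone : powEmb e P i (1 : Matrix (Fin d) (Fin d) F) = 1 := by
    show tm e P _ = 1
    rw [powStd_one, tm_one]
  have hinv : ∀ {x : GL ι F} {a a' : Matrix (Fin d) (Fin d) F}, x.val = powEmb e P i a →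
      (x⁻¹).val = powEmb e P i a' → a.det * a'.det = 1 := fun {x a a'} ha ha' => by
    have h1 : a * a' = 1 := hinj (by rw [hmul, ← ha, ← ha', ← Units.val_mul, mul_inv_cancel, Units.val_one, hone])
    rw [← Matrix.det_mul, h1, Matrix.det_one]
  have hcl : g ∈ ⁅M, M⁆ := hM.symm ▸ hg
  rw [Subgroup.commutator_def] at hcl
  induction hcl using Subgroup.closure_induction with
  | mem z hz =>
    obtain ⟨x, hx, y, hy, rfl⟩ := hz
    obtain ⟨a, ha⟩ := hspan x hx
    obtain ⟨a', ha'⟩ := hspan _ (inv_mem hx)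
    obtain ⟨b, hb⟩ := hspan y hy
    obtain ⟨b', hb'⟩ := hspan _ (inv_mem hy)
    refine ⟨a * b * a' * b', ?_, ?_⟩
    · rw [hmul, hmul, hmul, ← ha, ← hb, ← ha', ← hb', commutatorElement_def, Units.val_mul, Units.val_mul,
        Units.val_mul]
    · rw [Matrix.det_mul, Matrix.det_mul, Matrix.det_mul]
      linear_combination (b.det * b'.det) * hinv ha ha' + hinv hb hb'
  | one => exact ⟨1, by rw [Units.val_one, hone], Matrix.det_one⟩
  | mul x y _ _ hx hy =>
    obtain ⟨a, ha, ha1⟩ := hx (by rename_i h1 h2; exact hM ▸ (Subgroup.commutator_def M M).symm ▸ h1)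
    obtain ⟨b, hb, hb1⟩ := hy (by rename_i h1 h2; exact hM ▸ (Subgroup.commutator_def M M).symm ▸ h2)
    exact ⟨a * b, by rw [Units.val_mul, hmul, ha, hb], by rw [Matrix.det_mul, ha1, hb1, one_mul]⟩
  | inv x _ hx =>
    have hxM : x ∈ M := by rename_i h1; exact hM ▸ (Subgroup.commutator_def M M).symm ▸ h1
    obtain ⟨a, ha, ha1⟩ := hx hxM
    obtain ⟨a', ha'⟩ := hspan _ (inv_mem hxM)
    exact ⟨a', ha', by simpa [ha1] using hinv ha ha'⟩

theorem planeJ_transpose : (planeJ F)ᵀ = (-1 : F) • planeJ F := by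
  ext i j; fin_cases i <;> fin_cases j <;> simp [planeJ]

/-- A tensor power of three planes held by isometries makes the space of plus type. -/
theorem pow_eight_plus [Fintype F] (C : Orth.Space Q B) (hn : 2 ≤ Fintype.card ι) (hH : H ≤ isometryGroup F Q)
    (hirr : ActsIrreducibly (matrixSet H)) {M : Fin 3 → Subgroup (GL ι F)} {e : ι ≃ (Fin 3 → Fin 2)} {P : GL ι F}
    (hM : PowData H M e P) : IsPlusTypeOn Q (⊤ : Submodule F (ι → F)) := by
  classical
  have hpe : ∀ i a, powEmb e P i a = tm e P (powStd i a) := fun i a => rfl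
  let J3 : Matrix (Fin 3 → Fin 2) (Fin 3 → Fin 2) F := pureTens fun _ => planeJ F
  let K : Matrix (Fin 3 → Fin 2) (Fin 3 → Fin 2) F := pureTens fun _ => -planeJ F
  have hKJ : K * J3 = 1 ∧ J3 * K = 1 := by
    have hJJ : (-planeJ F) * planeJ F = 1 := by
      ext i j; fin_cases i <;> fin_cases j <;> simp [planeJ]
    constructor
    · simp only [K, J3, pureTens_mul, hJJ, pureTens_one]
    · simp only [K, J3, pureTens_mul, mul_eq_one_comm.1 hJJ, pureTens_one]
  have hcomm : ∀ i, ∀ g ∈ M i, Commute (tm e P (K * gO e P Q)) g.val := by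
    intro i g hg
    obtain ⟨a, ha, hdet⟩ := perfect_det_one (hM.perfect i)
      (fun x hx => (hM.span i _).1 (Algebra.subset_adjoin (mem_matrixSet hx))) hg
    rw [hpe] at ha
    set X := powStd i a with hX
    have hG : Xᵀ * gO e P Q * X = gO e P Q := gO_fix C (hH (hM.le i hg)) ha
    have hJ : Xᵀ * J3 * X = J3 := by
      simp only [hX, powStd, J3]
      rw [AschGen.pureTens_transpose, pureTens_mul, pureTens_mul]
      congr 1
      funext j
      rcases eq_or_ne j i with rfl | hj
      · simp [planeJ_act, hdet]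
      · simp [hj]
    have hXX : X * (K * Xᵀ * J3) = 1 := by
      refine mul_eq_one_comm.1 ?_
      rw [Matrix.mul_assoc, Matrix.mul_assoc, show Xᵀ * (J3 * X) = J3 by rw [← Matrix.mul_assoc, hJ], hKJ.1]
    have hXK : X * K * Xᵀ = K := by
      calc X * K * Xᵀ = X * K * Xᵀ * (J3 * K) := by rw [hKJ.2, Matrix.mul_one]
        _ = X * (K * Xᵀ * J3) * K := by simp only [Matrix.mul_assoc]
        _ = K := by rw [hXX, Matrix.one_mul]
    show _ = _
    rw [ha, ← tm_mul, ← tm_mul]
    congr 1
    calc K * gO e P Q * X = X * K * Xᵀ * gO e P Q * X := by rw [hXK]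
      _ = X * K * (Xᵀ * gO e P Q * X) := by simp only [Matrix.mul_assoc]
      _ = X * (K * gO e P Q) := by rw [hG, Matrix.mul_assoc]
  have hall : ∀ i a, Commute (K * gO e P Q) (powStd i a) := by
    intro i a
    refine tm_inj e P ?_
    show tm e P _ = tm e P _
    rw [tm_mul e P (K * gO e P Q), tm_mul e P (powStd i a)]
    have h1 : tm e P (powStd i a) ∈ adj (M i) := (hM.span i _).2 ⟨a, (hpe i a).symm⟩
    exact (Algebra.commute_of_mem_adjoin_of_forall_mem_commute (a := tm e P (K * gO e P Q)) h1 (by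
      rintro _ ⟨g, hg, rfl⟩
      exact hcomm i g hg)).eq
  obtain ⟨c, hc⟩ := scalar_of_comm_powStd hall
  have hG : gO e P Q = c • J3 := by
    calc gO e P Q = J3 * (K * gO e P Q) := by rw [← Matrix.mul_assoc, hKJ.2, Matrix.one_mul]
      _ = c • J3 := by rw [hc, Matrix.mul_smul, Matrix.mul_one]
  have hc0 : c ≠ 0 := fun h => by
    have hu := gO_isUnit (e := e) (P := P) C
    rw [hG, h, zero_smul] at hu
    exact hu.ne_zero (Matrix.det_eq_zero_of_row_eq_zero (fun _ => 0) fun _ => rfl)
  by_cases h2 : (2 : F) = 0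
  swap
  · exfalso
    have h1 := gO_transpose (e := e) (P := P) (Q := Q)
    rw [hG, Matrix.transpose_smul, AschGen.pureTens_transpose] at h1
    simp only [planeJ_transpose, AschGen.pureTens_smul] at h1
    have h3 := congrFun (congrFun h1 fun _ => 0) fun _ => 1
    simp [J3, pureTens, planeJ, Fin.prod_univ_three] at h3
    exact hc0 ((mul_eq_zero.1 (show (2 : F) * c = 0 by linear_combination -h3)).resolve_left h2)
  let U0 : Matrix (Fin 2) (Fin 2) F := !![0, 1; 0, 0]
  have hU0 : U0 + U0ᵀ = planeJ F := by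
    ext i j
    fin_cases i <;> fin_cases j <;> simp [U0, planeJ]
    linear_combination h2
  have hsing := coord_singular C h2 hn hH hirr (e := e) (P := P)
    (U := c • pureTens (Function.update (fun _ : Fin 3 => planeJ F) 0 U0)) ?_
    (Set.range (pureVec (F := F) (t := 3) (d := 2))) ?_ ?_ ?_
  rotate_left
  · have hone : (-1 : F) = 1 := by linear_combination -h2
    rw [hG, Matrix.transpose_smul, AschGen.pureTens_transpose, ← smul_add]
    congr 1
    ext x y
    simp only [Matrix.add_apply, pureTens, Matrix.of_apply, J3, Fin.prod_univ_three, ← hU0]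
    have hJT : (planeJ F)ᵀ = planeJ F := by rw [planeJ_transpose, hone, one_smul]
    simp [Function.update_of_ne, hJT, ← hU0]
    ring
  · intro b
    refine ⟨fun i => Pi.single (b i) 1, funext fun x => ?_⟩
    by_cases hx : x = b
    · subst hx; simp [pureVec]
    · obtain ⟨i, hi⟩ := Function.ne_iff.1 hx
      rw [Pi.single_eq_of_ne hx, pureVec]
      exact Finset.prod_eq_zero (Finset.mem_univ i) (Pi.single_eq_of_ne hi _)
  · rintro _ ⟨u, rfl⟩
    rw [Matrix.smul_mulVec, dotProduct_smul, pureTens_mulVec, pureVec_dot]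
    rw [Finset.prod_eq_zero (Finset.mem_univ (1 : Fin 3)) ?_, smul_zero]
    rw [Function.update_of_ne (by decide)]
    simp [planeJ, Matrix.mulVec, dotProduct, Fin.sum_univ_two]
    ring
  · rintro g hg _ ⟨u, rfl⟩
    obtain ⟨_, ⟨x, hx, rfl⟩, rfl⟩ := hM.stab hg
    obtain ⟨u', hu'⟩ := wreath_pureVec hx u
    refine ⟨_, ⟨u', rfl⟩, ?_⟩
    have : (MulAut.conj P (glReindex e.symm x)).val = tm e P x.val := by
      rw [tm, conjA_apply]; rfl
    show (MulAut.conj P (glReindex e.symm x)).val *ᵥ _ = _
    rw [this, tm_act, hu']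
  let pv : (Fin 3 → Fin 2) → ι → F := fun b => P.val *ᵥ ((Pi.single b (1 : F)) ∘ e)
  have hB : ∀ a b, B (pv a) (pv b) = c * ∏ i, planeJ F (a i) (b i) := fun a b => by
    rw [coord_form C, hG]
    simp [J3, pureTens, Matrix.mulVec_single_one]
  refine plus_of_pairs C (κ := Fin 2 × Fin 2) (by simp [Fintype.card_congr e])
    (fun p => pv ![0, p.1, p.2]) (fun p => pv ![1, 1 - p.1, 1 - p.2]) (fun p => ?_) (fun p r => ?_)
    (c := fun p => c * ∏ i, planeJ F (![0, p.1, p.2] i) (![1, 1 - p.1, 1 - p.2] i)) (fun p => ?_) (fun p r => ?_)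
  · refine hsing _ ⟨fun i => Pi.single (![0, p.1, p.2] i) 1, funext fun x => ?_⟩
    by_cases hx : x = ![0, p.1, p.2]
    · subst hx; simp [pureVec]
    · obtain ⟨i, hi⟩ := Function.ne_iff.1 hx
      rw [Pi.single_eq_of_ne hx, pureVec]
      exact Finset.prod_eq_zero (Finset.mem_univ i) (Pi.single_eq_of_ne hi _)
  · rw [hB, Finset.prod_eq_zero (Finset.mem_univ (0 : Fin 3)) (by simp [planeJ]), mul_zero]
  · refine mul_ne_zero hc0 ?_
    obtain ⟨a, b⟩ := p
    fin_cases a <;> fin_cases b <;> simp [planeJ, Fin.prod_univ_three]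
  · rw [hB]
    split_ifs with h
    · rw [h]
    · obtain ⟨a, b⟩ := p
      obtain ⟨a', b'⟩ := r
      fin_cases a <;> fin_cases b <;> fin_cases a' <;> fin_cases b' <;>
        simp [planeJ, Fin.prod_univ_three] at h ⊢

/-- A normal subgroup of symplectic type in dimension eight makes the space of plus type. -/
theorem six_eight_plus [Fintype F] (C : Orth.Space Q B) (hcard : Fintype.card ι = 8) (hH : H ≤ isometryGroup F Q)
    {R : Subgroup (GL ι F)} {r m : ℕ} (h6 : Six H R r m) : IsPlusTypeOn Q (⊤ : Submodule F (ι → F)) := by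
  classical
  haveI : Nonempty ι := Fintype.card_pos_iff.1 (by omega)
  obtain ⟨rfl, rfl⟩ : r = 2 ∧ m = 3 := by
    have h1 : r ^ m = 2 ^ 3 := by rw [← h6.card_eq, hcard]; norm_num
    obtain rfl : r = 2 := by
      have h3 : r ∣ 2 ^ 3 := h1 ▸ dvd_pow_self r h6.pos.ne'
      exact (Nat.prime_dvd_prime_iff_eq h6.symp.prime Nat.prime_two).1 (h6.symp.prime.dvd_of_dvd_pow h3)
    exact ⟨rfl, Nat.pow_right_injective le_rfl h1⟩
  have h2 : (2 : F) ≠ 0 := by exact_mod_cast h6.char_ne
  have hR : R ≤ isometryGroup F Q := h6.sub.le.trans hH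
  obtain ⟨v₀, hv₀⟩ : ∃ v, Q v ≠ 0 := by
    obtain ⟨e, f, a, he, hf, hef, -⟩ := exists_triple C (by omega)
    exact ⟨e + f, by rw [C.add, he, hf, hef]; simp⟩
  have hsign : ∀ g ∈ R, g ∈ scalars ι F → g.val = 1 ∨ g.val = -1 := by
    intro g hg hs
    obtain ⟨c, hc⟩ := (mem_scalars_iff g).1 hs
    have h1 := Orth.mem_iso.1 (hR hg) v₀
    rw [hc, Matrix.smul_mulVec, Matrix.one_mulVec, C.smul] at h1
    rcases sq_eq_one_iff.1 ((mul_eq_right₀ hv₀).1 h1) with h | h
    · exact Or.inl (by rw [hc, h, one_smul])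
    · exact Or.inr (by rw [hc, h, neg_one_smul])
  have hflip : ∀ g ∈ R, ∀ x ∈ R, conjA g x.val = x.val ∨ conjA g x.val = -x.val := by
    intro g hg x hx
    have he : g * x * g⁻¹ = ⁅g, x⁆ * x := by rw [commutatorElement_def]; group
    have hc : ⁅g, x⁆ ∈ scalars ι F := h6.comm_scalar (Subgroup.commutator_mem_commutator hg hx)
    rw [conjA_apply, ← Units.val_mul, ← Units.val_mul, he, Units.val_mul]
    rcases hsign _ (mul_mem (mul_mem (mul_mem hg hx) (inv_mem hg)) (inv_mem hx)) hc with h | h
    · exact Or.inl (by rw [show (⁅g, x⁆ : GL ι F).val = 1 from h, Matrix.one_mul])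
    · exact Or.inr (by rw [show (⁅g, x⁆ : GL ι F).val = -1 from h, Matrix.neg_mul, Matrix.one_mul])
  have hnc : ∀ x ∈ R, x ∉ scalars ι F → ∃ y ∈ R, conjA y x.val = -x.val := by
    intro x hx hxs
    obtain ⟨y, hy, hyx⟩ : ∃ y ∈ R, x * y ≠ y * x := by
      by_contra hne
      push Not at hne
      exact hxs (absIrr_center h6.absIrr hne)
    refine ⟨y, hy, (hflip y hy x hx).resolve_left fun h => hyx ?_⟩
    have h3 : y * x * y⁻¹ = x := Units.ext (by rwa [conjA_apply, ← Units.val_mul, ← Units.val_mul] at h)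
    exact (mul_inv_eq_iff_eq_mul.1 h3).symm
  obtain ⟨x, hx, hxs, hx2⟩ : ∃ x ∈ R, x ∉ scalars ι F ∧ x.val * x.val = 1 := by
    have hns : ¬ R ≤ scalars ι F := fun h => not_irr_scalars (by omega) h h6.absIrr.1
    obtain ⟨x, hx, hxs⟩ := Set.not_subset.1 hns
    by_contra hcon
    push Not at hcon
    have hneg : ∀ g ∈ R, g ∉ scalars ι F → g.val * g.val = -1 := fun g hg hgs => by
      have h := hsign _ (pow_mem hg 2) (h6.pow_scalar g hg)
      rw [Units.val_pow_eq_pow_val, sq] at h
      exact h.resolve_left (hcon g hg hgs)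
    obtain ⟨y, hy, hyx⟩ := hnc x hx hxs
    have hys : y ∉ scalars ι F := fun hs => by
      obtain ⟨c, hc⟩ := (mem_scalars_iff y).1 hs
      have h3 : conjA y x.val = x.val := by
        rw [conjA_apply, ← Units.val_mul, ← Units.val_mul, ← scalars_comm (g := x) hs, mul_inv_cancel_right]
      rw [hyx] at h3
      have h4 : (2 : F) • x.val = 0 := by rw [two_smul]; nth_rw 1 [← h3]; exact neg_add_cancel _
      exact x.ne_zero ((smul_eq_zero.1 h4).resolve_left h2)
    let χ : R → Bool × Bool := fun g => (decide (conjA g.1 x.val = x.val), decide (conjA g.1 y.val = y.val))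
    obtain ⟨g, g', hne, hχ, hcls⟩ : ∃ g g' : R, g ≠ g' ∧ χ g = χ g' ∧ (g : GL ι F)⁻¹ * g' ∉ scalars ι F := by
      by_contra hall
      push Not at hall
      have h1 : Nat.card R ≤ Nat.card (Bool × Bool) * Nat.card (Subgroup.center R) := by
        let q : R → (Bool × Bool) := χ
        letI : Fintype R := Fintype.ofFinite R
        rw [Nat.card_eq_fintype_card, Nat.card_eq_fintype_card (α := Bool × Bool), ← Finset.card_univ (α := R),
          ← Finset.card_univ (α := Bool × Bool), mul_comm]
        refine Finset.card_le_mul_card_image_of_maps_to (f := q) (fun a _ => Finset.mem_univ _) _ fun p _ => ?_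
        rw [← Fintype.card_coe, ← Nat.card_eq_fintype_card]
        by_cases hne : (Finset.univ.filter fun a => q a = p).Nonempty
        · obtain ⟨a₀, ha₀⟩ := hne
          have hmem : ∀ a : {a // a ∈ Finset.univ.filter fun a => q a = p},
              (a₀⁻¹ * a.1 : R) ∈ Subgroup.center R := fun a => by
            rw [h6.center_eq, Subgroup.mem_subgroupOf, Subgroup.coe_mul, Subgroup.coe_inv]
            by_cases he : a₀ = a.1
            · rw [he, inv_mul_cancel]; exact one_mem _
            · exact hall a₀ a.1 he ((Finset.mem_filter.1 ha₀).2.trans (Finset.mem_filter.1 a.2).2.symm)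
          refine Nat.card_le_card_of_injective (fun a => (⟨_, hmem a⟩ : Subgroup.center R)) fun a b hab => ?_
          exact Subtype.ext (mul_left_cancel (congrArg Subtype.val hab))
        · rw [Finset.not_nonempty_iff_eq_empty.1 hne]
          simp
      rw [h6.card] at h1
      have hpos : 0 < Nat.card (Subgroup.center R) := Nat.card_pos
      have h3 : (2 : ℕ) ^ (2 * 3) ≤ Nat.card (Bool × Bool) := Nat.le_of_mul_le_mul_right h1 hpos
      simp at h3
    set z : GL ι F := (g : GL ι F)⁻¹ * g' with hz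
    have hzR : z ∈ R := mul_mem (inv_mem g.2) g'.2
    have hfixz : ∀ w ∈ R, (conjA g.1 w.val = w.val ↔ conjA g'.1 w.val = w.val) → conjA z w.val = w.val := by
      intro w hw hiff
      have hmul : conjA z w.val = conjA (g : GL ι F)⁻¹ (conjA g'.1 w.val) := by
        simp only [hz, conjA_apply, Units.val_mul, mul_inv_rev, inv_inv, Matrix.mul_assoc]
      rcases hflip g.1 g.2 w hw with h | h
      · rw [hmul, hiff.1 h]
        conv_lhs => rw [← h]
        rw [conjA_inv]
      · rcases hflip g'.1 g'.2 w hw with h' | h'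
        · rw [hmul, h']
          conv_lhs => rw [← hiff.2 h']
          rw [conjA_inv]
        · rw [hmul, h', ← h, conjA_inv]
    have hzx := hfixz x hx (by have := congrArg Prod.fst hχ; simpa [χ] using this)
    have hzy := hfixz y hy (by have := congrArg Prod.snd hχ; simpa [χ] using this)
    have hzz := hneg z hzR hcls
    have hzx' : z.val * x.val = x.val * z.val := by
      have h3 := congrArg (· * z.val) hzx
      rwa [conjA_apply, Matrix.mul_assoc (z.val * x.val), Units.inv_mul, Matrix.mul_one] at h3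
    have hzy' : z.val * y.val = y.val * z.val := by
      have h3 := congrArg (· * z.val) hzy
      rwa [conjA_apply, Matrix.mul_assoc (z.val * y.val), Units.inv_mul, Matrix.mul_one] at h3
    have hxx := hneg x hx hxs
    refine hcon (x * z) (mul_mem hx hzR) (fun hs => ?_) ?_
    · obtain ⟨c, hc⟩ := (mem_scalars_iff _).1 hs
      -- then `z` would invert the sign of `y`
      have h3 : conjA y (x * z).val = (x * z).val := by
        rw [conjA_apply, hc, Matrix.mul_smul, Matrix.mul_one, Matrix.smul_mul, ← Units.val_mul, mul_inv_cancel,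
          Units.val_one]
      have h4 : conjA y z.val = z.val := by
        rw [conjA_apply, ← hzy', Matrix.mul_assoc, ← Units.val_mul, mul_inv_cancel, Units.val_one, Matrix.mul_one]
      rw [Units.val_mul, map_mul, hyx, h4, Matrix.neg_mul] at h3
      have h5 : (2 : F) • (x.val * z.val) = 0 := by rw [two_smul]; nth_rw 1 [← h3]; exact neg_add_cancel _
      have h6' := (smul_eq_zero.1 h5).resolve_left h2
      exact (x * z).ne_zero (by rw [Units.val_mul]; exact h6')
    · rw [Units.val_mul, Matrix.mul_assoc, ← Matrix.mul_assoc z.val, hzx', Matrix.mul_assoc x.val z.val z.val, hzz,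
        Matrix.mul_neg, Matrix.mul_one, Matrix.mul_neg, hxx, neg_neg]
  obtain ⟨y, hy, hyx⟩ := hnc x hx hxs
  let ε : Fin 2 → F := ![1, -1]
  let E : Fin 2 → Matrix ι ι F := fun i => (2 : F)⁻¹ • (1 + ε i • x.val)
  have hxadj : oadj Q x.val = x.val := by
    rw [oadj_of_mem C (hR hx), show x⁻¹ = x from inv_eq_of_mul_eq_one_right (Units.ext hx2)]
  have hEadj : ∀ i, oadj Q (E i) = E i := fun i => by
    simp only [E, oadj_smul, oadj_add, oadj_one C, hxadj]
  have h4 : (4 : F) ≠ 0 := fun h => mul_ne_zero h2 h2 (by linear_combination h)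
  have hidem : CompleteOrthogonalIdempotents E := by
    refine ⟨⟨fun i => ?_, fun i j hij => ?_⟩, ?_⟩
    · show E i * E i = E i
      simp only [E, Matrix.smul_mul, Matrix.mul_smul, Matrix.mul_add, Matrix.add_mul, Matrix.mul_one, Matrix.one_mul,
        hx2]
      fin_cases i <;> simp [ε] <;> match_scalars <;> field_simp <;> norm_num
    · show E i * E j = 0
      simp only [E, Matrix.smul_mul, Matrix.mul_smul, Matrix.mul_add, Matrix.add_mul, Matrix.mul_one, Matrix.one_mul,
        hx2]
      fin_cases i <;> fin_cases j <;> simp [ε] at hij ⊢ <;> match_scalars <;> ring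
    · rw [Fin.sum_univ_two]
      simp [E, ε]
      match_scalars <;> field_simp <;> norm_num
  have hne : ∀ i, E i ≠ 0 := fun i h => by
    have h1 : (1 : Matrix ι ι F) + ε i • x.val = 0 := (smul_eq_zero.1 h).resolve_left (inv_ne_zero h2)
    refine hxs ((mem_scalars_iff x).2 ?_)
    fin_cases i <;> simp [ε] at h1
    · exact ⟨-1, by rw [Units.val_neg, Units.val_one, neg_one_smul]; exact eq_neg_of_add_eq_zero_right h1⟩
    · exact ⟨1, by rw [Units.val_one, one_smul]; exact (eq_of_sub_eq_zero (by rw [sub_eq_add_neg]; exact h1)).symm⟩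
  have hEy : ∀ i, conjA y (E i) = E (i + 1) := fun i => by
    simp only [E, map_smul, map_add, map_one, hyx]
    fin_cases i <;> simp [ε]
  have S : Sys R E := ⟨hidem, hne, fun g hg i => by
    rcases hflip g hg x hx with h | h
    · exact ⟨i, by simp only [E, map_smul, map_add, map_one, h]⟩
    · exact ⟨i + 1, by rw [← hEy]; simp only [E, map_smul, map_add, map_one, h, hyx]⟩, fun i j => by
    by_cases h : i = j
    · exact ⟨1, one_mem _, by rw [h, conjA_apply]; simp⟩
    · exact ⟨y, hy, by rw [hEy]; congr 1; fin_cases i <;> fin_cases j <;> simp at h ⊢⟩⟩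
  obtain ⟨k, hD, -⟩ := S.orth_decomp C hR le_rfl hEadj
  have hk := decomp_card hD.decomp.decomp
  obtain rfl : k = 2 * 2 := by omega
  exact (blocks_type C hD 0).2 (Or.inr (by decide))

end Cfsg.Lib.Linear.AschOrth
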