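import Cfsg.Agent.Lib.Linear.AschOrth.EvenCore
import Cfsg.Agent.Lib.Linear.AschOrth.EvenPow

/-!
# Maximal subgroups of `Ω` of minus type in dimension eight
-/

set_option autoImplicit false
set_option linter.unusedSectionVars false
set_option linter.style.haveILetI false

namespace Cfsg.Lib.Linear.AschOrth

open Cfsg.Geo Cfsg.Lib.Linear Cfsg.Lib.Linear.Asch Cfsg.Lib.Linear.AschGen Module
open scoped Matrix MatrixGroups

variable {ι : Type} [Fintype ι] [DecidableEq ι] {F : Type*} [Field F]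
  {Q : (ι → F) → F} {B : LinearMap.BilinForm F (ι → F)}

/-- A pair of complementary totally singular halves makes the space of plus type. -/
theorem plus_of_ts_pair {k : ℕ} {D : Fin 2 → Submodule F (ι → F)} (hcard : 2 * k = Fintype.card ι)
    (hD : IsMDecomposition k D) (hts : ∀ i, IsTotallySingularQuad Q (D i)) :
    IsPlusTypeOn Q (⊤ : Submodule F (ι → F)) :=
  ⟨D 0, le_top, hts 0, by rw [hD.finrank_eq, finrank_top, finrank_fintype_fun_eq_card, hcard]⟩

theorem eight_minus_cases [Fintype F] (C : Orth.Space Q B) (hcard : Fintype.card ι = 8)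
    (hminus : ¬ IsPlusTypeOn Q (⊤ : Submodule F (ι → F))) {H : Subgroup (GL ι F)}
    (hH : IsMaximalIn (omegaGL Q) H) :
    RedCase Q 4 H ∨
    (∃ K : Subalgebra F (Matrix ι ι F), IsFieldSubalgebra 2 K ∧ H = subalgebraNormalizer K ⊓ omegaGL Q) ∨
    SubCase Q H ∨ InOrthogonalResidualClass H := by
  classical
  have h7 : 7 ≤ Fintype.card ι := by omega
  have hn2 : 2 ≤ Fintype.card ι := by omega
  haveI : Nonempty ι := Fintype.card_pos_iff.1 (by omega)
  have hHI : H ≤ isometryGroup F Q := fun g hg => omegaGL_le_iso (hH.1.le hg)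
  by_cases hirr : ActsIrreducibly (matrixSet H)
  swap
  · exact Or.inl (reducible_even C le_rfl hcard hH hirr)
  refine Or.inr ?_
  have quad : ∀ {K : Subalgebra F (Matrix ι ι F)}, IsFieldSubalgebra 2 K → H ≤ subalgebraNormalizer K →
      ∃ K : Subalgebra F (Matrix ι ι F), IsFieldSubalgebra 2 K ∧ H = subalgebraNormalizer K ⊓ omegaGL Q :=
    fun {K} hK hle => ⟨K, hK, eq_inf_of_maximal hH hle (not_omega_le_field C h7 one_lt_two hK)⟩
  by_cases hF : FieldExt H
  · obtain ⟨r, K, hr, hdvd, hK, heq⟩ := field_case C h7 hH hF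
    obtain rfl : r = 2 := by
      rw [hcard, show (8 : ℕ) = 2 ^ 3 by norm_num] at hdvd
      exact (Nat.prime_dvd_prime_iff_eq hr Nat.prime_two).1 (hr.dvd_of_dvd_pow hdvd)
    exact Or.inl ⟨K, hK, heq⟩
  rcases core hirr hn2 with h | h | h | h | h | h
  · exfalso
    rcases imprimitive_even C (by omega) hHI hirr h with ⟨t, m, D, ht, htm, hD, -⟩ | ⟨k, D, hk, hD, hts, -⟩
    · rw [hcard] at htm
      obtain ⟨i0⟩ : Nonempty (Fin t) := ⟨⟨0, by omega⟩⟩
      by_cases hm : Even m
      · obtain ⟨a, rfl⟩ := hm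
        rw [← two_mul] at hD htm
        have ht8 : t ≤ 8 := Nat.le_of_dvd (by norm_num) ⟨_, htm.symm⟩
        refine hminus ((blocks_type C hD i0).2 (Or.inr ?_))
        interval_cases t <;> first | decide | omega
      · have hmodd := Nat.not_even_iff_odd.1 hm
        by_cases h2 : (2 : F) = 0
        · exact hm (block_even C h2 hD)
        · exact hminus ((odd_blocks_type C h2 (N := 4) (by omega) hcard hD hmodd).2 ⟨1, by norm_num⟩)
    · exact hminus (plus_of_ts_pair hk hD hts)
  · exact absurd h hF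
  · obtain ⟨N, d, k, e, P, hN, hd, hk, hmem, hle⟩ := h
    obtain ⟨A, A', T, hcase⟩ := tensor_start C hHI hirr hN hd hk hmem hle
    have hdk := tensor_card e
    rw [hcard] at hdk
    have hd8 : d ≤ 8 := Nat.le_of_dvd (by norm_num) ⟨_, hdk.symm⟩
    have two : ∀ {k : ℕ} {e : ι ≃ Fin 2 × Fin k} {A : Matrix (Fin 2) (Fin 2) F}
        {A' : Matrix (Fin k) (Fin k) F}, 0 < k → TData Q H e P A A' →
        ((AltMat A ∧ AltMat A') ∨ ((2 : F) ≠ 0 ∧ Aᵀ = A ∧ A'ᵀ = A')) →
        ∃ K : Subalgebra F (Matrix ι ι F), IsFieldSubalgebra 2 K ∧ H = subalgebraNormalizer K ⊓ omegaGL Q := by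
      intro k e A A' hk T hcase
      rcases hcase with ⟨hA, hA'⟩ | ⟨h2, hA, -⟩
      · exact absurd (two_plus C hn2 hHI hirr T hA hA') hminus
      · rcases sym_two C h2 hk hHI T hA with ⟨D, hD, hts, -⟩ | ⟨K, hK, hKle, -⟩
        · exact absurd (plus_of_ts_pair ((tensor_card e).trans rfl) hD hts) hminus
        · exact quad hK hKle
    rcases (show d = 2 ∨ k = 2 by interval_cases d <;> omega) with rfl | rfl
    · exact Or.inl (two (by omega) T hcase)
    · exact Or.inl (two (by omega) T.swap (hcase.imp (fun h => ⟨h.2, h.1⟩) fun h => ⟨h.1, h.2.2, h.2.1⟩))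
  · obtain ⟨R, r, m, h6⟩ := h
    exact absurd (six_eight_plus C hcard hHI h6) hminus
  · obtain ⟨d, t, M, e, P, hd, ht, hM⟩ := h
    have hdt := pow_dim e
    rw [hcard] at hdt
    obtain ⟨rfl, rfl⟩ : d = 2 ∧ t = 3 := by
      have h1 : d ^ 2 ≤ 8 := hdt ▸ Nat.pow_le_pow_right (by omega) ht
      obtain rfl : d = 2 := by nlinarith
      exact ⟨rfl, Nat.pow_right_injective le_rfl (hdt.trans (by norm_num : (8 : ℕ) = 2 ^ 3))⟩
    exact absurd (pow_eight_plus C hn2 hHI hirr hM) hminus
  · exact Or.inr (almost_case C h7 hH h)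

end Cfsg.Lib.Linear.AschOrth
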