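import Cfsg.Agent.Lib.Linear.AschOrth.EvenImprim
import Cfsg.Agent.Lib.Linear.OrthSpinor

/-!
# Full stabilisers of some decompositions act absolutely irreducibly
-/

set_option autoImplicit false
set_option linter.unusedSectionVars false
set_option linter.style.haveILetI false

namespace Cfsg.Lib.Linear.AschOrth

open Cfsg.Geo Cfsg.Lib.Linear Cfsg.Lib.Linear.Asch Module
open scoped Matrix MatrixGroups commutatorElement

variable {ι : Type} [Fintype ι] [DecidableEq ι] {F : Type*} [Field F]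
  {Q : (ι → F) → F} {B : LinearMap.BilinForm F (ι → F)} {H : Subgroup (GL ι F)}

/-- An irreducible group whose commutant has eigenvectors is absolutely irreducible. -/
theorem absIrr_of_eigen (hirr : ActsIrreducibly (matrixSet H))
    (h : ∀ M : Matrix ι ι F, (∀ g ∈ H, M * g.val = g.val * M) → ∃ (v : ι → F) (d : F), v ≠ 0 ∧ M *ᵥ v = d • v) :
    ActsAbsolutelyIrreducibly (matrixSet H) := by
  refine ⟨hirr, fun M hM => ?_⟩
  have hM' : ∀ g ∈ H, M * g.val = g.val * M := fun g hg => hM _ (mem_matrixSet hg)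
  obtain ⟨v, d, hv, hMv⟩ := h M hM'
  have hker : ∀ w, w ∈ LinearMap.ker (Matrix.toLin' M - d • LinearMap.id) ↔ M *ᵥ w = d • w := fun w => by
    simp [sub_eq_zero]
  rcases irr_iff.1 hirr _ (fun g hg w hw => (hker _).2 (by
    rw [Matrix.mulVec_mulVec, hM' g hg, ← Matrix.mulVec_mulVec, (hker w).1 hw, Matrix.mulVec_smul])) with h0 | h1
  · exact absurd ((Submodule.mem_bot F).1 (h0 ▸ (hker v).2 hMv)) hv
  · refine ⟨d, Matrix.ext_of_mulVec_single fun i => ?_⟩
    rw [(hker _).1 (h1 ▸ Submodule.mem_top), Matrix.smul_mulVec, Matrix.one_mulVec]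

/-- Two reflections in vectors of the same value multiply to an element of `Ω`. -/
theorem refl_pair_mem [Fintype F] (C : Orth.Space Q B) (h5 : 5 ≤ Fintype.card ι) {x y : ι → F} (hx : Q x ≠ 0)
    (hxy : Q x = Q y) : Orth.rGL Q x * Orth.rGL Q y ∈ omegaGL Q := by
  obtain ⟨g, hg, hgc⟩ := Orth.refl_conj C (Or.inr (by omega)) hx hxy
  refine ⟨⁅Orth.rI C x hx, ⟨g, hg⟩⁆, Subgroup.commutator_mem_commutator (Subgroup.mem_top _) (Subgroup.mem_top _), ?_⟩
  rw [map_commutatorElement, commutatorElement_def, ← hgc]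
  show Orth.rGL Q x * g * (Orth.rGL Q x)⁻¹ * g⁻¹ = _
  rw [Orth.rGL_inv C hx]
  group

/-- A reflection in a vector of one block fixes every block. -/
theorem rGL_mem_decomp [Finite F] (C : Orth.Space Q B) {t m : ℕ} {D : Fin t → Submodule F (ι → F)}
    (hD : IsOrthogonalMDecomposition Q m D) {i : Fin t} {v : ι → F} (hv : v ∈ D i) (hQv : Q v ≠ 0) :
    Orth.rGL Q v ∈ decompositionStabilizer D := by
  have hr : ∀ l, ∀ x ∈ D l, (Orth.rGL Q v).val *ᵥ x ∈ D l := fun l x hx => by
    rw [Orth.rGL_act C hQv]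
    by_cases hl : l = i
    · subst hl
      exact sub_mem hx (Submodule.smul_mem _ _ hv)
    · rw [show B v x = 0 by rw [← C.polar]; exact hD.decomp.orthogonal i l (Ne.symm hl) v hv x hx, mul_zero, zero_smul,
        sub_zero]
      exact hx
  refine ⟨1, fun l => le_antisymm ?_ fun x hx => ⟨(Orth.rGL Q v).val *ᵥ x, hr l x hx, ?_⟩⟩
  · rintro _ ⟨x, hx, rfl⟩
    rw [Matrix.toLin'_apply]
    exact hr l x hx
  · rw [Matrix.toLin'_apply, Matrix.mulVec_mulVec, ← Units.val_mul, Orth.rGL_sq C hQv, Units.val_one, Matrix.one_mulVec]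

/-- The stabiliser of an orthogonal frame is absolutely irreducible once irreducible. -/
theorem lines_absIrr [Fintype F] (C : Orth.Space Q B) (h2 : (2 : F) ≠ 0) (h5 : 5 ≤ Fintype.card ι) {t : ℕ}
    {D : Fin t → Submodule F (ι → F)} (hD : IsOrthogonalMDecomposition Q 1 D) (ht : 3 ≤ t)
    (heq : H = decompositionStabilizer D ⊓ omegaGL Q) (hirr : ActsIrreducibly (matrixSet H)) :
    ActsAbsolutelyIrreducibly (matrixSet H) := by
  classical
  obtain ⟨v, c, hc, hv, hvv⟩ := blocks_frame C h2 hD odd_one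
  have hQ : ∀ p, Q (v p) = c / 2 := fun p => by
    rw [eq_div_iff h2, mul_comm, ← C.self, hvv, if_pos rfl]
  have hQ0 : ∀ p, Q (v p) ≠ 0 := fun p => by rw [hQ]; exact div_ne_zero hc h2
  let w : Fin t → ι → F := fun i => v (i, 0)
  have hww : ∀ i j, B (w i) (w j) = if i = j then c else 0 := fun i j => by
    rw [hvv]; simp
  let a : Fin t := ⟨0, by omega⟩
  refine absIrr_of_eigen hirr fun M hM => ?_
  have hmem : ∀ i j, Orth.rGL Q (w i) * Orth.rGL Q (w j) ∈ H := fun i j => by
    rw [heq]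
    exact ⟨mul_mem (rGL_mem_decomp C hD (hv _) (hQ0 _)) (rGL_mem_decomp C hD (hv _) (hQ0 _)),
      refl_pair_mem C h5 (hQ0 _) ((hQ _).trans (hQ _).symm)⟩
  have hrw : ∀ i x, (Orth.rGL Q (w i)).val *ᵥ x = x - ((c / 2)⁻¹ * B (w i) x) • w i := fun i x => by
    rw [Orth.rGL_act C (hQ0 _), hQ]
  have hspan : ∀ j, j ≠ a → ∃ α β : F, M *ᵥ w a = α • w a + β • w j := by
    intro j hj
    have h1 : (Orth.rGL Q (w a) * Orth.rGL Q (w j)).val *ᵥ w a = -w a := by
      rw [Units.val_mul, ← Matrix.mulVec_mulVec, hrw j, hww, if_neg hj, mul_zero, zero_smul, sub_zero, hrw a, hww,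
        if_pos rfl, show (c / 2)⁻¹ * c = 2 by field_simp, two_smul]
      abel
    have h3 := congrArg (fun X => X *ᵥ w a) (hM _ (hmem a j))
    simp only [← Matrix.mulVec_mulVec, h1, Matrix.mulVec_neg] at h3
    rw [Units.val_mul, ← Matrix.mulVec_mulVec, hrw j, hrw a] at h3
    set W := M *ᵥ w a
    set p := (c / 2)⁻¹ * B (w j) W
    set q := (c / 2)⁻¹ * B (w a) (W - p • w j)
    refine ⟨q / 2, p / 2, ?_⟩
    have h4 : (2 : F) • W = q • w a + p • w j := by
      rw [two_smul]
      nth_rw 1 [show W = -(-W) from (neg_neg W).symm]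
      rw [h3]
      abel
    rw [← inv_smul_smul₀ h2 W, h4, smul_add, smul_smul, smul_smul, div_eq_inv_mul, div_eq_inv_mul]
  obtain ⟨α, β, h1⟩ := hspan ⟨1, by omega⟩ (by simp [a, Fin.ext_iff])
  obtain ⟨α', β', h1'⟩ := hspan ⟨2, by omega⟩ (by simp [a, Fin.ext_iff])
  have hβ : β = 0 := by
    have h3 := congrArg (B (w ⟨1, by omega⟩)) (h1.symm.trans h1')
    simp only [map_add, map_smul, hww] at h3
    simp [a, Fin.ext_iff, hc] at h3
    exact h3
  refine ⟨w a, α, fun h => hQ0 (a, 0) (by rw [show v (a, 0) = 0 from h, C.zero]), ?_⟩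
  rw [h1, hβ, zero_smul, add_zero]

/-- The stabiliser of plus planes over four elements is absolutely irreducible once irreducible. -/
theorem four_planes_absIrr [Fintype F] (C : Orth.Space Q B) (hq : Fintype.card F = 4) (h5 : 5 ≤ Fintype.card ι)
    {t : ℕ} {D : Fin t → Submodule F (ι → F)} (hD : IsOrthogonalMDecomposition Q 2 D)
    (hp : ∀ i, IsPlusTypeOn Q (D i)) (heq : H = decompositionStabilizer D ⊓ omegaGL Q)
    (hirr : ActsIrreducibly (matrixSet H)) : ActsAbsolutelyIrreducibly (matrixSet H) := by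
  classical
  have h2 : (2 : F) = 0 := two_zero_iff.2 (by rw [hq]; decide)
  have ht := hD.decomp.decomp.two_le
  let i : Fin t := ⟨0, by omega⟩
  obtain ⟨e, f, hef, hspan⟩ := plane_basis C (hD.decomp.decomp.finrank_eq i)
    (Orth.ndeg_of_geo C (hD.decomp.nondegenerate i)) (hp i)
  obtain ⟨a, ha⟩ : ∃ a : F, a ∉ ({0, 1} : Finset F) := by
    by_contra h
    push Not at h
    have h1 := Finset.card_le_card (fun x _ => h x : (Finset.univ : Finset F) ⊆ {0, 1})
    rw [Finset.card_univ, hq] at h1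
    exact absurd h1 (by have := Finset.card_le_two (a := (0 : F)) (b := 1); omega)
  simp only [Finset.mem_insert, Finset.mem_singleton, not_or] at ha
  obtain ⟨ha0, ha1⟩ := ha
  have he := hef.singE
  have hf := hef.singF
  have heD := hef.memE
  have hfD := hef.memF
  have hefB := hef.pair
  have hneg : ∀ x : ι → F, -x = x := fun x => by
    rw [← neg_one_smul F x, show (-1 : F) = 1 by linear_combination -h2, one_smul]
  have hQu : ∀ b : F, b ≠ 0 → Q (b • e + b⁻¹ • f) = 1 := fun b hb => by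
    rw [C.add, C.smul, C.smul, he, hf, map_smul, map_smul, LinearMap.smul_apply, hefB]
    simp [smul_eq_mul, hb]
  let r : F → GL ι F := fun b => Orth.rGL Q (b • e + b⁻¹ • f)
  have hr : ∀ b, b ≠ 0 → ∀ x, (r b).val *ᵥ x = x + (b * B e x + b⁻¹ * B f x) • (b • e + b⁻¹ • f) := fun b hb x => by
    rw [Orth.rGL_act C (by rw [hQu b hb]; exact one_ne_zero), hQu b hb, inv_one, one_mul, sub_eq_add_neg, hneg]
    simp
  have hmem : r a * r 1 ∈ H := by
    have hu : ∀ b : F, b • e + b⁻¹ • f ∈ D i := fun b =>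
      add_mem (Submodule.smul_mem _ _ heD) (Submodule.smul_mem _ _ hfD)
    rw [heq]
    refine ⟨mul_mem (rGL_mem_decomp C hD (hu a) ?_) (rGL_mem_decomp C hD (hu 1) ?_), refl_pair_mem C h5 ?_ ?_⟩
    · rw [hQu a ha0]; exact one_ne_zero
    · rw [hQu 1 one_ne_zero]; exact one_ne_zero
    · rw [hQu a ha0]; exact one_ne_zero
    · rw [hQu a ha0, hQu 1 one_ne_zero]
  have hee : B e e = 0 := by rw [C.self, he, mul_zero]
  have hff : B f f = 0 := by rw [C.self, hf, mul_zero]
  have hfe : B f e = 1 := by rw [C.symm]; exact hefB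
  have hact : ∀ p q : F, (r a * r 1).val *ᵥ (p • e + q • f) = (a ^ 2 * p) • e + (a⁻¹ ^ 2 * q) • f := by
    intro p q
    rw [Units.val_mul, ← Matrix.mulVec_mulVec, hr 1 one_ne_zero, hr a ha0]
    simp [hee, hff, hfe, hefB]
    match_scalars <;> field_simp <;> ring_nf <;> simp [h2, show (4 : F) = 0 by linear_combination 2 * h2]
  refine absIrr_of_eigen hirr fun M hM => ?_
  set W := M *ᵥ e with hW
  have h3 : (r a * r 1).val *ᵥ W = a ^ 2 • W := by
    rw [hW, Matrix.mulVec_mulVec, ← hM _ hmem, ← Matrix.mulVec_mulVec]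
    have h4 := hact 1 0
    simp at h4
    rw [Units.val_mul, h4, Matrix.mulVec_smul]
  have hWD : W ∈ D i := by
    have h4 : (r a * r 1).val *ᵥ W - W ∈ D i := by
      rw [Units.val_mul, ← Matrix.mulVec_mulVec, hr 1 one_ne_zero, hr a ha0, add_assoc, add_sub_cancel_left]
      exact add_mem (Submodule.smul_mem _ _ (add_mem (Submodule.smul_mem _ _ heD) (Submodule.smul_mem _ _ hfD)))
        (Submodule.smul_mem _ _ (add_mem (Submodule.smul_mem _ _ heD) (Submodule.smul_mem _ _ hfD)))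
    rw [h3, show a ^ 2 • W - W = (a ^ 2 - 1) • W by rw [sub_smul, one_smul]] at h4
    have hne : a ^ 2 - 1 ≠ 0 := fun h => ha1 (by
      have h5 : (a - 1) * (a - 1) = 0 := by linear_combination h - (a - 1) * h2
      exact sub_eq_zero.1 (mul_self_eq_zero.1 h5))
    exact inv_smul_smul₀ hne W ▸ Submodule.smul_mem _ (a ^ 2 - 1)⁻¹ h4
  obtain ⟨p, q, hpq⟩ := hspan W hWD
  rw [← hpq, hact, smul_add, smul_smul, smul_smul] at h3
  have h5 := congrArg (B e) h3
  simp [hee, hefB] at h5
  have hq0 : q = 0 := by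
    have ha3 : a ^ 3 = 1 := by simpa [hq] using FiniteField.pow_card_sub_one_eq_one a ha0
    rcases h5 with h5 | h5
    · exfalso
      apply ha1
      have h6 : a ^ 2 * a ^ 2 = 1 := by
        nth_rw 1 [← h5]
        field_simp
      linear_combination h6 - a * ha3
    · exact h5
  exact ⟨e, p, fun h => by simp [h] at hfe, by rw [← hW, ← hpq, hq0, zero_smul, add_zero]⟩

end Cfsg.Lib.Linear.AschOrth
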