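import Cfsg.Agent.Lib.Linear.AschOrth.EvenField
import Cfsg.Agent.Lib.Linear.AschSp.General

/-!
# Quadratic fields normalised by irreducible groups of isometries
-/

set_option autoImplicit false
set_option linter.unusedSectionVars false
set_option linter.style.haveILetI false

namespace Cfsg.Lib.Linear.AschOrth

open Cfsg.Geo Cfsg.Lib.Linear Cfsg.Lib.Linear.Asch Cfsg.Lib.Linear.AschGen Module
open scoped Matrix MatrixGroups

variable {ι : Type} [Fintype ι] [DecidableEq ι] {F : Type*} [Field F]
  {Q : (ι → F) → F} {B : LinearMap.BilinForm F (ι → F)} {H : Subgroup (GL ι F)}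

theorem oadj_pow (C : Orth.Space Q B) (M : Matrix ι ι F) (n : ℕ) : oadj Q (M ^ n) = oadj Q M ^ n := by
  induction n with
  | zero => simp [oadj_one C]
  | succ n ih => rw [pow_succ, oadj_mul C, ih, ← pow_succ']

/-- An even degree field gives a quadratic one with the same invariance. -/
theorem exists_quad_field [Fintype F] [Nonempty ι] (C : Orth.Space Q B) (hH : H ≤ isometryGroup F Q)
    {N : Subgroup (GL ι F)} (hN : NormalSub H N) (h2 : 2 ∣ finrank F (bicomm N))
    (hK : IsFieldSubalgebra (finrank F (bicomm N)) (bicomm N)) :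
    ∃ K : Subalgebra F (Matrix ι ι F), IsFieldSubalgebra 2 K ∧ H ≤ subalgebraNormalizer K ∧
      ∀ k ∈ K, oadj Q k ∈ K := by
  obtain ⟨K, hKle, hKf, hmem⟩ := Cfsg.Lib.Linear.AschSp.exists_prime_subfield hK Nat.prime_two h2
  have hone : ∀ g ∈ H, ∀ k ∈ K, conjA g k ∈ K := by
    intro g hg k hk
    have h3 := (hmem k (hKle hk)).1 hk
    refine (hmem _ (conjA_bicomm hN hg (hKle hk))).2 ?_
    rw [← map_pow, h3]
  refine ⟨K, hKf, fun g hg k => ⟨fun hk => hone g hg k hk, fun hk => ?_⟩, fun k hk => ?_⟩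
  · have h3 := hone g⁻¹ (inv_mem hg) _ hk
    rwa [← conjA_apply, conjA_inv] at h3
  · have h3 := (hmem k (hKle hk)).1 hk
    refine (hmem _ (oadj_mem_bicomm C (hN.le.trans hH) (hKle hk))).2 ?_
    rw [← oadj_pow C, h3]

/-- A non-scalar abelian normal subgroup gives imprimitivity or an extension field of even degree. -/
theorem abelian_normal [Fintype F] [Nonempty ι] (C : Orth.Space Q B) (hH : H ≤ isometryGroup F Q)
    (hirr : ActsIrreducibly (matrixSet H)) {A : Subgroup (GL ι F)} (hA : NormalSub H A)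
    (hab : ∀ a ∈ A, ∀ b ∈ A, a * b = b * a) (hns : ¬ A ≤ scalars ι F) :
    Imprimitive H ∨ ∃ K : Subalgebra F (Matrix ι ι F), IsFieldSubalgebra 2 K ∧ H ≤ subalgebraNormalizer K ∧
      ∀ k ∈ K, oadj Q k ∈ K := by
  classical
  rcases split hirr hA with ⟨t, e, ht, hs⟩ | ⟨h1, hK⟩ | ⟨d, f, hd, hf, hrange⟩
  · exact Or.inl ⟨A, t, e, ht, hA, hs⟩
  · by_cases h2 : 2 ∣ finrank F (bicomm A)
    · exact Or.inr (exists_quad_field C hH hA h2 hK)
    exfalso
    have hsa := field_involution_odd C hK (Nat.odd_iff.2 (by omega))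
      fun k hk => oadj_mem_bicomm C (hA.le.trans hH) hk
    refine hns fun g hg => ?_
    have hgm : g.val ∈ bicomm A := by
      rw [bicomm, Algebra.mem_inf]
      refine ⟨(Subalgebra.mem_centralizer_iff F).2 ?_, (Subalgebra.mem_centralizer_iff F).2 fun x hx => ?_⟩
      · rintro _ ⟨a, ha, rfl⟩
        rw [← Units.val_mul, ← Units.val_mul, hab a ha g hg]
      · exact ((Subalgebra.mem_centralizer_iff F).1 hx _ (mem_matrixSet hg)).symm
    have hginv : (g⁻¹).val = g.val := by rw [← oadj_of_mem C (hH (hA.le hg)), hsa _ hgm]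
    have hgg : g.val * g.val = 1 := by
      conv_lhs => arg 2; rw [← hginv]
      rw [← Units.val_mul, mul_inv_cancel, Units.val_one]
    have hz : (g.val - 1) * (g.val + 1) = 0 := by rw [sub_mul, one_mul, mul_add, hgg, mul_one]; abel
    rw [mem_scalars_iff]
    by_cases h : g.val - 1 = 0
    · exact ⟨1, by rw [sub_eq_zero.1 h]; simp⟩
    obtain ⟨y, hy, hy1⟩ := hK.inv _ (sub_mem hgm (one_mem _)) h
    refine ⟨-1, ?_⟩
    have h' : g.val + 1 = 0 := by
      rw [hK.comm _ (sub_mem hgm (one_mem _)) y hy] at hy1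
      calc g.val + 1 = y * (g.val - 1) * (g.val + 1) := by rw [hy1, one_mul]
        _ = 0 := by rw [mul_assoc, hz, mul_zero]
    rw [eq_neg_of_add_eq_zero_left h']
    simp
  · exfalso
    refine hns fun g hg => ?_
    have hcomm : ∀ x y : Matrix (Fin d) (Fin d) F, x * y = y * x := fun x y => by
      apply hf
      have hx : f x ∈ adj A := hrange ▸ ⟨x, rfl⟩
      have hy : f y ∈ adj A := hrange ▸ ⟨y, rfl⟩
      have hc : ∀ z ∈ adj A, ∀ w ∈ adj A, z * w = w * z := by
        have h1 : adj A ≤ Subalgebra.centralizer F (matrixSet A) := Algebra.adjoin_le fun z hz => by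
          obtain ⟨a, ha, rfl⟩ := hz
          refine (Subalgebra.mem_centralizer_iff F).2 ?_
          rintro _ ⟨b, hb, rfl⟩
          rw [← Units.val_mul, ← Units.val_mul, hab b hb a ha]
        have h2 : adj A ≤ Subalgebra.centralizer F (adj A : Set (Matrix ι ι F)) :=
          Algebra.adjoin_le fun z hz => (Subalgebra.mem_centralizer_iff F).2 fun w hw =>
            ((Subalgebra.mem_centralizer_iff F).1 (h1 hw) z hz).symm
        exact fun z hz w hw => (Subalgebra.mem_centralizer_iff F).1 (h2 hw) z hz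
      rw [map_mul, map_mul, hc _ hx _ hy]
    have hd1 : d = 1 := by
      by_contra hne
      let i : Fin d := ⟨0, hd⟩
      let j : Fin d := ⟨1, by omega⟩
      have hij : i ≠ j := fun h => zero_ne_one (congrArg Fin.val h)
      have h := congrFun (congrFun (hcomm (Matrix.single i j 1) (Matrix.single j i 1)) i) i
      rw [Matrix.single_mul_single_same, Matrix.single_mul_single_same, Matrix.single_apply_same,
        Matrix.single_apply_of_ne _ _ _ _ _ (fun h' => hij h'.1.symm)] at h
      simp at h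
    subst hd1
    have hgA : g.val ∈ f.range := hrange.symm ▸ Algebra.subset_adjoin (mem_matrixSet hg)
    obtain ⟨x, hx⟩ := hgA
    have hx' : x = algebraMap F (Matrix (Fin 1) (Fin 1) F) (x 0 0) := by
      ext a b
      simp [Subsingleton.elim a 0, Subsingleton.elim b 0, Matrix.algebraMap_matrix_apply]
    have hx2 : g.val = x 0 0 • (1 : Matrix ι ι F) := by
      rw [← hx]
      show f x = _
      conv_lhs => rw [hx', AlgHom.commutes, Algebra.algebraMap_eq_smul_one]
    have hx0 : x 0 0 ≠ 0 := fun h0 => one_ne_zero (α := Matrix ι ι F) (by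
      rw [← Units.val_one, ← mul_inv_cancel g, Units.val_mul, hx2, h0, zero_smul, zero_mul])
    rw [mem_scalars_iff]
    exact ⟨Units.mk0 _ hx0, hx2⟩

/-- An irreducible group of isometries in twice an odd prime dimension whose normal subgroup has an
extension field as centre of the commutant is imprimitive or normalises a quadratic field. -/
theorem fieldExt_quad [Fintype F] [Nonempty ι] (C : Orth.Space Q B) {p : ℕ} (hp : p.Prime) (hpodd : Odd p)
    (hcard : Fintype.card ι = 2 * p) (hH : H ≤ isometryGroup F Q) (hirr : ActsIrreducibly (matrixSet H))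
    (hF : FieldExt H) :
    Imprimitive H ∨ ∃ K : Subalgebra F (Matrix ι ι F), IsFieldSubalgebra 2 K ∧ H ≤ subalgebraNormalizer K ∧
      ∀ k ∈ K, oadj Q k ∈ K := by
  classical
  obtain ⟨N, hN, h1, hK⟩ := hF
  by_cases h2 : 2 ∣ finrank F (bicomm N)
  · exact Or.inr (exists_quad_field C hH hN h2 hK)
  set s := finrank F (bicomm N) with hs
  have hsp : s = p := by
    have h3 : s ∣ 2 * p := hcard ▸ field_dvd_card hK
    have hcop : Nat.Coprime s 2 := (Nat.Prime.coprime_iff_not_dvd Nat.prime_two).2 h2 |>.symm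
    rcases (Nat.dvd_prime hp).1 (hcop.dvd_of_dvd_mul_left h3) with h | h
    · omega
    · exact h
  rw [hsp] at hK
  have hNI : N ≤ isometryGroup F Q := hN.le.trans hH
  have hsa := field_involution_odd C hK hpodd fun k hk => oadj_mem_bicomm C hNI hk
  have hgc : ∀ g ∈ N, ∀ k ∈ bicomm N, g.val * k = k * g.val := fun g hg k hk => by
    rw [bicomm, Algebra.mem_inf] at hk
    exact (Subalgebra.mem_centralizer_iff F).1 hk.1 _ (mem_matrixSet hg)
  have hNs : ¬ N ≤ scalars ι F := fun h => by
    rw [hs, bicomm_scalar_bot h, Subalgebra.finrank_bot] at h1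
    exact lt_irrefl 1 h1
  let S : Set (GL ι F) := {g | g ∈ N ∧ g * g ≠ 1}
  by_cases hS : ∀ g ∈ N, g * g = 1
  · refine abelian_normal C hH hirr hN (fun a ha b hb => ?_) hNs
    have hinv : ∀ x ∈ N, x⁻¹ = x := fun x hx => inv_eq_of_mul_eq_one_right (hS x hx)
    rw [← hinv _ (mul_mem ha hb), mul_inv_rev, hinv a ha, hinv b hb]
  push Not at hS
  obtain ⟨g0, hg0, hg02⟩ := hS
  have hcomm : ∀ a ∈ S, ∀ b ∈ S, a * b = b * a := by
    rintro a ⟨ha, ha2⟩ b ⟨hb, hb2⟩
    have h3 := (sq_one_or_sum_mem C hK hcard hsa (hNI ha) (hgc a ha)).resolve_left ha2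
    have h4 := (sq_one_or_sum_mem C hK hcard hsa (hNI hb) (hgc b hb)).resolve_left hb2
    by_cases h2F : (2 : F) = 0
    · exact trace_commute_even C h2F hK hcard hsa (hNI ha) (hNI hb) (hgc a ha) (hgc b hb) h3 h4 ha2 hb2
    · exact trace_commute_odd C h2F hK hcard hsa (hNI ha) (hNI hb) (hgc a ha) (hgc b hb) h3 h4 ha2
  have hconj : ∀ h ∈ H, ∀ x ∈ Subgroup.closure S, h * x * h⁻¹ ∈ Subgroup.closure S := by
    intro h hh x hx
    induction hx using Subgroup.closure_induction with
    | mem y hy =>
      refine Subgroup.subset_closure ⟨hN.normal h hh y hy.1, fun h3 => hy.2 ?_⟩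
      rw [show h * y * h⁻¹ * (h * y * h⁻¹) = h * (y * y) * h⁻¹ by group, conj_eq_one_iff] at h3
      exact h3
    | one => simp
    | mul y z _ _ hy hz =>
      rw [show h * (y * z) * h⁻¹ = (h * y * h⁻¹) * (h * z * h⁻¹) by group]
      exact mul_mem hy hz
    | inv y _ hy =>
      rw [show h * y⁻¹ * h⁻¹ = (h * y * h⁻¹)⁻¹ by group]
      exact inv_mem hy
  refine abelian_normal C hH hirr (A := Subgroup.closure S)
    ⟨(Subgroup.closure_le _).2 fun g hg => hN.le hg.1, hconj⟩ ?_ ?_
  · have h3 : Subgroup.closure S ≤ Subgroup.centralizer S :=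
      (Subgroup.closure_le _).2 fun a ha => Subgroup.mem_centralizer_iff.2 fun b hb => hcomm b hb a ha
    intro a ha b hb
    have h4 : Subgroup.closure S ≤ Subgroup.centralizer (Subgroup.closure S : Set (GL ι F)) :=
      (Subgroup.closure_le _).2 fun c hc => Subgroup.mem_centralizer_iff.2 fun d hd =>
        (Subgroup.mem_centralizer_iff.1 (h3 hd) c hc).symm
    exact (Subgroup.mem_centralizer_iff.1 (h4 hb) a ha)
  · intro hle
    obtain ⟨c, hc⟩ := (mem_scalars_iff _).1 (hle (Subgroup.subset_closure ⟨hg0, hg02⟩))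
    obtain ⟨u, -, hu⟩ := Orth.exists_nonsing C C.ndeg_top fun h => by
      have h1 := finrank_fintype_fun_eq_card F (η := ι)
      rw [← finrank_top, h, finrank_bot] at h1
      omega
    have h3 := Orth.mem_iso.1 (hNI hg0) u
    rw [hc, Matrix.smul_mulVec, Matrix.one_mulVec, C.smul] at h3
    refine hg02 (Units.ext ?_)
    rw [Units.val_mul, hc, smul_mul_smul_comm, one_mul, ← sq, (mul_eq_right₀ hu).1 h3, one_smul, Units.val_one]

/-- An additive function of degree two with invariant kernel on an irreducible module vanishes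
(even characteristic). -/
theorem semilinear_zero [Finite F] (h2 : (2 : F) = 0) (hirr : ActsIrreducibly (matrixSet H))
    (hn : 2 ≤ Fintype.card ι) {M : (ι → F) → F} (hadd : ∀ u v, M (u + v) = M u + M v)
    (hsmul : ∀ (c : F) v, M (c • v) = c ^ 2 * M v) (hker : ∀ g ∈ H, ∀ v, M v = 0 → M (g.val *ᵥ v) = 0) :
    ∀ v, M v = 0 := by
  classical
  haveI : CharP F 2 := CharTwo.of_one_ne_zero_of_two_eq_zero one_ne_zero h2
  have h0 : M 0 = 0 := by simpa using hsmul 0 0
  let R : Submodule F (ι → F) :=
    { carrier := {v | M v = 0}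
      add_mem' := fun {a b} ha hb => by
        show M (a + b) = 0
        rw [hadd, ha, hb, add_zero]
      zero_mem' := h0
      smul_mem' := fun c v hv => by
        show M (c • v) = 0
        rw [hsmul, hv, mul_zero] }
  rcases irr_iff.1 hirr R (fun g hg v hv => hker g hg v hv) with h | h
  swap
  · exact fun v => (h ▸ Submodule.mem_top : v ∈ R)
  exfalso
  obtain ⟨i, j, hij⟩ := Fintype.exists_pair_of_one_lt_card hn
  set v : ι → F := Pi.single i 1
  set w : ι → F := Pi.single j 1
  have hv0 : v ≠ 0 := by simp [v]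
  have hMv : M v ≠ 0 := fun h' => hv0 ((Submodule.mem_bot F).1 (h ▸ h' : v ∈ (⊥ : Submodule F (ι → F))))
  obtain ⟨c, hc⟩ := Finite.surjective_of_injective (frobenius_inj F 2) (M w / M v)
  rw [frobenius_def] at hc
  have hmem : M (w + c • v) = 0 := by
    rw [hadd, hsmul, hc, div_mul_cancel₀ _ hMv]
    linear_combination (M w) * h2
  have h3 : w + c • v = 0 := (Submodule.mem_bot F).1 (h ▸ hmem : _ ∈ (⊥ : Submodule F (ι → F)))
  have h4 := congrFun h3 j
  simp [v, w, hij.symm] at h4

/-- The kinds of quadratic fields normalised by an irreducible group of isometries in dimension twice an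
odd number. -/
theorem quad_field_cases [Fintype F] [Nonempty ι] (C : Orth.Space Q B) {m : ℕ} (hm : Odd m)
    (hcard : Fintype.card ι = 2 * m) (hH : H ≤ isometryGroup F Q) (hirr : ActsIrreducibly (matrixSet H))
    {K : Subalgebra F (Matrix ι ι F)} (hK : IsFieldSubalgebra 2 K) (hle : H ≤ subalgebraNormalizer K)
    (hadj : ∀ k ∈ K, oadj Q k ∈ K) :
    (Odd (Fintype.card F) ∧ IsSelfAdjointFor (QuadraticMap.polar Q) K) ∨
    (IsAdjointClosedFor (QuadraticMap.polar Q) K ∧ ¬ IsSelfAdjointFor (QuadraticMap.polar Q) K ∧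
      ∀ k ∈ K, ∃ t N : F, k + oadj Q k = t • 1 ∧ (∀ v, B v (k *ᵥ v) = t * Q v) ∧
        ∀ v, Q (k *ᵥ v) = N * Q v) := by
  classical
  have hn : 2 ≤ Fintype.card ι := by have := hm.pos; omega
  have hconj' : ∀ g ∈ H, ∀ k ∈ K, (g⁻¹).val * k * g.val ∈ K := fun g hg k hk => by
    have := (hle (inv_mem hg) k).1 hk
    rwa [inv_inv] at this
  have hshift : ∀ (g : GL ι F) (k : Matrix ι ι F) (v : ι → F),
      k *ᵥ (g.val *ᵥ v) = g.val *ᵥ (((g⁻¹).val * k * g.val) *ᵥ v) := fun g k v => by
    rw [Matrix.mulVec_mulVec, Matrix.mulVec_mulVec, ← mul_assoc, ← mul_assoc, ← Units.val_mul,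
      mul_inv_cancel, Units.val_one, one_mul]
  by_cases hself : ∀ k ∈ K, oadj Q k = k
  · left
    have hsa : IsSelfAdjointFor (QuadraticMap.polar Q) K := fun k hk u v => by
      rw [C.polar, C.polar, oadj_spec C, hself k hk]
    refine ⟨?_, hsa⟩
    by_contra hodd
    have h2 : (2 : F) = 0 := two_zero_iff.2 hodd
    obtain ⟨k₀, hk₀, hk₀ns⟩ : ∃ k₀ ∈ K, ∀ c : F, k₀ ≠ c • (1 : Matrix ι ι F) := by
      by_contra hcon
      push Not at hcon
      have hbot : K = ⊥ := eq_bot_iff.2 fun k hk => by
        obtain ⟨c, hc⟩ := hcon k hk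
        exact Algebra.mem_bot.2 ⟨c, by rw [hc, Algebra.algebraMap_eq_smul_one]⟩
      have := hK.finrank_eq
      rw [hbot, Subalgebra.finrank_bot] at this
      omega
    have hspan : ∀ k ∈ K, ∃ a b : F, k = a • 1 + b • k₀ := by
      intro k hk
      let v : Fin 2 → K := ![1, ⟨k₀, hk₀⟩]
      have hli : LinearIndependent F v := by
        refine LinearIndependent.pair_iff.2 fun a b hab => ?_
        have h1 : a • (1 : Matrix ι ι F) + b • k₀ = 0 := congrArg Subtype.val hab
        by_cases hb : b = 0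
        · rw [hb, zero_smul, add_zero, smul_eq_zero] at h1
          exact ⟨h1.resolve_right one_ne_zero, hb⟩
        · refine absurd ?_ (hk₀ns (-(b⁻¹ * a)))
          rw [← inv_smul_smul₀ hb k₀, eq_neg_of_add_eq_zero_right h1, smul_neg, smul_smul, neg_smul]
      have htop : Submodule.span F (Set.range v) = ⊤ :=
        hli.span_eq_top_of_card_eq_finrank (by rw [Fintype.card_fin, hK.finrank_eq])
      have hmem : (⟨k, hk⟩ : K) ∈ Submodule.span F (Set.range v) := htop ▸ Submodule.mem_top
      rw [Matrix.range_cons_cons_empty, Submodule.mem_span_pair] at hmem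
      obtain ⟨a, b, hab⟩ := hmem
      exact ⟨a, b, (congrArg Subtype.val hab).symm⟩
    have hBB : ∀ v, B v v = 0 := fun v => by rw [C.self, h2, zero_mul]
    have hzero := semilinear_zero h2 hirr hn (M := fun v => B (k₀ *ᵥ v) v)
      (fun u v => by
        simp only [Matrix.mulVec_add, map_add, LinearMap.add_apply]
        rw [show B (k₀ *ᵥ u) v = B (k₀ *ᵥ v) u by rw [oadj_spec C, hself k₀ hk₀, C.symm]]
        linear_combination B (k₀ *ᵥ v) u * h2)
      (fun c v => by
        simp only [Matrix.mulVec_smul, map_smul, LinearMap.smul_apply, smul_eq_mul]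
        ring)
      (fun g hg v hv => by
        obtain ⟨a, b, hab⟩ := hspan _ (hconj' g hg k₀ hk₀)
        rw [hshift, C.B_act (hH hg), hab, Matrix.add_mulVec, Matrix.smul_mulVec, Matrix.smul_mulVec,
          Matrix.one_mulVec, map_add, map_smul, map_smul, LinearMap.add_apply, LinearMap.smul_apply,
          LinearMap.smul_apply, hBB, hv, smul_zero, smul_zero, add_zero])
    have halt : ∀ k ∈ K, ∀ v, B (k *ᵥ v) v = 0 := fun k hk v => by
      obtain ⟨a, b, rfl⟩ := hspan k hk
      rw [Matrix.add_mulVec, Matrix.smul_mulVec, Matrix.smul_mulVec, Matrix.one_mulVec, map_add, map_smul,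
        map_smul, LinearMap.add_apply, LinearMap.smul_apply, LinearMap.smul_apply, hBB, hzero v, smul_zero,
        smul_zero, add_zero]
    exact Nat.not_even_iff_odd.2 hm (even_iff_two_dvd.2 (selfAdjoint_half_dvd C hcard hK hself halt))
  right
  push Not at hself
  obtain ⟨k, hk, hkne⟩ := hself
  have hne : ¬ IsSelfAdjointFor (QuadraticMap.polar Q) K := fun h =>
    hkne (oadj_unique C fun u v => by rw [← C.polar, ← C.polar]; exact h k hk u v)
  refine ⟨fun x hx => ⟨oadj Q x, hadj x hx, fun u v => by rw [C.polar, C.polar, oadj_spec C]⟩, hne, ?_⟩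
  let S : Submodule F (Matrix ι ι F) :=
    { carrier := {x | x ∈ K ∧ oadj Q x = x}
      add_mem' := fun {a b} ha hb => ⟨add_mem ha.1 hb.1, by rw [oadj_add, ha.2, hb.2]⟩
      zero_mem' := ⟨zero_mem K, oadj_zero⟩
      smul_mem' := fun c a ha => ⟨K.smul_mem ha.1 c, by rw [oadj_smul, ha.2]⟩ }
  have hfix : ∀ x ∈ K, oadj Q x = x → ∃ c : F, x = c • 1 := by
    intro x hx hxa
    have hlt : S < Subalgebra.toSubmodule K := lt_of_le_of_ne (fun y hy => hy.1) fun h =>
      hkne ((show k ∈ S from h ▸ hk).2)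
    have h1 := Submodule.finrank_lt_finrank_of_lt hlt
    rw [Subalgebra.finrank_toSubmodule, hK.finrank_eq] at h1
    have h1' : (⟨1, one_mem K, oadj_one C⟩ : S) ≠ 0 := fun h =>
      one_ne_zero (α := Matrix ι ι F) (congrArg Subtype.val h)
    have hS1 : finrank F S = 1 := by
      have : finrank F S ≠ 0 := fun h0 => h1' (by
        have hb : S = ⊥ := Submodule.finrank_eq_zero.1 h0
        exact Subtype.ext ((Submodule.mem_bot F).1 (hb ▸ (⟨one_mem K, oadj_one C⟩ : (1 : Matrix ι ι F) ∈ S))))
      omega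
    obtain ⟨c, hc⟩ := (finrank_eq_one_iff_of_nonzero' _ h1').1 hS1 ⟨x, hx, hxa⟩
    exact ⟨c, (congrArg Subtype.val hc).symm⟩
  intro j hj
  obtain ⟨t, ht⟩ := hfix (j + oadj Q j) (add_mem hj (hadj j hj))
    (by rw [oadj_add, oadj_oadj C, add_comm])
  obtain ⟨N, hN⟩ := hfix (oadj Q j * j) (mul_mem (hadj j hj) hj)
    (by rw [oadj_mul C, oadj_oadj C])
  have hM : ∀ v, B v (j *ᵥ v) = t * Q v := by
    by_cases h2 : (2 : F) = 0
    swap
    · intro v
      have h1 : B v (j *ᵥ v) + B v (j *ᵥ v) = t * B v v := by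
        nth_rw 2 [C.symm]
        rw [oadj_spec C, ← map_add, ← Matrix.add_mulVec, ht, Matrix.smul_mulVec, Matrix.one_mulVec, map_smul,
          smul_eq_mul]
      rw [C.self] at h1
      exact mul_left_cancel₀ h2 (by linear_combination h1)
    have := semilinear_zero h2 hirr hn (M := fun v => B v (j *ᵥ v) - t * Q v)
      (fun u v => by
        have h1 : B u (j *ᵥ v) + B v (j *ᵥ u) = t * B u v := by
          rw [C.symm v, oadj_spec C, ← map_add, ← Matrix.add_mulVec, ht, Matrix.smul_mulVec,
            Matrix.one_mulVec, map_smul, smul_eq_mul]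
        simp only [Matrix.mulVec_add, map_add, LinearMap.add_apply, C.add]
        linear_combination h1)
      (fun c v => by
        simp only [Matrix.mulVec_smul, map_smul, LinearMap.smul_apply, smul_eq_mul, C.smul]
        ring)
      (fun g hg v hv => by
        have hj' := hconj' g hg j hj
        have ht' : (g⁻¹).val * j * g.val + oadj Q ((g⁻¹).val * j * g.val) = t • 1 := by
          rw [oadj_mul C, oadj_mul C, oadj_of_mem C (hH hg), oadj_of_mem C (inv_mem (hH hg)), inv_inv,
            ← mul_assoc, ← add_mul, ← mul_add, ht, mul_smul_comm, mul_one, smul_mul_assoc, ← Units.val_mul,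
            inv_mul_cancel, Units.val_one]
        obtain ⟨a, b, hab⟩ : ∃ a b : F, (g⁻¹).val * j * g.val = a • 1 + b • j := by
          by_cases hsc : ∃ c : F, j = c • 1
          · obtain ⟨c, rfl⟩ := hsc
            exact ⟨c, 0, by rw [mul_smul_comm, mul_one, smul_mul_assoc, ← Units.val_mul, inv_mul_cancel,
              Units.val_one, zero_smul, add_zero]⟩
          let w : Fin 2 → K := ![1, ⟨j, hj⟩]
          have hli : LinearIndependent F w := by
            refine LinearIndependent.pair_iff.2 fun a b hab => ?_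
            have h1 : a • (1 : Matrix ι ι F) + b • j = 0 := congrArg Subtype.val hab
            by_cases hb : b = 0
            · rw [hb, zero_smul, add_zero, smul_eq_zero] at h1
              exact ⟨h1.resolve_right one_ne_zero, hb⟩
            · exact absurd ⟨-(b⁻¹ * a), by
                rw [← inv_smul_smul₀ hb j, eq_neg_of_add_eq_zero_right h1, smul_neg, smul_smul, neg_smul]⟩ hsc
          have htop : Submodule.span F (Set.range w) = ⊤ :=
            hli.span_eq_top_of_card_eq_finrank (by rw [Fintype.card_fin, hK.finrank_eq])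
          have hmem : (⟨_, hj'⟩ : K) ∈ Submodule.span F (Set.range w) := htop ▸ Submodule.mem_top
          rw [Matrix.range_cons_cons_empty, Submodule.mem_span_pair] at hmem
          obtain ⟨a, b, hab⟩ := hmem
          exact ⟨a, b, (congrArg Subtype.val hab).symm⟩
        have htt : 2 * a + b * t = t := by
          have h1 := ht'
          rw [hab, oadj_add, oadj_smul, oadj_smul, oadj_one C,
            show a • (1 : Matrix ι ι F) + b • j + (a • 1 + b • oadj Q j) = (2 * a) • 1 + b • (j + oadj Q j) by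
              module, ht, smul_smul, ← add_smul] at h1
          exact smul_left_injective F (one_ne_zero (α := Matrix ι ι F)) h1
        rw [hshift, C.B_act (hH hg), hab, Matrix.add_mulVec, Matrix.smul_mulVec, Matrix.smul_mulVec,
          Matrix.one_mulVec, map_add, map_smul, map_smul, C.self, Orth.mem_iso.1 (hH hg), smul_eq_mul,
          smul_eq_mul]
        linear_combination (Q v) * htt + b * hv)
    exact fun v => sub_eq_zero.1 (this v)
  refine ⟨t, N, ht, hM, ?_⟩
  have hBB : ∀ u v, B (j *ᵥ u) (j *ᵥ v) = N * B u v := fun u v => by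
    rw [oadj_spec C, Matrix.mulVec_mulVec, hN, Matrix.smul_mulVec, Matrix.one_mulVec, map_smul, smul_eq_mul]
  by_cases h2 : (2 : F) = 0
  swap
  · intro v
    have h1 := hBB v v
    rw [C.self, C.self] at h1
    exact mul_left_cancel₀ h2 (by linear_combination h1)
  have := semilinear_zero h2 hirr hn (M := fun v => Q (j *ᵥ v) - N * Q v)
    (fun u v => by
      simp only [Matrix.mulVec_add, C.add, hBB]
      ring)
    (fun c v => by
      simp only [Matrix.mulVec_smul, C.smul]
      ring)
    (fun g hg v hv => by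
      have hj' := hconj' g hg j hj
      have hN' : oadj Q ((g⁻¹).val * j * g.val) * ((g⁻¹).val * j * g.val) = N • 1 := by
        rw [oadj_mul C, oadj_mul C, oadj_of_mem C (hH hg), oadj_of_mem C (inv_mem (hH hg)), inv_inv]
        calc (g⁻¹).val * (oadj Q j * g.val) * ((g⁻¹).val * j * g.val)
            = (g⁻¹).val * (oadj Q j * (g.val * (g⁻¹).val) * j) * g.val := by simp only [mul_assoc]
          _ = N • 1 := by
            rw [← Units.val_mul, mul_inv_cancel, Units.val_one, mul_one, hN, mul_smul_comm, mul_one,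
              smul_mul_assoc, ← Units.val_mul, inv_mul_cancel, Units.val_one]
      obtain ⟨a, b, hab⟩ : ∃ a b : F, (g⁻¹).val * j * g.val = a • 1 + b • j := by
        by_cases hsc : ∃ c : F, j = c • 1
        · obtain ⟨c, rfl⟩ := hsc
          exact ⟨c, 0, by rw [mul_smul_comm, mul_one, smul_mul_assoc, ← Units.val_mul, inv_mul_cancel,
            Units.val_one, zero_smul, add_zero]⟩
        let w : Fin 2 → K := ![1, ⟨j, hj⟩]
        have hli : LinearIndependent F w := by
          refine LinearIndependent.pair_iff.2 fun a b hab => ?_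
          have h1 : a • (1 : Matrix ι ι F) + b • j = 0 := congrArg Subtype.val hab
          by_cases hb : b = 0
          · rw [hb, zero_smul, add_zero, smul_eq_zero] at h1
            exact ⟨h1.resolve_right one_ne_zero, hb⟩
          · exact absurd ⟨-(b⁻¹ * a), by
              rw [← inv_smul_smul₀ hb j, eq_neg_of_add_eq_zero_right h1, smul_neg, smul_smul, neg_smul]⟩ hsc
        have htop : Submodule.span F (Set.range w) = ⊤ :=
          hli.span_eq_top_of_card_eq_finrank (by rw [Fintype.card_fin, hK.finrank_eq])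
        have hmem : (⟨_, hj'⟩ : K) ∈ Submodule.span F (Set.range w) := htop ▸ Submodule.mem_top
        rw [Matrix.range_cons_cons_empty, Submodule.mem_span_pair] at hmem
        obtain ⟨a, b, hab⟩ := hmem
        exact ⟨a, b, (congrArg Subtype.val hab).symm⟩
      have hNN : a ^ 2 + a * b * t + b ^ 2 * N = N := by
        have h1 := hN'
        rw [hab, oadj_add, oadj_smul, oadj_smul, oadj_one C,
          show (a • (1 : Matrix ι ι F) + b • oadj Q j) * (a • 1 + b • j) =
              (a ^ 2) • 1 + (a * b) • (j + oadj Q j) + b ^ 2 • (oadj Q j * j) by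
            simp only [add_mul, mul_add, smul_mul_smul_comm, one_mul, mul_one, smul_add]
            module, ht, hN, smul_smul, smul_smul, ← add_smul, ← add_smul] at h1
        exact smul_left_injective F (one_ne_zero (α := Matrix ι ι F)) h1
      rw [hshift, Orth.mem_iso.1 (hH hg), hab, Matrix.add_mulVec, Matrix.smul_mulVec, Matrix.smul_mulVec,
        Matrix.one_mulVec, C.smul_add, hM v, Orth.mem_iso.1 (hH hg)]
      linear_combination (Q v) * hNN + b ^ 2 * hv)
  exact fun v => sub_eq_zero.1 (this v)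

/-- A space with a quadratic field of similarities has the type of an orthogonal sum of anisotropic lines
over that field. -/
theorem similarity_type [Finite F] [Nonempty ι] (C : Orth.Space Q B) {m : ℕ} (hcard : Fintype.card ι = 2 * m)
    {K : Subalgebra F (Matrix ι ι F)} (hK : IsFieldSubalgebra 2 K) (hadj : ∀ k ∈ K, oadj Q k ∈ K)
    (hsim : ∀ k ∈ K, ∃ t N : F, k + oadj Q k = t • 1 ∧ (∀ v, B v (k *ᵥ v) = t * Q v) ∧
      ∀ v, Q (k *ᵥ v) = N * Q v)
    {k0 : Matrix ι ι F} (hk0 : k0 ∈ K) (hk0ne : oadj Q k0 ≠ k0) :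
    IsPlusTypeOn Q (⊤ : Submodule F (ι → F)) ↔ Even m := by
  classical
  have hplane : ∀ v, Q v ≠ 0 →
      ∀ W : Submodule F (ι → F), W = LinearMap.range ((Matrix.mulVecBilin F F).flip v ∘ₗ K.val.toLinearMap) →
      finrank F W = 2 ∧ Orth.NDeg B W ∧ ¬ IsPlusTypeOn Q W := by
    rintro v hQv W rfl
    have hv : v ≠ 0 := fun h => hQv (by rw [h, C.zero])
    have haniso : ∀ k ∈ K, k ≠ 0 → Q (k *ᵥ v) ≠ 0 := by
      intro k hk hk0' h
      obtain ⟨y, hy, hky⟩ := hK.inv k hk hk0'
      obtain ⟨t, N, -, -, hN⟩ := hsim y hy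
      have h1 := hN (k *ᵥ v)
      rw [Matrix.mulVec_mulVec, hK.comm y hy k hk, hky, Matrix.one_mulVec, h, mul_zero] at h1
      exact hQv h1
    refine ⟨finrank_line hK hv, fun x hx h => ?_, ?_⟩
    · obtain ⟨k, hk, rfl⟩ := mem_line.1 hx
      by_contra hne
      have hk' : k ≠ 0 := fun h => hne (by rw [h, Matrix.zero_mulVec])
      obtain ⟨t, N, ht, hB0, -⟩ := hsim k0 hk0
      have h2 := h (k0 *ᵥ (k *ᵥ v)) (mem_line.2 ⟨k0 * k, mul_mem hk0 hk, (Matrix.mulVec_mulVec v k0 k).symm⟩)
      rw [hB0] at h2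
      have h3 := h (k *ᵥ v) (mem_line.2 ⟨k, hk, rfl⟩)
      rw [C.self] at h3
      have h2' := (mul_eq_zero.1 h2).resolve_right (haniso k hk hk')
      have h3' := (mul_eq_zero.1 h3).resolve_right (haniso k hk hk')
      apply hk0ne
      have hneg : oadj Q k0 = -k0 := by
        rw [h2', zero_smul] at ht
        exact eq_neg_of_add_eq_zero_right ht
      rw [hneg, ← neg_one_smul F k0, show (-1 : F) = 1 by linear_combination -h3', one_smul]
    · rintro ⟨U, hU, hUs, hUd⟩
      obtain ⟨x, hx, hx0⟩ := Submodule.exists_mem_ne_zero_of_ne_bot (p := U) fun h => by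
        rw [h, finrank_bot, finrank_line hK hv] at hUd
        omega
      obtain ⟨k, hk, rfl⟩ := mem_line.1 (hU hx)
      exact haniso k hk (fun h => hx0 (by rw [h, Matrix.zero_mulVec])) (hUs _ hx)
  have key : ∀ j ≤ m, ∃ W : Submodule F (ι → F), finrank F W = 2 * j ∧ Orth.NDeg B W ∧
      (∀ k ∈ K, ∀ x ∈ W, k *ᵥ x ∈ W) ∧ (IsPlusTypeOn Q W ↔ Even j) := by
    intro j
    induction j with
    | zero =>
      exact fun _ => ⟨⊥, by simp, NondegFix.ndeg_bot, fun k _ x hx => by
        rw [Submodule.mem_bot] at hx ⊢; rw [hx, Matrix.mulVec_zero],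
        iff_of_true (NondegFix.plus_bot Q C.zero) Even.zero⟩
    | succ j ih =>
      intro hj
      obtain ⟨W, hWd, hWn, hWK, hWt⟩ := ih (by omega)
      have hB := orth_space_nondegenerate C
      have hR := orth_space_refl C
      let W' := B.orthogonal W
      have hWW : W ⊓ W' = ⊥ := (Submodule.eq_bot_iff _).2 fun x hx =>
        hWn x hx.1 fun y hy => by rw [C.symm]; exact hx.2 y hy
      have hW'n : Orth.NDeg B W' := Orth.ndeg_of_geo C (orth_nondegenerateOn C (by
        rw [LinearMap.BilinForm.orthogonal_orthogonal hB hR, inf_comm]; exact hWW))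
      obtain ⟨v, hv, hQv⟩ := Orth.exists_nonsing C hW'n fun h => by
        have h1 := LinearMap.BilinForm.finrank_orthogonal hB W
        rw [show B.orthogonal W = W' from rfl, h, finrank_bot, finrank_fintype_fun_eq_card, hcard, hWd] at h1
        omega
      let P := LinearMap.range ((Matrix.mulVecBilin F F).flip v ∘ₗ K.val.toLinearMap)
      obtain ⟨hPd, hPn, hPt⟩ := hplane v hQv P rfl
      have horth : ∀ x ∈ W, ∀ y ∈ P, B x y = 0 := by
        intro x hx y hy
        obtain ⟨k, hk, rfl⟩ := mem_line.1 hy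
        rw [C.symm, oadj_spec C, C.symm]
        exact hv _ (hWK _ (hadj k hk) x hx)
      obtain ⟨h1, h2⟩ := NondegFix.ndeg_sup C hWn hPn horth
      refine ⟨W ⊔ P, by rw [h2, hWd, hPd]; ring, h1, fun k hk x hx => ?_, ?_⟩
      · obtain ⟨a, ha, b, hb, rfl⟩ := Submodule.mem_sup.1 hx
        obtain ⟨l, hl, rfl⟩ := mem_line.1 hb
        rw [Matrix.mulVec_add]
        exact Submodule.add_mem_sup (hWK k hk a ha)
          (mem_line.2 ⟨k * l, mul_mem hk hl, (Matrix.mulVec_mulVec v k l).symm⟩)
      · rw [NondegFix.type_sum C hWd (t := 1) hPd hWn hPn horth, hWt, Nat.even_add_one]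
        simp [hPt]
  obtain ⟨W, hWd, -, -, hWt⟩ := key m le_rfl
  have htop : W = ⊤ := Submodule.eq_top_of_finrank_eq (by rw [hWd, finrank_fintype_fun_eq_card, hcard])
  rwa [htop] at hWt

end Cfsg.Lib.Linear.AschOrth
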