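import Cfsg.Agent.Lib.Linear.AschOrth.Field
import Cfsg.Agent.Lib.Linear.OrthSimple

/-!
# `Ω` preserves no decomposition and no extension field
-/

set_option autoImplicit false
set_option linter.unusedSectionVars false
set_option linter.style.haveILetI false

namespace Cfsg.Lib.Linear.AschOrth

open Cfsg.Geo Cfsg.Lib.Linear Cfsg.Lib.Linear.Asch Cfsg.Lib.Linear.AschGen Module
open scoped Matrix MatrixGroups commutatorElement

variable {ι : Type} [Fintype ι] [DecidableEq ι] {F : Type*} [Field F]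
  {Q : (ι → F) → F} {B : LinearMap.BilinForm F (ι → F)}

/-- A hyperbolic pair and a singular vector perpendicular to both. -/
theorem exists_triple [Finite F] (C : Orth.Space Q B) (h7 : 7 ≤ Fintype.card ι) :
    ∃ e f a : ι → F, Q e = 0 ∧ Q f = 0 ∧ B e f = 1 ∧ Q a = 0 ∧ B e a = 0 ∧ B a f = 0 ∧ a ≠ 0 := by
  obtain ⟨e, f, hH⟩ := Orth.exists_hyp' C C.ndeg_top (by
    rw [finrank_top, finrank_fintype_fun_eq_card]; omega)
  obtain ⟨a, a', hH', haA, -⟩ := Orth.exists_hyp_perpIn C
    (U := ⊤) (W := ⊥) ⟨C.ndeg_top, fun x hx _ => (Submodule.mem_bot F).mp hx,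
      fun _ _ w hw => by rw [(Submodule.mem_bot F).mp hw, map_zero], sup_bot_eq ⊤⟩
    (A := Submodule.span F {e, f}) le_top (by
      have := Orth.finrank_span_pair_le (F := F) e f
      rw [finrank_top, finrank_fintype_fun_eq_card]
      omega)
  obtain ⟨-, hap⟩ := Orth.mem_perpIn.mp hH'.memE
  refine ⟨e, f, a, hH.singE, hH.singF, hH.pair, hH'.singE, hap e (Submodule.subset_span (by simp)), ?_,
    fun h => haA (h ▸ Submodule.zero_mem _)⟩
  rw [C.symm]
  exact hap f (Submodule.subset_span (by simp))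

theorem sGL_pair_act (C : Orth.Space Q B) {u v : ι → F} (hu : Q u = 0) (hv : Q v = 0) (huv : B u v = 0)
    (x : ι → F) : (Orth.sGL Q B u v).val *ᵥ x = x + (B u x • v - B v x • u) := by
  rw [Orth.sGL_act C hu huv, hv, zero_mul, add_zero, ← add_sub_assoc]

/-- The element of a singular perpendicular pair differs from the identity by a map of square zero. -/
theorem sGL_pair_sq (C : Orth.Space Q B) {u v : ι → F} (hu : Q u = 0) (hv : Q v = 0) (huv : B u v = 0) :
    ((Orth.sGL Q B u v).val - 1) * ((Orth.sGL Q B u v).val - 1) = 0 := by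
  refine Orth.mat_ext fun x => ?_
  have hN : ∀ z, ((Orth.sGL Q B u v).val - 1) *ᵥ z = B u z • v - B v z • u := fun z => by
    rw [Matrix.sub_mulVec, Matrix.one_mulVec, sGL_pair_act C hu hv huv, add_sub_cancel_left]
  rw [Matrix.zero_mulVec, ← Matrix.mulVec_mulVec, hN, hN]
  simp only [map_smul, map_sub, huv, C.self_zero hu, C.self_zero hv, C.symm v u, smul_zero, sub_zero,
    zero_smul, sub_self]

/-- A square-zero translate of the identity fixes every member of a decomposition it permutes. -/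
theorem sq_fix_member (h2 : (2 : F) ≠ 0) {t m : ℕ} {D : Fin t → Submodule F (ι → F)}
    (hD : IsMDecomposition m D) {g : GL ι F} (hsq : (g.val - 1) * (g.val - 1) = 0)
    (hg : g ∈ decompositionStabilizer D) (i : Fin t) : (D i).map (Matrix.toLin' g.val) = D i := by
  obtain ⟨σ, hσ⟩ := hg
  suffices h : σ i = i by rw [hσ, h]
  by_contra hne
  obtain ⟨v, hv, hv0⟩ := Submodule.exists_mem_ne_zero_of_ne_bot (p := D i) (fun h => by
    have := hD.finrank_eq i
    rw [h, finrank_bot] at this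
    exact hD.pos.ne this)
  have hgv : g.val *ᵥ v ∈ D (σ i) := hσ i ▸ ⟨v, hv, Matrix.toLin'_apply _ _⟩
  have hggv : g.val *ᵥ (g.val *ᵥ v) ∈ D (σ (σ i)) := hσ (σ i) ▸ ⟨_, hgv, Matrix.toLin'_apply _ _⟩
  have hrel : g.val *ᵥ (g.val *ᵥ v) = (2 : F) • (g.val *ᵥ v) - v := by
    have h1 := congrArg (fun M => M *ᵥ v) hsq
    simp only [Matrix.zero_mulVec, ← Matrix.mulVec_mulVec, Matrix.sub_mulVec, Matrix.one_mulVec,
      Matrix.mulVec_sub] at h1
    rw [two_smul]
    linear_combination (norm := abel) h1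
  have hdis := (iSupIndep_def.1 hD.indep)
  by_cases hk : σ (σ i) = i
  · have h1 : (2 : F) • (g.val *ᵥ v) ∈ D i := by
      rw [show (2 : F) • (g.val *ᵥ v) = g.val *ᵥ (g.val *ᵥ v) + v by rw [hrel, sub_add_cancel]]
      exact (D i).add_mem (hk ▸ hggv) hv
    have h3 := Submodule.disjoint_def.1 (hdis i) _ h1
      (Submodule.mem_iSup_of_mem (σ i) (Submodule.mem_iSup_of_mem hne ((D (σ i)).smul_mem _ hgv)))
    have h4 := (smul_eq_zero.1 h3).resolve_left h2
    exact hv0 (by rw [← inv_mulVec_mulVec g v, h4, Matrix.mulVec_zero])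
  · refine hv0 (Submodule.disjoint_def.1 (hdis i) v hv ?_)
    rw [show v = (2 : F) • (g.val *ᵥ v) - g.val *ᵥ (g.val *ᵥ v) by rw [hrel, sub_sub_cancel]]
    refine Submodule.sub_mem _ ?_ ?_
    · exact Submodule.mem_iSup_of_mem (σ i) (Submodule.mem_iSup_of_mem hne ((D (σ i)).smul_mem _ hgv))
    · exact Submodule.mem_iSup_of_mem (σ (σ i)) (Submodule.mem_iSup_of_mem hk hggv)

/-- `Ω` preserves no decomposition. -/
theorem not_omega_le_decomp [Finite F] (C : Orth.Space Q B) (h2 : (2 : F) ≠ 0) (h7 : 7 ≤ Fintype.card ι)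
    {t m : ℕ} {D : Fin t → Submodule F (ι → F)} (hD : IsMDecomposition m D) :
    ¬ omegaGL Q ≤ decompositionStabilizer D := by
  intro hle
  have h5 : 5 ≤ Fintype.card ι := by omega
  obtain ⟨e, f, a, he, hf, hef, -, -, -, -⟩ := exists_triple C h7
  let i0 : Fin t := ⟨0, by have := hD.two_le; omega⟩
  let i1 : Fin t := ⟨1, by have := hD.two_le; omega⟩
  have hne : D i0 ≠ ⊥ := fun h => by
    have := hD.finrank_eq i0
    rw [h, finrank_bot] at this
    exact hD.pos.ne this
  have htop : D i0 ≠ ⊤ := fun h => by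
    have h1 : D i1 = ⊥ := by
      rw [← le_bot_iff, ← disjoint_iff.1 ((iSupIndep_def.1 hD.indep) i1)]
      refine le_inf le_rfl (le_trans le_top ?_)
      rw [← h]
      exact le_iSup₂ (f := fun j (_ : j ≠ i1) => D j) i0 (by simp [i0, i1, Fin.ext_iff])
    have := hD.finrank_eq i1
    rw [h1, finrank_bot] at this
    exact hD.pos.ne this
  refine not_omega_le_subspaceStabilizer C h5 h2 he hf hef hne htop ?_
  rw [Orth.omegaGL_eq C h5]
  refine Orth.root_le_of_pairs C h5 _ fun u v hu hv huv => ?_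
  have hgD := hle (sGL_mem_omega C h5 hu huv)
  refine mem_subspaceStabilizer_of_inv fun w hw => ?_
  rw [← sq_fix_member h2 hD (sGL_pair_sq C hu hv huv) hgD i0]
  exact ⟨w, hw, Matrix.toLin'_apply _ _⟩

/-- A matrix commuting with `Ω` is a scalar. -/
theorem omega_commutant [Finite F] (C : Orth.Space Q B) (h7 : 7 ≤ Fintype.card ι) {M : GL ι F}
    (hM : ∀ g ∈ omegaGL Q, g.val * M.val = M.val * g.val) : ∃ c : F, ∀ x, M.val *ᵥ x = c • x := by
  refine Orth.scalar_of_lines C h7 fun e he => ?_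
  by_cases he0 : e = 0
  · rw [he0, Matrix.mulVec_zero]; exact Submodule.zero_mem _
  obtain ⟨f, hH⟩ := Orth.exists_hyp C C.ndeg_top trivial he0 he
  set y := M.val *ᵥ e with hy
  have hfix : ∀ a, B e a = 0 → B e y • a - (B a y + Q a * B e y) • e = 0 := by
    intro a hea
    have h1 : (Orth.sGL Q B e a).val *ᵥ y = y := by
      rw [hy, Matrix.mulVec_mulVec, hM _ (sGL_mem_omega C (by omega) he hea), ← Matrix.mulVec_mulVec,
        Orth.sGL_act C he hea]
      simp [C.self_zero he, C.symm a e, hea]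
    rw [Orth.sGL_act C he hea, add_sub_assoc, add_eq_left] at h1
    exact h1
  obtain ⟨a, hea, ha⟩ : ∃ a, B e a = 0 ∧ a ∉ Submodule.span F {e} := by
    by_contra hcon
    push Not at hcon
    have h1 : finrank F (LinearMap.ker (B e)) ≤ 1 :=
      (Submodule.finrank_mono (fun a ha => hcon a ha)).trans (finrank_span_singleton he0).le
    have h2 := LinearMap.finrank_range_add_finrank_ker (B e)
    have h3 : finrank F (LinearMap.range (B e)) ≤ 1 :=
      (Submodule.finrank_le _).trans (Module.finrank_self F).le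
    rw [finrank_fintype_fun_eq_card] at h2
    omega
  have hey : B e y = 0 := by
    by_contra hne
    exact ha ((Submodule.smul_mem_iff _ hne).1 (by
      rw [sub_eq_zero.1 (hfix a hea)]
      exact Submodule.smul_mem _ _ (Submodule.mem_span_singleton_self e)))
  have hay : ∀ a, B e a = 0 → B a y = 0 := fun a hea => by
    have h1 := hfix a hea
    rw [hey, zero_smul, mul_zero, add_zero, zero_sub, neg_eq_zero, smul_eq_zero] at h1
    exact h1.resolve_right he0
  refine Submodule.mem_span_singleton.2 ⟨B f y, (sub_eq_zero.1 (C.nondeg _ fun x => ?_)).symm⟩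
  have h1 := hay (x - B e x • f) (by rw [map_sub, map_smul, hH.pair, smul_eq_mul, mul_one, sub_self])
  rw [map_sub, LinearMap.sub_apply, map_smul, LinearMap.smul_apply, smul_eq_mul] at h1
  rw [map_sub, map_smul, smul_eq_mul, C.symm x e]
  linear_combination h1

/-- `Ω` normalises no extension field. -/
theorem not_omega_le_field [Finite F] (C : Orth.Space Q B) (h7 : 7 ≤ Fintype.card ι) {r : ℕ}
    (hr : 1 < r) {K : Subalgebra F (Matrix ι ι F)} (hK : IsFieldSubalgebra r K) :
    ¬ omegaGL Q ≤ subalgebraNormalizer K := by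
  intro hle
  haveI : Nonempty ι := Fintype.card_pos_iff.1 (by omega)
  haveI : Finite (Matrix ι ι F) := inferInstanceAs (Finite (ι → ι → F))
  letI : CommRing K :=
    { (inferInstance : Ring K) with mul_comm := fun a b => Subtype.ext (hK.comm a.1 a.2 b.1 b.2) }
  haveI : IsDomain K := by
    haveI : NoZeroDivisors K := ⟨fun {a b} hab => or_iff_not_imp_left.2 fun ha => by
      obtain ⟨y, hy, h⟩ := hK.inv a.1 a.2 fun h => ha (Subtype.ext h)
      have h1 : (⟨y, hy⟩ : K) * (a * b) = b := by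
        rw [← mul_assoc, mul_comm _ a, show a * (⟨y, hy⟩ : K) = 1 from Subtype.ext h, one_mul]
      rw [← h1, hab, mul_zero]⟩
    exact NoZeroDivisors.to_isDomain K
  let ψ : ∀ g : GL ι F, g ∈ subalgebraNormalizer K → (Kˣ →* Kˣ) := fun g hg =>
    Units.map
      { toFun := fun k => ⟨conjA g k.1, (hg k.1).1 k.2⟩
        map_one' := Subtype.ext (map_one _)
        map_mul' := fun a b => Subtype.ext (map_mul _ a.1 b.1) }
  have hψ : ∀ g hg (k : Kˣ), (((ψ g hg k : Kˣ) : K) : Matrix ι ι F) = conjA g ((k : K) : Matrix ι ι F) :=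
    fun _ _ _ => rfl
  have hcomm : ∀ g ∈ omegaGL Q, ∀ h ∈ omegaGL Q, ∀ k : Kˣ,
      conjA g (conjA h ((k : K) : Matrix ι ι F)) = conjA h (conjA g ((k : K) : Matrix ι ι F)) := by
    intro g hg h hh k
    obtain ⟨m₁, hm₁⟩ := MonoidHom.map_cyclic (ψ g (hle hg))
    obtain ⟨m₂, hm₂⟩ := MonoidHom.map_cyclic (ψ h (hle hh))
    rw [← hψ h (hle hh) k, ← hψ g (hle hg) k, ← hψ g (hle hg), ← hψ h (hle hh)]
    congr 2
    simp only [hm₁, hm₂, ← zpow_mul, mul_comm m₁ m₂]
  have hfix : ∀ g ∈ omegaGL Q, ∀ k : Kˣ, conjA g ((k : K) : Matrix ι ι F) = (k : K) := by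
    let L : Subgroup (GL ι F) :=
      { carrier := {g | ∀ k : Kˣ, conjA g ((k : K) : Matrix ι ι F) = (k : K)}
        one_mem' := fun k => conjA_one _
        mul_mem' := fun {a b} ha hb k => by rw [conjA_mul, hb k, ha k]
        inv_mem' := fun {a} ha k => by conv_lhs => rw [← ha k, conjA_inv] }
    suffices h : omegaGL Q ≤ L from fun g hg k => h hg k
    rw [Orth.omegaGL_eq C (by omega)] at hcomm hle ⊢
    refine (Orth.root_le_commutator C h7).trans (Subgroup.commutator_le.2 fun g hg h hh k => ?_)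
    have e1 : ∀ x ∈ Orth.Root Q B ⊤, ∀ k : Kˣ, ∃ k' : Kˣ, conjA x ((k : K) : Matrix ι ι F) = (k' : K) :=
      fun x hx k => ⟨ψ x (hle hx) k, (hψ x (hle hx) k).symm⟩
    obtain ⟨k', hk'⟩ := e1 _ (inv_mem hh) k
    obtain ⟨k'', hk''⟩ := e1 _ (inv_mem hg) k'
    rw [commutatorElement_def, conjA_mul, hk', conjA_mul, hk'', conjA_mul, hcomm g hg h hh k'', ← hk'',
      show conjA g (conjA g⁻¹ ((k' : K) : Matrix ι ι F)) = (k' : K) by simpa using conjA_inv g⁻¹ _, ← hk']
    simpa using conjA_inv h⁻¹ ((k : K) : Matrix ι ι F)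
  have hbot : K = ⊥ := eq_bot_iff.2 fun k hk => by
    by_cases hk0 : k = 0
    · rw [hk0]; exact zero_mem _
    obtain ⟨y, hy, hky⟩ := hK.inv k hk hk0
    let u : Kˣ := ⟨⟨k, hk⟩, ⟨y, hy⟩, Subtype.ext hky, Subtype.ext ((hK.comm y hy k hk).trans hky)⟩
    let M : GL ι F := ⟨k, y, hky, (hK.comm y hy k hk).trans hky⟩
    obtain ⟨c, hc⟩ := omega_commutant C h7 (M := M) fun g hg => by
      have h1 := congrArg (· * g.val) (hfix g hg u)
      simp only [conjA_apply, mul_assoc, Units.inv_mul, mul_one] at h1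
      exact h1
    refine Algebra.mem_bot.2 ⟨c, Orth.mat_ext fun x => ?_⟩
    rw [Algebra.algebraMap_eq_smul_one, Matrix.smul_mulVec, Matrix.one_mulVec]
    exact (hc x).symm
  have h1 := hK.finrank_eq
  rw [hbot, Subalgebra.finrank_bot] at h1
  omega

end Cfsg.Lib.Linear.AschOrth
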