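import Cfsg.Agent.Lib.Linear.AschOrth.Forms
import Cfsg.Agent.Lib.Linear.AschOrth.NotOmega
import Cfsg.Agent.Lib.Linear.AschSp.Tensor

/-!
# Tensor squares preserved by groups of isometries
-/

set_option autoImplicit false
set_option linter.unusedSectionVars false
set_option linter.style.haveILetI false

namespace Cfsg.Lib.Linear.AschOrth

open Cfsg.Geo Cfsg.Lib.Linear Cfsg.Lib.Linear.Asch Cfsg.Lib.Linear.AschGen
open scoped Matrix MatrixGroups Kronecker

variable {ι : Type} [Fintype ι] [DecidableEq ι] {F : Type*} [Field F]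
  {Q : (ι → F) → F} {B : LinearMap.BilinForm F (ι → F)}

section Coord

variable {β : Type} [Fintype β] [DecidableEq β] (e : ι ≃ β) (P : GL ι F)

/-- The matrix with coordinate matrix `X` in the frame `(e, P)`. -/
def tm (X : Matrix β β F) : Matrix ι ι F := conjA P (X.submatrix e e)

/-- The Gram matrix of the polar form in the frame `(e, P)`. -/
def gO (Q : (ι → F) → F) : Matrix β β F :=
  (P.valᵀ * gramMatrix (QuadraticMap.polar Q) * P.val).submatrix e.symm e.symm

theorem tm_mul (X Y : Matrix β β F) : tm e P (X * Y) = tm e P X * tm e P Y := by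
  rw [tm, tm, tm, ← map_mul, Matrix.submatrix_mul_equiv]

theorem tm_one : tm e P (1 : Matrix β β F) = 1 := by
  rw [tm, Matrix.submatrix_one_equiv, map_one]

theorem tm_sub (X Y : Matrix β β F) : tm e P (X - Y) = tm e P X - tm e P Y := by
  rw [tm, tm, tm, ← map_sub]; rfl

theorem tm_inj : Function.Injective (tm e P : Matrix β β F → Matrix ι ι F) := fun X Y h =>
  Matrix.ext fun i j => by
    simpa using congrFun (congrFun ((conjA P).injective h) (e.symm i)) (e.symm j)

theorem tm_act (X : Matrix β β F) (x : β → F) :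
    tm e P X *ᵥ (P.val *ᵥ (x ∘ e)) = P.val *ᵥ ((X *ᵥ x) ∘ e) := by
  rw [tm, conjA_apply, ← Matrix.mulVec_mulVec, inv_mulVec_mulVec, ← Matrix.mulVec_mulVec,
    Matrix.submatrix_mulVec_equiv]
  congr 2
  exact congrArg (fun z => X *ᵥ z) (funext fun i => by simp)

variable {e P}

theorem coord_form (C : Orth.Space Q B) (x y : β → F) :
    B (P.val *ᵥ (x ∘ e)) (P.val *ᵥ (y ∘ e)) = x ⬝ᵥ gO e P Q *ᵥ y := by
  rw [gO, Matrix.submatrix_mulVec_equiv, Equiv.symm_symm, dotProduct_comp_equiv_symm,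
    ← Matrix.mulVec_mulVec, ← Matrix.mulVec_mulVec, Matrix.dotProduct_mulVec (x ∘ e), Matrix.vecMul_transpose,
    B_gram C]

theorem gO_transpose : (gO e P Q)ᵀ = gO e P Q := by
  rw [gO, Matrix.transpose_submatrix, Matrix.transpose_mul, Matrix.transpose_mul, Matrix.transpose_transpose,
    gram_symm, Matrix.mul_assoc]

theorem gO_isUnit (C : Orth.Space Q B) : IsUnit (gO e P Q).det := by
  rw [gO, Matrix.det_submatrix_equiv_self, Matrix.det_mul, Matrix.det_mul, Matrix.det_transpose]
  exact ((P.isUnit.map Matrix.detMonoidHom).mul (isUnit_gram C)).mul (P.isUnit.map Matrix.detMonoidHom)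

theorem tm_oadj (C : Orth.Space Q B) {X X' : Matrix β β F} (h : oadj Q (tm e P X) = tm e P X') :
    Xᵀ * gO e P Q = gO e P Q * X' := by
  refine Matrix.ext fun i j => ?_
  have h1 := oadj_spec C (tm e P X) (P.val *ᵥ ((Pi.single i (1 : F)) ∘ e)) (P.val *ᵥ ((Pi.single j (1 : F)) ∘ e))
  rw [h, tm_act, tm_act, coord_form C, coord_form C, ← Matrix.vecMul_transpose, ← Matrix.dotProduct_mulVec,
    Matrix.mulVec_mulVec, Matrix.mulVec_mulVec] at h1
  simpa [Matrix.mulVec_single_one] using h1

theorem gO_fix (C : Orth.Space Q B) {g : GL ι F} (hg : g ∈ isometryGroup F Q) {X : Matrix β β F}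
    (hX : g.val = tm e P X) : Xᵀ * gO e P Q * X = gO e P Q := by
  refine Matrix.ext fun i j => ?_
  have h1 := C.B_act hg (P.val *ᵥ ((Pi.single i (1 : F)) ∘ e)) (P.val *ᵥ ((Pi.single j (1 : F)) ∘ e))
  rw [hX, tm_act, tm_act, coord_form C, coord_form C, ← Matrix.vecMul_transpose, ← Matrix.dotProduct_mulVec,
    Matrix.mulVec_mulVec, Matrix.mulVec_mulVec] at h1
  simpa [Matrix.mulVec_single_one] using h1

theorem gO_change (y : GL β F) (P' : GL ι F) (h : P'.val = P.val * y.val.submatrix e e) :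
    gO e P' Q = y.valᵀ * gO e P Q * y.val := by
  rw [gO, gO, h, Matrix.transpose_mul, Matrix.transpose_submatrix]
  simp only [← Matrix.submatrix_mul_equiv _ _ _ e.symm, Matrix.submatrix_submatrix, Equiv.self_comp_symm,
    Matrix.submatrix_id_id, Matrix.mul_assoc]

end Coord

/-! ### The stabiliser of a tensor square -/

section Wreath

variable {d : ℕ}

/-- The exchange of the two factors. -/
def swapMat (d : ℕ) (F : Type*) [Field F] : Matrix (Fin d × Fin d) (Fin d × Fin d) F :=
  (1 : Matrix (Fin d × Fin d) (Fin d × Fin d) F).submatrix Prod.swap id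

theorem swapMat_mul (X : Matrix (Fin d × Fin d) (Fin d × Fin d) F) :
    swapMat d F * X = X.submatrix Prod.swap id := by
  ext p q
  simp [swapMat, Matrix.mul_apply, Matrix.one_apply]

theorem mul_swapMat (X : Matrix (Fin d × Fin d) (Fin d × Fin d) F) :
    X * swapMat d F = X.submatrix id Prod.swap := by
  ext p q
  simp [swapMat, Matrix.mul_apply, Matrix.one_apply, Prod.swap_eq_iff_eq_swap]

theorem swapMat_sq : swapMat d F * swapMat d F = 1 := by
  rw [swapMat_mul, swapMat, Matrix.submatrix_submatrix]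
  simp

theorem swapMat_transpose : (swapMat d F)ᵀ = swapMat d F := by
  ext p q
  simp only [swapMat, Matrix.transpose_apply, Matrix.submatrix_apply, Matrix.one_apply, id_eq]
  congr 1
  exact propext ⟨fun h => by rw [← h, Prod.swap_swap], fun h => by rw [← h, Prod.swap_swap]⟩

theorem swapMat_kron (a b : Matrix (Fin d) (Fin d) F) :
    swapMat d F * (a ⊗ₖ b) = (b ⊗ₖ a) * swapMat d F := by
  rw [swapMat_mul, mul_swapMat]
  ext p q
  simp [mul_comm]

/-- The two-factor index set. -/
def arrow (d : ℕ) : Fin d × Fin d ≃ (Fin 2 → Fin d) := (finTwoArrowEquiv (Fin d)).symm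

/-- The elements of the standard stabiliser of a tensor square. -/
theorem standard_two {x : GL (Fin 2 → Fin d) F} (hx : x ∈ tensorWreathStandard d 2 F) :
    ∃ a b : GL (Fin d) F, x.val.submatrix (arrow d) (arrow d) = a.val ⊗ₖ b.val ∨
      x.val.submatrix (arrow d) (arrow d) = (a.val ⊗ₖ b.val) * swapMat d F := by
  induction hx using Subgroup.closure_induction with
  | mem x hx =>
    rcases hx with ⟨gs, hgs⟩ | ⟨σ, hσ⟩
    · refine ⟨gs 0, gs 1, Or.inl (Matrix.ext fun p q => ?_)⟩
      rw [Matrix.submatrix_apply, hgs, Fin.prod_univ_two, Matrix.kroneckerMap_apply]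
      rfl
    · refine ⟨1, 1, ?_⟩
      rw [Units.val_one, Matrix.one_kronecker_one, Matrix.one_mul]
      rcases (show ∀ τ : Equiv.Perm (Fin 2), τ = 1 ∨ τ = Equiv.swap 0 1 by decide) σ with rfl | rfl
      · refine Or.inl (Matrix.ext fun p q => ?_)
        rw [Matrix.submatrix_apply, hσ, Matrix.one_apply]
        simp [arrow, eq_comm, Prod.ext_iff]
      · refine Or.inr (Matrix.ext fun p q => ?_)
        have hcomp : arrow d p ∘ Equiv.swap (0 : Fin 2) 1 = arrow d p.swap := by
          funext k; fin_cases k <;> rfl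
        rw [Matrix.submatrix_apply, hσ, hcomp, swapMat, Matrix.submatrix_apply, Matrix.one_apply]
        simp [eq_comm]
  | one => exact ⟨1, 1, Or.inl (by rw [Units.val_one, Units.val_one, Matrix.one_kronecker_one,
      Matrix.submatrix_one_equiv])⟩
  | mul x y _ _ hx hy =>
    obtain ⟨a, b, hab⟩ := hx
    obtain ⟨c, e, hce⟩ := hy
    rw [Units.val_mul, ← Matrix.submatrix_mul_equiv _ _ (arrow d) (arrow d) (arrow d)]
    rcases hab with hab | hab <;> rcases hce with hce | hce <;> rw [hab, hce]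
    · exact ⟨a * c, b * e, Or.inl (by rw [← Matrix.mul_kronecker_mul]; rfl)⟩
    · exact ⟨a * c, b * e, Or.inr (by rw [← Matrix.mul_assoc, ← Matrix.mul_kronecker_mul]; rfl)⟩
    · exact ⟨a * e, b * c, Or.inr (by
        rw [Matrix.mul_assoc, swapMat_kron, ← Matrix.mul_assoc, ← Matrix.mul_kronecker_mul]; rfl)⟩
    · exact ⟨a * e, b * c, Or.inl (by
        rw [Matrix.mul_assoc, ← Matrix.mul_assoc (swapMat d F), swapMat_kron, Matrix.mul_assoc (e.val ⊗ₖ c.val),
          swapMat_sq, Matrix.mul_one, ← Matrix.mul_kronecker_mul]; rfl)⟩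
  | inv x _ hx =>
    obtain ⟨a, b, hab⟩ := hx
    have hinv : ∀ Y, Y * x.val.submatrix (arrow d) (arrow d) = 1 →
        x⁻¹.val.submatrix (arrow d) (arrow d) = Y := fun Y hY => by
      refine (left_inv_eq_right_inv hY ?_).symm
      rw [Matrix.submatrix_mul_equiv, Units.mul_inv, Matrix.submatrix_one_equiv]
    rcases hab with hab | hab
    · exact ⟨a⁻¹, b⁻¹, Or.inl (hinv _ (by
        rw [hab, ← Matrix.mul_kronecker_mul, Units.inv_mul, Units.inv_mul, Matrix.one_kronecker_one]))⟩
    · refine ⟨b⁻¹, a⁻¹, Or.inr (hinv _ ?_)⟩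
      rw [hab, Matrix.mul_assoc, ← Matrix.mul_assoc (swapMat d F), swapMat_kron, Matrix.mul_assoc (b.val ⊗ₖ a.val),
        swapMat_sq, Matrix.mul_one, ← Matrix.mul_kronecker_mul, Units.inv_mul, Units.inv_mul,
        Matrix.one_kronecker_one]

variable {e : ι ≃ Fin d × Fin d} {P : GL ι F}

/-- The elements of the stabiliser of a tensor square. -/
theorem wreath_two {g : GL ι F} (hg : g ∈ tensorWreathSubgroup d 2 (e.trans (arrow d)) P) :
    ∃ a b : GL (Fin d) F, g.val = tm e P (a.val ⊗ₖ b.val) ∨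
      g.val = tm e P ((a.val ⊗ₖ b.val) * swapMat d F) := by
  obtain ⟨_, ⟨x, hx, rfl⟩, rfl⟩ := hg
  obtain ⟨a, b, h⟩ := standard_two hx
  refine ⟨a, b, ?_⟩
  rcases h with h | h
  · exact Or.inl (by rw [tm, ← h]; rfl)
  · exact Or.inr (by rw [tm, ← h]; rfl)

/-- A Kronecker product as an element of the standard stabiliser. -/
theorem exists_pure (a b : GL (Fin d) F) :
    ∃ x ∈ tensorWreathStandard d 2 F, x.val.submatrix (arrow d) (arrow d) = a.val ⊗ₖ b.val := by
  let y : GL (Fin d × Fin d) F := ⟨a.val ⊗ₖ b.val, (a⁻¹).val ⊗ₖ (b⁻¹).val,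
    by rw [← Matrix.mul_kronecker_mul, Units.mul_inv, Units.mul_inv, Matrix.one_kronecker_one],
    by rw [← Matrix.mul_kronecker_mul, Units.inv_mul, Units.inv_mul, Matrix.one_kronecker_one]⟩
  refine ⟨glReindex (arrow d) y, Subgroup.subset_closure (Or.inl ⟨![a, b], fun p q => ?_⟩), ?_⟩
  · rw [Fin.prod_univ_two]
    rfl
  · show ((a.val ⊗ₖ b.val).submatrix (arrow d).symm (arrow d).symm).submatrix (arrow d) (arrow d) = _
    rw [Matrix.submatrix_submatrix, Equiv.symm_comp_self, Matrix.submatrix_id_id]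

/-- The stabiliser of a tensor decomposition with equal factors stabilises the tensor square. -/
theorem tensor_le_wreath :
    tensorProductSubgroup d d e P ≤ tensorWreathSubgroup d 2 (e.trans (arrow d)) P := by
  intro g hg
  obtain ⟨_, ⟨y, ⟨a, b, hy⟩, rfl⟩, rfl⟩ := hg
  obtain ⟨x, hx, hxv⟩ := exists_pure a b
  refine ⟨_, ⟨x, hx, rfl⟩, Units.ext ?_⟩
  show P.val * (x.val.submatrix (arrow d) (arrow d)).submatrix e e * (P⁻¹).val = _
  rw [hxv, ← hy]
  rfl

/-- Changing the frame by an element of the standard stabiliser keeps the stabiliser. -/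
theorem wreath_change {t : ℕ} {e' : ι ≃ (Fin t → Fin d)} {x : GL (Fin t → Fin d) F}
    (hx : x ∈ tensorWreathStandard d t F) :
    tensorWreathSubgroup d t e' P ≤ tensorWreathSubgroup d t e' (P * glReindex e'.symm x) := by
  rintro _ ⟨_, ⟨z, hz, rfl⟩, rfl⟩
  refine ⟨_, ⟨x⁻¹ * z * x, mul_mem (mul_mem (inv_mem hx) hz) hx, rfl⟩, ?_⟩
  show P * glReindex e'.symm x * glReindex e'.symm (x⁻¹ * z * x) * (P * glReindex e'.symm x)⁻¹ =
    P * glReindex e'.symm z * P⁻¹
  simp only [map_mul, map_inv]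
  group

theorem kron_pow (a b : Matrix (Fin d) (Fin d) F) (k : ℕ) : (a ⊗ₖ b) ^ k = (a ^ k) ⊗ₖ (b ^ k) := by
  induction k with
  | zero => simp
  | succ k ih => rw [pow_succ, pow_succ, pow_succ, ih, ← Matrix.mul_kronecker_mul]

/-- A square-zero translate of the identity which is a Kronecker product has a scalar factor. -/
theorem kron_sq_zero (h2 : (2 : F) ≠ 0) {a b : Matrix (Fin d) (Fin d) F} (hd : 0 < d) (ha : a.det ≠ 0)
    (h : (a ⊗ₖ b - 1) * (a ⊗ₖ b - 1) = 0) : (∃ c : F, a = c • 1) ∨ ∃ c : F, b = c • 1 := by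
  classical
  rw [or_iff_not_imp_right]
  intro hb
  let i0 : Fin d := ⟨0, hd⟩
  obtain ⟨φ, hφ1, hφb⟩ : ∃ φ : Matrix (Fin d) (Fin d) F →ₗ[F] F, φ 1 = 0 ∧ φ b ≠ 0 := by
    by_cases hoff : ∃ i j, i ≠ j ∧ b i j ≠ 0
    · obtain ⟨i, j, hij, hne⟩ := hoff
      exact ⟨{ toFun := fun M => M i j, map_add' := fun _ _ => rfl, map_smul' := fun _ _ => rfl },
        Matrix.one_apply_ne hij, hne⟩
    push Not at hoff
    obtain ⟨i, hne⟩ : ∃ i, b i i ≠ b i0 i0 := by
      by_contra hall
      push Not at hall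
      refine hb ⟨b i0 i0, Matrix.ext fun i j => ?_⟩
      by_cases hij : i = j
      · subst hij; simp [hall i]
      · simp [hoff i j hij, hij]
    exact ⟨{ toFun := fun M => M i i - M i0 i0
             map_add' := fun M N => by simp only [Matrix.add_apply]; ring
             map_smul' := fun c M => by
              simp only [Matrix.smul_apply, smul_eq_mul, RingHom.id_apply]; ring },
      by simp, sub_ne_zero.2 hne⟩
  obtain ⟨ψ, hψ1, hψb⟩ : ∃ ψ : Matrix (Fin d) (Fin d) F →ₗ[F] F, ψ 1 = 1 ∧ ψ b = 0 := by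
    refine ⟨{ toFun := fun M => M i0 i0 - b i0 i0 / φ b * φ M
              map_add' := fun M N => by simp only [Matrix.add_apply, map_add]; ring
              map_smul' := fun c M => by
                simp only [Matrix.smul_apply, map_smul, smul_eq_mul, RingHom.id_apply]; ring },
      by simp [hφ1], by simp [div_mul_cancel₀ _ hφb]⟩
  have hid : (a * a) ⊗ₖ (b * b) - (a ⊗ₖ b + a ⊗ₖ b) + 1 = 0 := by
    rw [Matrix.mul_kronecker_mul, ← h, Matrix.sub_mul, Matrix.mul_sub, Matrix.mul_sub, Matrix.one_mul,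
      Matrix.mul_one, Matrix.one_mul]
    abel
  have hslice : ∀ χ : Matrix (Fin d) (Fin d) F →ₗ[F] F,
      χ (b * b) • (a * a) - (χ b • a + χ b • a) + χ 1 • 1 = 0 := by
    intro χ
    refine Matrix.ext fun i j => ?_
    have h1 : (a * a) i j • (b * b) - (a i j • b + a i j • b) + (1 : Matrix (Fin d) (Fin d) F) i j • 1 = 0 := by
      refine Matrix.ext fun k l => ?_
      have := congrFun (congrFun hid (i, k)) (j, l)
      have hone : (1 : Matrix (Fin d × Fin d) (Fin d × Fin d) F) (i, k) (j, l) =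
          (1 : Matrix (Fin d) (Fin d) F) i j * (1 : Matrix (Fin d) (Fin d) F) k l :=
        (congrFun (congrFun (Matrix.one_kronecker_one (α := F) (m := Fin d) (n := Fin d)) (i, k)) (j, l)).symm
      rw [Matrix.add_apply, hone] at this
      simpa using this
    have h3 := congrArg χ h1
    simp only [map_add, map_sub, map_smul, map_zero, smul_eq_mul] at h3
    simp only [Matrix.add_apply, Matrix.sub_apply, Matrix.smul_apply, Matrix.zero_apply, smul_eq_mul]
    linear_combination h3
  have e1 : φ (b * b) • (a * a) = φ b • a + φ b • a := by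
    have := hslice φ
    rwa [hφ1, zero_smul, add_zero, sub_eq_zero] at this
  have e2 : ψ (b * b) • (a * a) = -1 := by
    have := hslice ψ
    rw [hψ1, hψb, zero_smul, add_zero, sub_zero, one_smul] at this
    exact eq_neg_of_add_eq_zero_left this
  have hau : IsUnit a.det := isUnit_iff_ne_zero.2 ha
  have h3 : φ (b * b) • a = (φ b + φ b) • (1 : Matrix (Fin d) (Fin d) F) := by
    have := congrArg (a⁻¹ * ·) e1
    simp only [Matrix.mul_smul, Matrix.mul_add, ← Matrix.mul_assoc, Matrix.nonsing_inv_mul _ hau,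
      Matrix.one_mul] at this
    rw [this, add_smul]
  have hne : φ (b * b) ≠ 0 := by
    intro h0
    rw [h0, zero_smul, eq_comm, smul_eq_zero] at h3
    have hone : (1 : Matrix (Fin d) (Fin d) F) ≠ 0 := fun h => one_ne_zero (α := F) (by
      simpa using congrFun (congrFun h i0) i0)
    have h4 := h3.resolve_right hone
    rw [← two_mul] at h4
    exact hφb ((mul_eq_zero.1 h4).resolve_left h2)
  exact ⟨(φ (b * b))⁻¹ * (φ b + φ b), by
    rw [← smul_smul, ← h3, smul_smul, inv_mul_cancel₀ hne, one_smul]⟩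

end Wreath

theorem pow_sq_zero {g : GL ι F} (hsq : (g.val - 1) * (g.val - 1) = 0) (k : ℕ) :
    (g ^ k).val = 1 + k • (g.val - 1) := by
  induction k with
  | zero => simp
  | succ k ih =>
    rw [pow_succ, Units.val_mul, ih, add_mul, one_mul, succ_nsmul, smul_mul_assoc,
      show (g.val - 1) * g.val = (g.val - 1) * (g.val - 1) + (g.val - 1) by
        rw [mul_sub (g.val - 1), mul_one, sub_add_cancel], hsq, zero_add]
    abel

/-- `Ω` stabilises no tensor square with factors of dimension at least three. -/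
theorem not_omega_le_wreath [Finite F] (C : Orth.Space Q B) (h2 : (2 : F) ≠ 0) (h7 : 7 ≤ Fintype.card ι)
    {d : ℕ} (hd : 3 ≤ d) {e : ι ≃ Fin d × Fin d} {P : GL ι F} :
    ¬ omegaGL Q ≤ tensorWreathSubgroup d 2 (e.trans (arrow d)) P := by
  classical
  intro hle
  haveI : Nonempty ι := Fintype.card_pos_iff.1 (by omega)
  obtain ⟨u, f, v, hu, hf, huf, hv, huv, hvf, hv0⟩ := exists_triple C h7
  set g := Orth.sGL Q B u v with hgdef
  have hgΩ : g ∈ omegaGL Q := sGL_mem_omega C (by omega) hu huv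
  have hsq : (g.val - 1) * (g.val - 1) = 0 := sGL_pair_sq C hu hv huv
  have hNact : ∀ x, (g.val - 1) *ᵥ x = B u x • v - B v x • u := fun x => by
    rw [Matrix.sub_mulVec, Matrix.one_mulVec, sGL_pair_act C hu hv huv, add_sub_cancel_left]
  have hg1 : g.val - 1 ≠ 0 := fun h => hv0 (by
    have := hNact f
    rw [h, Matrix.zero_mulVec, huf, hvf, one_smul, zero_smul, sub_zero] at this
    exact this.symm)
  obtain ⟨p, hp⟩ := CharP.exists F
  haveI : Fact p.Prime := ⟨CharP.char_is_prime F p⟩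
  have hpodd : Odd p := (Fact.out : p.Prime).odd_of_ne_two fun h => h2 (by
    subst h; exact_mod_cast CharP.cast_eq_zero F 2)
  have hgp : g ^ p = 1 := Units.ext (by
    rw [pow_sq_zero hsq, Units.val_one, ← Nat.cast_smul_eq_nsmul F, CharP.cast_eq_zero F p, zero_smul,
      add_zero])
  obtain ⟨k, hk⟩ := hpodd
  obtain ⟨a, b, hab⟩ : ∃ a b : GL (Fin d) F, g.val = tm e P (a.val ⊗ₖ b.val) := by
    obtain ⟨a, b, hab | hab⟩ := wreath_two (hle hgΩ)
    · exact ⟨a, b, hab⟩
    refine ⟨(a * b) ^ (k + 1), (b * a) ^ (k + 1), ?_⟩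
    have h1 : g = (g * g) ^ (k + 1) := by
      rw [← sq, ← pow_mul, show 2 * (k + 1) = p + 1 by omega, pow_succ, hgp, one_mul]
    conv_lhs => rw [h1]
    rw [Units.val_pow_eq_pow_val, Units.val_mul, hab, ← tm_mul, Units.val_pow_eq_pow_val,
      Units.val_pow_eq_pow_val, Units.val_mul, Units.val_mul, ← kron_pow]
    rw [show (a.val ⊗ₖ b.val * swapMat d F) * (a.val ⊗ₖ b.val * swapMat d F) =
        (a.val * b.val) ⊗ₖ (b.val * a.val) by
      rw [Matrix.mul_assoc, ← Matrix.mul_assoc (swapMat d F), swapMat_kron, Matrix.mul_assoc (b.val ⊗ₖ a.val),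
        swapMat_sq, Matrix.mul_one, ← Matrix.mul_kronecker_mul]]
    generalize (a.val * b.val) ⊗ₖ (b.val * a.val) = X
    generalize k + 1 = n
    induction n with
    | zero => rw [pow_zero, pow_zero, tm_one]
    | succ n ih => rw [pow_succ, pow_succ, ih, ← tm_mul]
  have hN : g.val - 1 = tm e P (a.val ⊗ₖ b.val - 1) := by rw [tm_sub, tm_one, hab]
  have hrank : ∀ L : (Fin d → F) →ₗ[F] (ι → F), Function.Injective L →
      (∀ z, L z ∈ Submodule.span F {u, v}) → False := by
    intro L hL hmem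
    have h1 : Module.finrank F (LinearMap.range L) ≤ Module.finrank F (Submodule.span F {u, v}) :=
      Submodule.finrank_mono (by rintro _ ⟨z, rfl⟩; exact hmem z)
    rw [LinearMap.finrank_range_of_inj hL, Module.finrank_fin_fun] at h1
    have := Orth.finrank_span_pair_le (F := F) u v
    omega
  have himg : ∀ x, (g.val - 1) *ᵥ x ∈ Submodule.span F {u, v} := fun x => by
    rw [hNact]
    exact Submodule.sub_mem _ (Submodule.smul_mem _ _ (Submodule.subset_span (by simp)))
      (Submodule.smul_mem _ _ (Submodule.subset_span (by simp)))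
  obtain ⟨w, n, hw, hform⟩ : ∃ (w : Fin d → F) (n : Matrix (Fin d) (Fin d) F), n *ᵥ w ≠ 0 ∧
      (a.val ⊗ₖ b.val - 1 = (1 : Matrix (Fin d) (Fin d) F) ⊗ₖ n ∨
       a.val ⊗ₖ b.val - 1 = n ⊗ₖ (1 : Matrix (Fin d) (Fin d) F)) := by
    have hsq' : (a.val ⊗ₖ b.val - 1) * (a.val ⊗ₖ b.val - 1) = 0 := tm_inj e P (by
      rw [tm_mul, ← hN, hsq]
      exact (by simp [tm] : (0 : Matrix ι ι F) = tm e P 0))
    have hne : a.val ⊗ₖ b.val - 1 ≠ 0 := fun h => hg1 (by rw [hN, h]; simp [tm])
    have hwit : ∀ n : Matrix (Fin d) (Fin d) F, n ≠ 0 → ∃ w, n *ᵥ w ≠ 0 := fun n hn => by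
      by_contra hall
      push Not at hall
      exact hn (Matrix.ext_of_mulVec_single fun i => by rw [hall, Matrix.zero_mulVec])
    rcases kron_sq_zero h2 (by omega) (Matrix.GeneralLinearGroup.det_ne_zero a) hsq' with ⟨c, hc⟩ | ⟨c, hc⟩
    · have he : a.val ⊗ₖ b.val - 1 = (1 : Matrix (Fin d) (Fin d) F) ⊗ₖ (c • b.val - 1) := by
        rw [hc, Matrix.smul_kronecker, ← Matrix.kronecker_smul]
        ext i j
        simp [Matrix.one_apply, Prod.ext_iff]
        split_ifs <;> simp_all
      obtain ⟨w, hw⟩ := hwit (c • b.val - 1) (fun h => hne (by rw [he, h]; simp))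
      exact ⟨w, _, hw, Or.inl he⟩
    · have he : a.val ⊗ₖ b.val - 1 = (c • a.val - 1) ⊗ₖ (1 : Matrix (Fin d) (Fin d) F) := by
        rw [hc, Matrix.kronecker_smul, ← Matrix.smul_kronecker]
        ext i j
        simp [Matrix.one_apply, Prod.ext_iff]
        split_ifs <;> simp_all
      obtain ⟨w, hw⟩ := hwit (c • a.val - 1) (fun h => hne (by rw [he, h]; simp))
      exact ⟨w, _, hw, Or.inr he⟩
  obtain ⟨l, hl⟩ := Function.ne_iff.1 hw
  let emb : ((Fin d × Fin d) → F) →ₗ[F] (ι → F) :=
    (Matrix.mulVecLin P.val).comp (LinearMap.funLeft F F e)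
  have hemb : Function.Injective emb := fun x y h => by
    have h1 := congrArg ((P⁻¹).val *ᵥ ·) (show P.val *ᵥ (x ∘ e) = P.val *ᵥ (y ∘ e) from h)
    simp only [inv_mulVec_mulVec] at h1
    exact funext fun q => by simpa using congrFun h1 (e.symm q)
  have hmem : ∀ x : Fin d × Fin d → F, emb ((a.val ⊗ₖ b.val - 1) *ᵥ x) ∈ Submodule.span F {u, v} :=
    fun x => by
      have h1 := himg (P.val *ᵥ (x ∘ e))
      rw [hN, tm_act] at h1
      exact h1
  rcases hform with hform | hform <;> rw [hform] at hmem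
  · let L₀ : (Fin d → F) →ₗ[F] (Fin d × Fin d → F) :=
      { toFun := fun z q => z q.1 * (n *ᵥ w) q.2
        map_add' := fun z z' => funext fun q => by simp only [Pi.add_apply]; ring
        map_smul' := fun c z => funext fun q => by simp only [Pi.smul_apply, smul_eq_mul, RingHom.id_apply]; ring }
    refine hrank (emb.comp L₀) (hemb.comp fun z z' h => funext fun i => ?_) fun z => ?_
    · exact mul_right_cancel₀ hl (congrFun h (i, l))
    · have h1 := hmem fun q => z q.1 * w q.2
      rwa [AschSp.kron_mulVec_pure, Matrix.one_mulVec] at h1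
  · let L₀ : (Fin d → F) →ₗ[F] (Fin d × Fin d → F) :=
      { toFun := fun z q => (n *ᵥ w) q.1 * z q.2
        map_add' := fun z z' => funext fun q => by simp only [Pi.add_apply]; ring
        map_smul' := fun c z => funext fun q => by simp only [Pi.smul_apply, smul_eq_mul, RingHom.id_apply]; ring }
    refine hrank (emb.comp L₀) (hemb.comp fun z z' h => funext fun i => ?_) fun z => ?_
    · exact mul_left_cancel₀ hl (congrFun h (l, i))
    · have h1 := hmem fun q => w q.1 * z q.2
      rwa [AschSp.kron_mulVec_pure, Matrix.one_mulVec] at h1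

theorem sq_one_three [Fintype F] (hq : Fintype.card F = 3) {x : F} (hx : x ≠ 0) : x * x = 1 := by
  have := FiniteField.pow_card_sub_one_eq_one x hx
  rw [hq] at this
  rw [← sq]; exact this

/-- Over three elements an orthogonal matrix of size three, up to a scalar, is monomial. -/
theorem column_single [Fintype F] (hq : Fintype.card F = 3) {a : Matrix (Fin 3) (Fin 3) F} (h : aᵀ * a = 1)
    (i : Fin 3) : ∃ (l : Fin 3) (s : F), a *ᵥ Pi.single i 1 = s • (Pi.single l 1 : Fin 3 → F) := by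
  have h1 : ∑ j, a j i ^ 2 = 1 := by
    have := congrFun (congrFun h i) i
    simpa [Matrix.mul_apply, sq] using this
  obtain ⟨l, hl⟩ := one_nonzero hq (a := fun j => a j i) h1
  refine ⟨l, a l i, funext fun j => ?_⟩
  rw [Matrix.mulVec_single_one]
  by_cases hj : j = l
  · subst hj; simp
  · simp [hj, hl j hj]

theorem single_mul_single {d : ℕ} (l m : Fin d) :
    (fun q : Fin d × Fin d => (Pi.single l (1 : F) : Fin d → F) q.1 * (Pi.single m (1 : F) : Fin d → F) q.2) =
      Pi.single (l, m) 1 :=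
  funext fun ⟨q, q'⟩ => by by_cases h : q = l <;> simp [Pi.single_apply, Prod.ext_iff, h]

set_option maxHeartbeats 800000 in
/-- An isometry group stabilising a tensor square in dimension nine. -/
theorem product_cases [Fintype F] (C : Orth.Space Q B) (hodd : Odd (Fintype.card F))
    (hcard : Fintype.card ι = 9) {H : Subgroup (GL ι F)} (hH : H ≤ isometryGroup F Q)
    {e : ι ≃ Fin 3 × Fin 3} {P : GL ι F} (hle : H ≤ tensorWreathSubgroup 3 2 (e.trans (arrow 3)) P)
    (hA : ∀ a : Matrix (Fin 3) (Fin 3) F,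
      ∃ a', oadj Q (tm e P (a ⊗ₖ (1 : Matrix (Fin 3) (Fin 3) F))) = tm e P (a' ⊗ₖ 1)) :
    (5 ≤ Fintype.card F ∧ ∃ (P' : GL ι F) (f₁ : (Fin 3 → F) → (Fin 3 → F) → F), IsSymmetricForm f₁ ∧
      IsTensorPowerFormStructure id (QuadraticMap.polar Q) f₁ (e.trans (arrow 3)) P' ∧
      H ≤ tensorWreathSubgroup 3 2 (e.trans (arrow 3)) P') ∨
    (Fintype.card F = 3 ∧ ∃ D : Fin 9 → Submodule F (ι → F), IsOrthogonalMDecomposition Q 1 D ∧
      H ≤ decompositionStabilizer D) := by
  classical
  have h2 : (2 : F) ≠ 0 := Orth.two_ne_zero_of_odd_card hodd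
  obtain ⟨A, A', hG⟩ := AschSp.kron_factor (d := 3) (k := 3) (by omega) (gO_isUnit (e := e) (P := P) C) (fun a => by
    obtain ⟨a', ha⟩ := hA a
    exact ⟨a', tm_oadj C ha⟩)
  have hu := gO_isUnit (e := e) (P := P) C
  rw [hG, Matrix.det_kronecker, IsUnit.mul_iff, Fintype.card_fin] at hu
  have hAu : IsUnit A.det := (isUnit_pow_iff (by omega)).1 hu.1
  have hA'u : IsUnit A'.det := (isUnit_pow_iff (by omega)).1 hu.2
  have hA0 : A ≠ 0 := fun h => hAu.ne_zero (by rw [h, Matrix.det_zero])
  have hA'0 : A' ≠ 0 := fun h => hA'u.ne_zero (by rw [h, Matrix.det_zero])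
  have htr : Aᵀ ⊗ₖ A'ᵀ = A ⊗ₖ A' := by
    rw [← AschSp.kron_comp_left, ← hG, gO_transpose]
  obtain ⟨μ, hμ, hA't, hAt⟩ := AschSp.kron_inj htr hA0 hA'0
  have hμ1 : μ = 1 := by
    obtain ⟨i, j, hij⟩ : ∃ i j, A i j ≠ 0 := by
      by_contra hne; push Not at hne; exact hA0 (Matrix.ext hne)
    have e1 := congrFun (congrFun hAt j) i
    have e2 := congrFun (congrFun hAt i) j
    simp only [Matrix.transpose_apply, Matrix.smul_apply, smul_eq_mul] at e1 e2
    have hμμ : μ⁻¹ * μ⁻¹ = 1 := by
      have : (μ⁻¹ * μ⁻¹) * A i j = A i j := by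
        calc _ = μ⁻¹ * (μ⁻¹ * A i j) := by ring
          _ = μ⁻¹ * A j i := by rw [e2]
          _ = A i j := e1.symm
      exact (mul_eq_right₀ hij).1 this
    rcases mul_self_eq_one_iff.1 hμμ with h | h
    · exact inv_eq_one.1 h
    exfalso
    have h3 := congrArg Matrix.det hAt
    rw [Matrix.det_transpose, h, Matrix.det_smul, Fintype.card_fin] at h3
    exact hAu.ne_zero ((mul_eq_zero.1 (show (2 : F) * A.det = 0 by linear_combination h3)).resolve_left h2)
  rw [hμ1, one_smul] at hA't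
  rw [hμ1, inv_one, one_smul] at hAt
  obtain ⟨T, c, hc, hT⟩ := exists_scalar_congr h2 (n := 2) (by decide) hAt hAu
  obtain ⟨T', c', hc', hT'⟩ := exists_scalar_congr h2 (n := 2) (by decide) hA't hA'u
  obtain ⟨x, hx, hxv⟩ := exists_pure T T'
  set P' := P * glReindex (e.trans (arrow 3)).symm x with hP'
  have hleP : H ≤ tensorWreathSubgroup 3 2 (e.trans (arrow 3)) P' := hle.trans (wreath_change hx)
  let y : GL (Fin 3 × Fin 3) F := ⟨T.val ⊗ₖ T'.val, (T⁻¹).val ⊗ₖ (T'⁻¹).val,
    by rw [← Matrix.mul_kronecker_mul, Units.mul_inv, Units.mul_inv, Matrix.one_kronecker_one],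
    by rw [← Matrix.mul_kronecker_mul, Units.inv_mul, Units.inv_mul, Matrix.one_kronecker_one]⟩
  have hP'v : P'.val = P.val * y.val.submatrix e e := by
    show P.val * x.val.submatrix (e.trans (arrow 3)) (e.trans (arrow 3)) = P.val * (T.val ⊗ₖ T'.val).submatrix e e
    rw [← hxv]
    rfl
  have hg : gO e P' Q = (c * c') • (1 : Matrix (Fin 3 × Fin 3) (Fin 3 × Fin 3) F) := by
    rw [gO_change y P' hP'v, hG]
    show (T.val ⊗ₖ T'.val)ᵀ * (A ⊗ₖ A') * (T.val ⊗ₖ T'.val) = _
    rw [AschSp.kron_comp_left, ← Matrix.mul_kronecker_mul, ← Matrix.mul_kronecker_mul, hT, hT',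
      Matrix.smul_kronecker, Matrix.kronecker_smul, Matrix.one_kronecker_one, smul_smul]
  have hcc : c * c' ≠ 0 := mul_ne_zero hc hc'
  have hq : Fintype.card F = 3 ∨ 5 ≤ Fintype.card F := by
    have := Fintype.one_lt_card (α := F)
    obtain ⟨j, hj⟩ := hodd
    omega
  rcases hq with hq | hq
  swap
  · left
    refine ⟨hq, P', formOfGram id (1 : Matrix (Fin 3) (Fin 3) F), AschSp.symm_formOfGram
      (by rw [Matrix.det_one]; exact isUnit_one) Matrix.transpose_one, ⟨c * c', hcc, fun x y => ?_⟩, hleP⟩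
    rw [AschSp.gram_formOfGram, C.polar,
      show x ∘ (e.trans (arrow 3)) = (x ∘ arrow 3) ∘ e from rfl,
      show y ∘ (e.trans (arrow 3)) = (y ∘ arrow 3) ∘ e from rfl, coord_form C, hg, Matrix.smul_mulVec,
      Matrix.one_mulVec, dotProduct_smul, smul_eq_mul]
    congr 1
    rw [dotProduct, ← Equiv.sum_comp (arrow 3) (fun a => ∑ b, x a * (∏ i, _) * id (y b))]
    refine Finset.sum_congr rfl fun a _ => ?_
    have hδ : ∀ b, (∏ i, (1 : Matrix (Fin 3) (Fin 3) F) ((arrow 3 a) i) (b i)) =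
        if arrow 3 a = b then 1 else 0 := fun b => by
      have h := congrFun (congrFun (pureTens_one (F := F) (d := 3) (t := 2)) (arrow 3 a)) b
      rwa [pureTens, Matrix.of_apply, Matrix.one_apply] at h
    simp only [Function.comp_apply, hδ, id_eq]
    simp
  right
  refine ⟨hq, ?_⟩
  let σ : Fin 9 ≃ Fin 3 × Fin 3 := (finProdFinEquiv (m := 3) (n := 3)).symm
  refine lines_of_frame C h2 hcard (by omega) hcc (v := fun i => P'.val *ᵥ (Pi.single (σ i) (1 : F) ∘ e))
    (fun i j => ?_) hH fun g hgH i => ?_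
  · rw [coord_form C, hg, Matrix.smul_mulVec, Matrix.one_mulVec, dotProduct_smul, smul_eq_mul,
      single_dotProduct, one_mul, Pi.single_apply, mul_ite, mul_one, mul_zero]
    exact if_congr σ.injective.eq_iff rfl rfl
  · obtain ⟨a, b, hab⟩ := wreath_two (hleP hgH)
    have hcols : (a.val ⊗ₖ b.val)ᵀ * (a.val ⊗ₖ b.val) = 1 := by
      have hcancel : ∀ X : Matrix (Fin 3 × Fin 3) (Fin 3 × Fin 3) F, g.val = tm e P' X → Xᵀ * X = 1 := by
        intro X hX
        have h1 := gO_fix C (hH hgH) hX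
        rw [hg, Matrix.mul_smul, Matrix.mul_one, Matrix.smul_mul] at h1
        exact smul_right_injective _ hcc h1
      rcases hab with hab | hab
      · exact hcancel _ hab
      · have h1 := hcancel _ hab
        rw [Matrix.transpose_mul, swapMat_transpose] at h1
        have h3 := congrArg (fun z => swapMat 3 F * z * swapMat 3 F) h1
        simp only [Matrix.mul_assoc, swapMat_sq, Matrix.mul_one] at h3
        simp only [← Matrix.mul_assoc, swapMat_sq, Matrix.one_mul] at h3
        exact h3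
    rw [AschSp.kron_comp_left, ← Matrix.mul_kronecker_mul,
      ← Matrix.one_kronecker_one (α := F) (m := Fin 3) (n := Fin 3)] at hcols
    obtain ⟨ν, hν, hbb, haa⟩ := AschSp.kron_inj hcols one_ne_zero one_ne_zero
    have hν1 : ν = 1 := by
      have h3 := congrArg Matrix.det hbb
      rw [Matrix.det_mul, Matrix.det_transpose, Matrix.det_smul, Fintype.card_fin, Matrix.det_one, mul_one] at h3
      have hb : b.val.det * b.val.det = 1 :=
        sq_one_three hq (Matrix.GeneralLinearGroup.det_ne_zero b)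
      have hν2 : ν * ν = 1 := sq_one_three hq hν
      linear_combination hb - h3 - ν * hν2
    rw [hν1, one_smul] at hbb
    rw [hν1, inv_one, one_smul] at haa
    have hpure : ∀ p : Fin 3 × Fin 3, ∃ (p' : Fin 3 × Fin 3) (s : F),
        (a.val ⊗ₖ b.val) *ᵥ Pi.single p 1 = s • Pi.single p' 1 := by
      rintro ⟨j, k⟩
      obtain ⟨l, s, hl⟩ := column_single hq haa j
      obtain ⟨m, t, hm⟩ := column_single hq hbb k
      refine ⟨(l, m), s * t, ?_⟩
      rw [← single_mul_single, AschSp.kron_mulVec_pure, hl, hm, ← single_mul_single]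
      funext q
      simp only [Pi.smul_apply, smul_eq_mul]
      ring
    obtain ⟨X, hX, p', s, hs⟩ : ∃ X, g.val = tm e P' X ∧ ∃ (p' : Fin 3 × Fin 3) (s : F),
        X *ᵥ Pi.single (σ i) 1 = s • Pi.single p' 1 := by
      rcases hab with hab | hab
      · exact ⟨_, hab, hpure _⟩
      · refine ⟨_, hab, ?_⟩
        obtain ⟨p', s, hs⟩ := hpure (σ i).swap
        refine ⟨p', s, ?_⟩
        rw [← Matrix.mulVec_mulVec, ← hs]
        congr 1
        funext q
        simp only [Matrix.mulVec_single_one, swapMat, Matrix.col_apply, Matrix.submatrix_apply, Matrix.one_apply,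
          Pi.single_apply, id_eq]
        exact if_congr Prod.swap_eq_iff_eq_swap rfl rfl
    refine ⟨σ.symm p', Submodule.mem_span_singleton.2 ⟨s, ?_⟩⟩
    simp only [Equiv.apply_symm_apply]
    rw [hX, tm_act, hs, ← Matrix.mulVec_smul]
    rfl

end Cfsg.Lib.Linear.AschOrth
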