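import Cfsg.Agent.Lib.Linear.AschOrth.EvenImprim
import Cfsg.Agent.Lib.Linear.AschOrth.EvenQuad
import Cfsg.Agent.Lib.Linear.AschOrth.Product

/-!
# Tensor decompositions of even-dimensional orthogonal spaces
-/

set_option autoImplicit false
set_option linter.unusedSectionVars false
set_option linter.style.haveILetI false

namespace Cfsg.Lib.Linear.AschOrth

open Cfsg.Geo Cfsg.Lib.Linear Cfsg.Lib.Linear.Asch Cfsg.Lib.Linear.AschGen Module
open Cfsg.Lib.Linear.AschSp (kron_inj kron_factor skew_two kron_comp_left kron_mulVec_pure pure_dot formOfGram_mat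
  formOfGram_swap gram_formOfGram bilinear_formOfGram nondeg_formOfGram symm_formOfGram)
open scoped Matrix MatrixGroups Kronecker

variable {ι : Type} [Fintype ι] [DecidableEq ι] {F : Type*} [Field F]
  {Q : (ι → F) → F} {B : LinearMap.BilinForm F (ι → F)} {H : Subgroup (GL ι F)}

/-! ### Alternating matrices -/

/-- A skew matrix with zero diagonal. -/
structure AltMat {n : ℕ} (A : Matrix (Fin n) (Fin n) F) : Prop where
  skew : Aᵀ = -A
  diag : ∀ i, A i i = 0

/-- The part of a matrix above the diagonal. -/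
def upper {n : ℕ} (A : Matrix (Fin n) (Fin n) F) : Matrix (Fin n) (Fin n) F :=
  Matrix.of fun i j => if i < j then A i j else 0

theorem AltMat.split {n : ℕ} {A : Matrix (Fin n) (Fin n) F} (hA : AltMat A) : upper A - (upper A)ᵀ = A := by
  refine Matrix.ext fun i j => ?_
  simp only [upper, Matrix.sub_apply, Matrix.transpose_apply, Matrix.of_apply]
  rcases lt_trichotomy i j with h | h | h
  · simp [h, h.asymm]
  · subst h; simp [hA.diag i]
  · have h1 : A j i = - A i j := congrFun (congrFun hA.skew i) j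
    simp [h, h.asymm, h1]

theorem AltMat.dot {n : ℕ} {A : Matrix (Fin n) (Fin n) F} (hA : AltMat A) (v : Fin n → F) :
    v ⬝ᵥ A *ᵥ v = 0 := by
  rw [← hA.split, Matrix.sub_mulVec, dotProduct_sub, ← formOfGram_mat (upper A)ᵀ, formOfGram_swap,
    Matrix.transpose_transpose, formOfGram_mat, sub_self]

theorem AltMat.symp {n : ℕ} {A : Matrix (Fin n) (Fin n) F} (hA : AltMat A) (hu : IsUnit A.det) :
    IsSymplecticForm (formOfGram id A) :=
  ⟨bilinear_formOfGram A, fun u v => by
      rw [formOfGram_swap, hA.skew]; simp [formOfGram_mat, Matrix.neg_mulVec, dotProduct_neg],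
    fun v => by rw [formOfGram_mat]; exact hA.dot v, nondeg_formOfGram hu⟩

theorem AltMat.even {n : ℕ} {A : Matrix (Fin n) (Fin n) F} (hA : AltMat A) (hu : IsUnit A.det) : Even n := by
  by_contra hodd
  exact not_alt_odd (f := formOfGram id A) (by rw [Fintype.card_fin]; exact Nat.not_even_iff_odd.1 hodd)
    (hA.symp hu).bilinear (hA.symp hu).alternating (hA.symp hu).nondegenerate

/-! ### Coordinates -/

section Coord

variable {β : Type} [Fintype β] [DecidableEq β] {e : ι ≃ β} {P : GL ι F}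

theorem coord_expand (e : ι ≃ β) (P : GL ι F) (v : ι → F) :
    v = P.val *ᵥ ((((P⁻¹).val *ᵥ v) ∘ e.symm) ∘ e) := by
  rw [show (((P⁻¹).val *ᵥ v) ∘ e.symm) ∘ e = (P⁻¹).val *ᵥ v from funext fun i => by simp, mulVec_inv_mulVec]

theorem oadj_tm (C : Orth.Space Q B) {X X' : Matrix β β F} (h : Xᵀ * gO e P Q = gO e P Q * X') :
    oadj Q (tm e P X) = tm e P X' := by
  refine oadj_unique C fun u v => ?_
  rw [coord_expand e P u, coord_expand e P v, tm_act, tm_act, coord_form C, coord_form C,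
    ← Matrix.vecMul_transpose, ← Matrix.dotProduct_mulVec, Matrix.mulVec_mulVec, h, Matrix.mulVec_mulVec]

theorem tm_smul' (c : F) (X : Matrix β β F) : tm e P (c • X) = c • tm e P X := by
  rw [tm, tm, ← map_smul]; rfl

theorem tm_neg' (X : Matrix β β F) : tm e P (-X) = -tm e P X := by
  rw [← neg_one_smul F X, tm_smul', neg_one_smul]

/-- In even characteristic the quadratic form vanishes on a spanning invariant set on which an upper
half of the coordinate Gram matrix vanishes. -/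
theorem coord_singular [Finite F] (C : Orth.Space Q B) (h2 : (2 : F) = 0) (hn : 2 ≤ Fintype.card ι)
    (hH : H ≤ isometryGroup F Q) (hirr : ActsIrreducibly (matrixSet H)) {U : Matrix β β F}
    (hU : U + Uᵀ = gO e P Q) (S : Set (β → F)) (hS0 : ∀ b, Pi.single b 1 ∈ S)
    (hSU : ∀ x ∈ S, x ⬝ᵥ U *ᵥ x = 0)
    (hSinv : ∀ g ∈ H, ∀ x ∈ S, ∃ y ∈ S, g.val *ᵥ (P.val *ᵥ (x ∘ e)) = P.val *ᵥ (y ∘ e)) :
    ∀ x ∈ S, Q (P.val *ᵥ (x ∘ e)) = 0 := by
  classical
  let co : (ι → F) → (β → F) := fun v => ((P⁻¹).val *ᵥ v) ∘ e.symm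
  have hco : ∀ x : β → F, co (P.val *ᵥ (x ∘ e)) = x := fun x => by
    funext b
    simp [co, inv_mulVec_mulVec]
  have hco_add : ∀ u v, co (u + v) = co u + co v := fun u v => by
    funext b
    simp [co, Matrix.mulVec_add]
  have hco_smul : ∀ (c : F) v, co (c • v) = c • co v := fun c v => by
    funext b
    simp [co, Matrix.mulVec_smul]
  let Qs : (ι → F) → F := fun v => co v ⬝ᵥ U *ᵥ co v
  have hB : ∀ u v, B u v = co u ⬝ᵥ U *ᵥ co v + co v ⬝ᵥ U *ᵥ co u := fun u v => by
    conv_lhs => rw [coord_expand e P u, coord_expand e P v, coord_form C, ← hU, Matrix.add_mulVec, dotProduct_add,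
      ← formOfGram_mat Uᵀ, formOfGram_swap, Matrix.transpose_transpose, formOfGram_mat]
  have hQs_add : ∀ u v, Qs (u + v) = Qs u + Qs v + B u v := fun u v => by
    simp only [Qs, hco_add, hB, Matrix.mulVec_add, dotProduct_add, add_dotProduct]
    ring
  have hQs_smul : ∀ (c : F) v, Qs (c • v) = c ^ 2 * Qs v := fun c v => by
    simp only [Qs, hco_smul, Matrix.mulVec_smul, dotProduct_smul, smul_dotProduct, smul_eq_mul]
    ring
  have hfix : ∀ g ∈ H, ∀ v, Qs (g.val *ᵥ v) = Qs v := by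
    intro g hg v
    let μ : (ι → F) →+ F := AddMonoidHom.mk' (fun w => Qs (g.val *ᵥ w) - Qs w) (fun u w => by
      show Qs (g.val *ᵥ (u + w)) - Qs (u + w) = _
      rw [Matrix.mulVec_add, hQs_add, hQs_add, C.B_act (hH hg)]
      ring)
    have hμ : ∀ (c : F) w, μ (c • w) = c ^ 2 * μ w := fun c w => by
      show Qs (g.val *ᵥ (c • w)) - Qs (c • w) = c ^ 2 * (Qs (g.val *ᵥ w) - Qs w)
      rw [Matrix.mulVec_smul, hQs_smul, hQs_smul]
      ring
    have hv : v = ∑ b, co v b • (P.val *ᵥ ((Pi.single b (1 : F)) ∘ e)) := by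
      have h1 : co v ∘ e = ∑ b, co v b • ((Pi.single b (1 : F)) ∘ e) := by
        funext i
        simp [Finset.sum_apply, Pi.single_apply]
      conv_lhs => rw [coord_expand e P v, show (((P⁻¹).val *ᵥ v) ∘ e.symm) ∘ e = co v ∘ e from rfl, h1,
        Matrix.mulVec_sum]
      simp [Matrix.mulVec_smul]
    refine sub_eq_zero.1 ?_
    show μ v = 0
    rw [hv, map_sum]
    refine Finset.sum_eq_zero fun b _ => ?_
    rw [hμ]
    obtain ⟨y, hy, hgy⟩ := hSinv g hg _ (hS0 b)
    show _ * (Qs (g.val *ᵥ _) - Qs _) = 0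
    simp only [hgy, Qs, hco, hSU _ hy, hSU _ (hS0 b), sub_zero, mul_zero]
  have hzero := semilinear_zero h2 hirr hn (M := fun v => Q v - Qs v)
    (fun u v => by simp only [C.add, hQs_add]; ring) (fun c v => by simp only [C.smul, hQs_smul]; ring)
    (fun g hg v hv => by simp only [Orth.mem_iso.1 (hH hg), hfix g hg]; exact hv)
  intro x hx
  rw [sub_eq_zero.1 (hzero _)]
  simp only [Qs, hco, hSU x hx]

end Coord

/-! ### The factors of the Gram matrix -/

section Two

variable {d k : ℕ} {e : ι ≃ Fin d × Fin k} {P : GL ι F}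

/-- A tensor decomposition of the polar form held by `H`. -/
structure TData (Q : (ι → F) → F) (H : Subgroup (GL ι F)) (e : ι ≃ Fin d × Fin k) (P : GL ι F)
    (A : Matrix (Fin d) (Fin d) F) (A' : Matrix (Fin k) (Fin k) F) : Prop where
  unitA : IsUnit A.det
  unitA' : IsUnit A'.det
  gram : gO e P Q = A ⊗ₖ A'
  hold : ∀ g ∈ H, ∃ (a : GL (Fin d) F) (b : GL (Fin k) F) (ν : F), g.val = tm e P (a.val ⊗ₖ b.val) ∧ ν ≠ 0 ∧
    b.valᵀ * A' * b.val = ν • A' ∧ a.valᵀ * A * a.val = ν⁻¹ • A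

variable {A : Matrix (Fin d) (Fin d) F} {A' : Matrix (Fin k) (Fin k) F}

theorem TData.le (T : TData Q H e P A A') : H ≤ tensorProductSubgroup d k e P := fun g hg => by
  obtain ⟨a, b, -, hab, -⟩ := T.hold g hg
  exact mem_tensorProductSubgroup_iff.2 ⟨a, b, hab⟩

theorem TData.form (C : Orth.Space Q B) (T : TData Q H e P A A') :
    IsTensorFormStructure id (QuadraticMap.polar Q) (formOfGram id A) (formOfGram id A') e P :=
  ⟨1, one_ne_zero, fun x y => by
    rw [gram_formOfGram, gram_formOfGram, one_mul, C.polar, coord_form C, T.gram, formOfGram_mat]⟩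

theorem TData.pure_B (C : Orth.Space Q B) (T : TData Q H e P A A') (u u' : Fin d → F) (w w' : Fin k → F) :
    B (P.val *ᵥ ((fun bc : Fin d × Fin k => u bc.1 * w bc.2) ∘ e))
      (P.val *ᵥ ((fun bc : Fin d × Fin k => u' bc.1 * w' bc.2) ∘ e)) = (u ⬝ᵥ A *ᵥ u') * (w ⬝ᵥ A' *ᵥ w') := by
  rw [coord_form C, T.gram, kron_mulVec_pure, pure_dot]

theorem TData.swap (T : TData Q H e P A A') :
    TData Q H (e.trans (Equiv.prodComm (Fin d) (Fin k))) P A' A := by
  refine ⟨T.unitA', T.unitA, Matrix.ext fun i j => ?_, fun g hg => ?_⟩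
  · have h := congrFun (congrFun T.gram i.swap) j.swap
    rw [Matrix.kroneckerMap_apply, Prod.fst_swap, Prod.snd_swap, Prod.fst_swap, Prod.snd_swap] at h
    rw [Matrix.kroneckerMap_apply, mul_comm, ← h]
    rfl
  · obtain ⟨a, b, ν, hab, hν, hb, ha⟩ := T.hold g hg
    refine ⟨b, a, ν⁻¹, ?_, inv_ne_zero hν, ha, by rw [inv_inv]; exact hb⟩
    rw [hab, tm, tm]
    congr 1
    exact Matrix.ext fun i j => mul_comm _ _

/-- The Gram matrix factors into two symmetric or two alternating matrices. -/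
theorem tensor_start [Fintype F] (C : Orth.Space Q B) (hH : H ≤ isometryGroup F Q)
    (hirr : ActsIrreducibly (matrixSet H)) {N : Subgroup (GL ι F)} (hN : NormalSub H N) (hd : 2 ≤ d) (hk : 2 ≤ k)
    (hmem : ∀ X, X ∈ adj N ↔ ∃ a, X = tensMat e P a 1) (hle : H ≤ tensorProductSubgroup d k e P) :
    ∃ (A : Matrix (Fin d) (Fin d) F) (A' : Matrix (Fin k) (Fin k) F), TData Q H e P A A' ∧
      ((AltMat A ∧ AltMat A') ∨ ((2 : F) ≠ 0 ∧ Aᵀ = A ∧ A'ᵀ = A')) := by
  classical
  obtain ⟨A, A', hG⟩ := kron_factor (d := d) (k := k) (by omega) (gO_isUnit (e := e) (P := P) C) (fun a => by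
    obtain ⟨a', ha⟩ := (hmem _).1 (oadj_mem_adj C (hN.le.trans hH) ((hmem _).2 ⟨a, rfl⟩))
    exact ⟨a', tm_oadj C ha⟩)
  have hu := gO_isUnit (e := e) (P := P) C
  rw [hG, Matrix.det_kronecker, IsUnit.mul_iff, Fintype.card_fin, Fintype.card_fin] at hu
  have hAu : IsUnit A.det := (isUnit_pow_iff (by omega)).1 hu.1
  have hA'u : IsUnit A'.det := (isUnit_pow_iff (by omega)).1 hu.2
  have hA0 : A ≠ 0 := fun h => hAu.ne_zero (by
    rw [h]; exact Matrix.det_eq_zero_of_row_eq_zero ⟨0, by omega⟩ fun _ => rfl)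
  have hA'0 : A' ≠ 0 := fun h => hA'u.ne_zero (by
    rw [h]; exact Matrix.det_eq_zero_of_row_eq_zero ⟨0, by omega⟩ fun _ => rfl)
  have T : TData Q H e P A A' := ⟨hAu, hA'u, hG, fun g hg => by
    obtain ⟨a, b, hab⟩ := mem_tensorProductSubgroup_iff.1 (hle hg)
    have h1 := gO_fix (e := e) C (hH hg) hab
    rw [hG, kron_comp_left, ← Matrix.mul_kronecker_mul, ← Matrix.mul_kronecker_mul] at h1
    obtain ⟨ν, hν, hb, ha⟩ := kron_inj h1 hA0 hA'0
    exact ⟨a, b, ν, hab, hν, hb, ha⟩⟩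
  refine ⟨A, A', T, ?_⟩
  have htr : Aᵀ ⊗ₖ A'ᵀ = A ⊗ₖ A' := by rw [← kron_comp_left, ← hG, gO_transpose]
  obtain ⟨μ, hμ, hA't, hAt⟩ := kron_inj htr hA0 hA'0
  have hμμ : μ⁻¹ * μ⁻¹ = 1 := by
    have h1 := congrArg Matrix.transpose hAt
    rw [Matrix.transpose_transpose, Matrix.transpose_smul, hAt, smul_smul] at h1
    obtain ⟨i, j, hij⟩ : ∃ i j, A i j ≠ 0 := by
      by_contra hne; push Not at hne; exact hA0 (Matrix.ext hne)
    have h3 := congrFun (congrFun h1 i) j
    rw [Matrix.smul_apply, smul_eq_mul] at h3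
    exact (mul_eq_right₀ hij).1 h3.symm
  have hμ1 : μ = 1 ∨ μ = -1 := by
    rcases mul_self_eq_one_iff.1 hμμ with h | h
    · exact Or.inl (inv_eq_one.1 h)
    · exact Or.inr (by rw [← inv_inv μ, h, inv_neg, inv_one])
  by_cases h2 : (2 : F) = 0
  swap
  · rcases hμ1 with rfl | rfl
    · rw [inv_one, one_smul] at hAt
      rw [one_smul] at hA't
      exact Or.inr ⟨h2, hAt, hA't⟩
    · rw [inv_neg, inv_one, neg_one_smul] at hAt
      rw [neg_one_smul] at hA't
      have hdiag : ∀ {n : ℕ} (M : Matrix (Fin n) (Fin n) F), Mᵀ = -M → ∀ i, M i i = 0 := fun M hM i =>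
        (mul_eq_zero.1 (show (2 : F) * M i i = 0 by
          have := congrFun (congrFun hM i) i
          simp only [Matrix.transpose_apply, Matrix.neg_apply] at this
          linear_combination this)).resolve_left h2
      exact Or.inl ⟨⟨hAt, hdiag A hAt⟩, ⟨hA't, hdiag A' hA't⟩⟩
  left
  have h1 : μ = 1 := hμ1.elim id fun h => by rw [h]; linear_combination -h2
  subst h1
  rw [inv_one, one_smul] at hAt
  rw [one_smul] at hA't
  have hneg : ∀ {n : ℕ} (M : Matrix (Fin n) (Fin n) F), -M = M := fun M => by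
    rw [← neg_one_smul F M, show (-1 : F) = 1 by linear_combination -h2, one_smul]
  haveI : CharP F 2 := CharTwo.of_one_ne_zero_of_two_eq_zero one_ne_zero h2
  have key : ∀ {n : ℕ}, 2 ≤ n → ∀ (M : Matrix (Fin n) (Fin n) F), Mᵀ = M →
      ∀ i, M i i ≠ 0 → ∃ W : Submodule F (Fin n → F), W ≠ ⊥ ∧ W ≠ ⊤ ∧
        ∀ x : GL (Fin n) F, ∀ ν : F, x.valᵀ * M * x.val = ν • M → ∀ w ∈ W, x.val *ᵥ w ∈ W := by
    intro n hn M hM i hi
    have hadd : ∀ u v, (u + v) ⬝ᵥ M *ᵥ (u + v) = u ⬝ᵥ M *ᵥ u + v ⬝ᵥ M *ᵥ v := fun u v => by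
      simp only [Matrix.mulVec_add, dotProduct_add, add_dotProduct]
      rw [show u ⬝ᵥ M *ᵥ v = v ⬝ᵥ M *ᵥ u by rw [← formOfGram_mat, formOfGram_swap, hM, formOfGram_mat]]
      linear_combination (v ⬝ᵥ M *ᵥ u) * h2
    let W : Submodule F (Fin n → F) :=
      { carrier := {v | v ⬝ᵥ M *ᵥ v = 0}
        add_mem' := fun {a b} ha hb => by
          show (a + b) ⬝ᵥ M *ᵥ (a + b) = 0
          rw [hadd, ha, hb, add_zero]
        zero_mem' := by simp
        smul_mem' := fun c v hv => by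
          show (c • v) ⬝ᵥ M *ᵥ (c • v) = 0
          rw [Matrix.mulVec_smul, dotProduct_smul, smul_dotProduct, hv, smul_zero, smul_zero] }
    have hdi : Pi.single i (1 : F) ⬝ᵥ M *ᵥ Pi.single i 1 = M i i := by simp [Matrix.mulVec_single_one]
    refine ⟨W, fun hbot => ?_, fun htop => hi ?_, fun x ν hx w hw => ?_⟩
    · obtain ⟨j, hj⟩ : ∃ j, j ≠ i := by
        haveI : Nontrivial (Fin n) := Fin.nontrivial_iff_two_le.2 hn
        exact exists_ne i
      obtain ⟨c, hc⟩ := Finite.surjective_of_injective (frobenius_inj F 2) (M j j / M i i)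
      rw [frobenius_def] at hc
      have hmem : Pi.single j (1 : F) + c • Pi.single i 1 ∈ W := by
        show _ = 0
        rw [hadd, Matrix.mulVec_smul, dotProduct_smul, smul_dotProduct, hdi, smul_eq_mul, smul_eq_mul, ← mul_assoc,
          ← sq, hc, div_mul_cancel₀ _ hi]
        simp [Matrix.mulVec_single_one]
        linear_combination (M j j) * h2
      rw [hbot, Submodule.mem_bot] at hmem
      have := congrFun hmem j
      simp [hj] at this
    · rw [← hdi]
      exact (htop ▸ Submodule.mem_top : Pi.single i (1 : F) ∈ W)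
    · show (x.val *ᵥ w) ⬝ᵥ M *ᵥ (x.val *ᵥ w) = 0
      rw [show (x.val *ᵥ w) ⬝ᵥ M *ᵥ (x.val *ᵥ w) = w ⬝ᵥ (x.valᵀ * M * x.val) *ᵥ w by
          rw [← Matrix.mulVec_mulVec, ← Matrix.mulVec_mulVec, Matrix.dotProduct_mulVec w, Matrix.vecMul_transpose],
        hx, Matrix.smul_mulVec, dotProduct_smul, show w ⬝ᵥ M *ᵥ w = 0 from hw, smul_zero]
  have hspace : ∀ (p : (Fin d × Fin k → F) → Prop), p 0 → (∀ x y, p x → p y → p (x + y)) →
      (∀ (c : F) x, p x → p (c • x)) → (∃ x, x ≠ 0 ∧ p x) → (∃ x, ¬ p x) →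
      (∀ g ∈ H, ∀ x, p x → ∃ y, p y ∧ g.val *ᵥ (P.val *ᵥ (x ∘ e)) = P.val *ᵥ (y ∘ e)) → False := by
    intro p p0 padd psmul ⟨x, hx0, hx⟩ ⟨z, hz⟩ pinv
    let U : Submodule F (ι → F) :=
      { carrier := {v | p (((P⁻¹).val *ᵥ v) ∘ e.symm)}
        add_mem' := fun {a b} ha hb => by
          show p _
          rw [Matrix.mulVec_add]
          exact padd _ _ ha hb
        zero_mem' := by
          show p _
          rw [Matrix.mulVec_zero]
          exact p0
        smul_mem' := fun c v hv => by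
          show p _
          rw [Matrix.mulVec_smul]
          exact psmul c _ hv }
    have hmem' : ∀ y, P.val *ᵥ (y ∘ e) ∈ U ↔ p y := fun y => by
      show p _ ↔ _
      rw [inv_mulVec_mulVec, show (y ∘ e) ∘ e.symm = y from funext fun i => by simp]
    rcases irr_iff.1 hirr U (fun g hg v hv => by
      obtain ⟨y, hy, he⟩ := pinv g hg _ hv
      rw [← coord_expand e P v] at he
      rw [he, hmem']
      exact hy) with h | h
    · have h1 := (hmem' x).2 hx
      rw [h, Submodule.mem_bot] at h1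
      refine hx0 (funext fun i => ?_)
      have h3 := congrArg ((P⁻¹).val *ᵥ ·) h1
      simp only [inv_mulVec_mulVec, Matrix.mulVec_zero] at h3
      simpa using congrFun h3 (e.symm i)
    · exact hz ((hmem' z).1 (h ▸ Submodule.mem_top))
  refine ⟨⟨by rw [hAt, hneg], fun i => ?_⟩, ⟨by rw [hA't, hneg], fun i => ?_⟩⟩
  · by_contra hi
    obtain ⟨W, hW0, hW1, hWinv⟩ := key hd A hAt i hi
    obtain ⟨w, hw, hw0⟩ := Submodule.exists_mem_ne_zero_of_ne_bot hW0
    obtain ⟨z, -, hz⟩ := SetLike.exists_of_lt (lt_top_iff_ne_top.2 hW1)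
    refine hspace (fun x => ∀ c, (fun b => x (b, c)) ∈ W) (fun c => W.zero_mem)
      (fun x y hx hy c => W.add_mem (hx c) (hy c)) (fun s x hx c => W.smul_mem s (hx c))
      ⟨fun bc => w bc.1, fun h => hw0 (funext fun b => congrFun h (b, ⟨0, by omega⟩)), fun c => hw⟩
      ⟨fun bc => z bc.1, fun h => hz (h ⟨0, by omega⟩)⟩ ?_
    intro g hg x hx
    obtain ⟨a, b, ν, hab, -, -, ha⟩ := T.hold g hg
    refine ⟨(a.val ⊗ₖ b.val) *ᵥ x, fun c => ?_, by rw [hab, tm_act]⟩
    have h1 : (fun i => ((a.val ⊗ₖ b.val) *ᵥ x) (i, c)) = ∑ c', b.val c c' • (a.val *ᵥ fun i => x (i, c')) := by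
      funext i
      simp only [Matrix.mulVec, dotProduct, Fintype.sum_prod_type, Matrix.kroneckerMap_apply, Finset.sum_apply,
        Pi.smul_apply, smul_eq_mul, Finset.mul_sum]
      rw [Finset.sum_comm]
      exact Finset.sum_congr rfl fun _ _ => Finset.sum_congr rfl fun _ _ => by ring
    rw [h1]
    exact W.sum_mem fun c' _ => W.smul_mem _ (hWinv a _ ha _ (hx c'))
  · by_contra hi
    obtain ⟨W, hW0, hW1, hWinv⟩ := key hk A' hA't i hi
    obtain ⟨w, hw, hw0⟩ := Submodule.exists_mem_ne_zero_of_ne_bot hW0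
    obtain ⟨z, -, hz⟩ := SetLike.exists_of_lt (lt_top_iff_ne_top.2 hW1)
    refine hspace (fun x => ∀ b, (fun c => x (b, c)) ∈ W) (fun c => W.zero_mem)
      (fun x y hx hy c => W.add_mem (hx c) (hy c)) (fun s x hx c => W.smul_mem s (hx c))
      ⟨fun bc => w bc.2, fun h => hw0 (funext fun c => congrFun h (⟨0, by omega⟩, c)), fun c => hw⟩
      ⟨fun bc => z bc.2, fun h => hz (h ⟨0, by omega⟩)⟩ ?_
    intro g hg x hx
    obtain ⟨a, b, ν, hab, -, hb, -⟩ := T.hold g hg
    refine ⟨(a.val ⊗ₖ b.val) *ᵥ x, fun i => ?_, by rw [hab, tm_act]⟩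
    have h1 : (fun c => ((a.val ⊗ₖ b.val) *ᵥ x) (i, c)) = ∑ i', a.val i i' • (b.val *ᵥ fun c => x (i', c)) := by
      funext c
      simp only [Matrix.mulVec, dotProduct, Fintype.sum_prod_type, Matrix.kroneckerMap_apply, Finset.sum_apply,
        Pi.smul_apply, smul_eq_mul, Finset.mul_sum]
      exact Finset.sum_congr rfl fun _ _ => Finset.sum_congr rfl fun _ _ => by ring
    rw [h1]
    exact W.sum_mem fun i' _ => W.smul_mem _ (hWinv b _ hb _ (hx i'))

/-- With alternating factors the quadratic form vanishes on pure tensors. -/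
theorem pure_singular [Finite F] (C : Orth.Space Q B) (hn : 2 ≤ Fintype.card ι) (hH : H ≤ isometryGroup F Q)
    (hirr : ActsIrreducibly (matrixSet H)) (T : TData Q H e P A A') (hA : AltMat A) (hA' : AltMat A')
    (u : Fin d → F) (w : Fin k → F) :
    Q (P.val *ᵥ ((fun bc : Fin d × Fin k => u bc.1 * w bc.2) ∘ e)) = 0 := by
  by_cases h2 : (2 : F) = 0
  swap
  · have h1 := T.pure_B C u u w w
    rw [C.self, hA.dot, zero_mul] at h1
    exact (mul_eq_zero.1 h1).resolve_left h2
  have hneg : ∀ {n : ℕ} (M : Matrix (Fin n) (Fin n) F), -M = M := fun M => by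
    rw [← neg_one_smul F M, show (-1 : F) = 1 by linear_combination -h2, one_smul]
  refine coord_singular C h2 hn hH hirr (U := upper A ⊗ₖ A') ?_
    (Set.range fun uw : (Fin d → F) × (Fin k → F) => fun bc => uw.1 bc.1 * uw.2 bc.2) ?_ ?_ ?_ _ ⟨(u, w), rfl⟩
  · rw [kron_comp_left, show A'ᵀ = A' by rw [hA'.skew, hneg], ← Matrix.add_kronecker, T.gram]
    congr 1
    conv_rhs => rw [← hA.split, sub_eq_add_neg, hneg]
  · rintro ⟨b, c⟩
    exact ⟨(Pi.single b 1, Pi.single c 1), funext fun ⟨b', c'⟩ => by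
      by_cases h : b' = b <;> simp [Pi.single_apply, Prod.ext_iff, h]⟩
  · rintro _ ⟨⟨u, w⟩, rfl⟩
    rw [kron_mulVec_pure, pure_dot, hA'.dot, mul_zero]
  · rintro g hg _ ⟨⟨u, w⟩, rfl⟩
    obtain ⟨a, b, ν, hab, -⟩ := T.hold g hg
    refine ⟨_, ⟨(a.val *ᵥ u, b.val *ᵥ w), rfl⟩, ?_⟩
    rw [hab, tm_act, kron_mulVec_pure]

end Two

/-! ### A factor of dimension two -/

section DimTwo

variable {k : ℕ} {e : ι ≃ Fin 2 × Fin k} {P : GL ι F}
  {A : Matrix (Fin 2) (Fin 2) F} {A' : Matrix (Fin k) (Fin k) F}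

/-- With two alternating factors, one of dimension two, the space is of plus type. -/
theorem two_plus [Finite F] (C : Orth.Space Q B) (hn : 2 ≤ Fintype.card ι) (hH : H ≤ isometryGroup F Q)
    (hirr : ActsIrreducibly (matrixSet H)) (T : TData Q H e P A A') (hA : AltMat A) (hA' : AltMat A') :
    IsPlusTypeOn Q (⊤ : Submodule F (ι → F)) := by
  let L : (Fin k → F) →ₗ[F] (ι → F) :=
    { toFun := fun w => P.val *ᵥ ((fun bc : Fin 2 × Fin k => (Pi.single 0 1 : Fin 2 → F) bc.1 * w bc.2) ∘ e)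
      map_add' := fun w w' => by
        rw [← Matrix.mulVec_add]; congr 1; funext i; simp [mul_add]
      map_smul' := fun c w => by
        rw [RingHom.id_apply, ← Matrix.mulVec_smul]; congr 1; funext i; simp; ring }
  have hL : Function.Injective L := by
    rw [injective_iff_map_eq_zero]
    intro w hw
    have h3 := congrArg ((P⁻¹).val *ᵥ ·) hw
    simp only [L, LinearMap.coe_mk, AddHom.coe_mk, inv_mulVec_mulVec, Matrix.mulVec_zero] at h3
    funext c
    simpa using congrFun h3 (e.symm (0, c))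
  refine ⟨LinearMap.range L, le_top, ?_, ?_⟩
  · rintro _ ⟨w, rfl⟩
    exact pure_singular C hn hH hirr T hA hA' _ w
  · rw [LinearMap.finrank_range_of_inj hL, finrank_top, finrank_fintype_fun_eq_card, finrank_fintype_fun_eq_card,
      Fintype.card_congr e, Fintype.card_prod, Fintype.card_fin, Fintype.card_fin]

/-- A quadratic element normalised up to affine substitutions spans a field subalgebra. -/
theorem quad_algebra [Nonempty ι] {W : Matrix ι ι F} {c1 c0 : F} (hW : W * W = c1 • W + c0 • 1)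
    (haniso : ∀ a b : F, a * a + a * b * c1 - b * b * c0 = 0 → a = 0 ∧ b = 0)
    (hconj : ∀ g ∈ H, ∃ x y : F, g.val * W * (g⁻¹).val = x • 1 + y • W) :
    ∃ K : Subalgebra F (Matrix ι ι F), IsFieldSubalgebra 2 K ∧ H ≤ subalgebraNormalizer K ∧
      ∀ X, X ∈ K ↔ ∃ a b : F, X = a • 1 + b • W := by
  let K : Subalgebra F (Matrix ι ι F) :=
    { carrier := {X | ∃ a b : F, X = a • 1 + b • W}
      mul_mem' := by
        rintro _ _ ⟨a, b, rfl⟩ ⟨a', b', rfl⟩
        refine ⟨a * a' + b * b' * c0, a * b' + b * a' + b * b' * c1, ?_⟩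
        simp only [Matrix.add_mul, Matrix.mul_add, Matrix.smul_mul, Matrix.mul_smul, Matrix.one_mul, Matrix.mul_one,
          hW]
        module
      add_mem' := by
        rintro _ _ ⟨a, b, rfl⟩ ⟨a', b', rfl⟩
        exact ⟨a + a', b + b', by module⟩
      algebraMap_mem' := fun a => ⟨a, 0, by simp [Algebra.algebraMap_eq_smul_one]⟩ }
  have hns : ∀ c : F, W ≠ c • 1 := by
    intro c hc
    have h1 := hW
    rw [hc, smul_mul_smul_comm, one_mul, smul_smul, ← add_smul] at h1
    have h2 := smul_left_injective F (one_ne_zero (α := Matrix ι ι F)) h1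
    exact one_ne_zero ((haniso (-c) 1 (by linear_combination h2)).2)
  refine ⟨K, ⟨?_, ?_, ?_⟩, fun g hg => ?_, fun X => Iff.rfl⟩
  · rintro _ ⟨a, b, rfl⟩ _ ⟨a', b', rfl⟩
    simp only [Matrix.add_mul, Matrix.mul_add, Matrix.smul_mul, Matrix.mul_smul, Matrix.one_mul, Matrix.mul_one]
    module
  · rintro _ ⟨a, b, rfl⟩ hne
    have hd : a * a + a * b * c1 - b * b * c0 ≠ 0 := fun h => by
      obtain ⟨rfl, rfl⟩ := haniso a b h
      exact hne (by simp)
    refine ⟨((a + b * c1) / (a * a + a * b * c1 - b * b * c0)) • 1 +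
      (-b / (a * a + a * b * c1 - b * b * c0)) • W, ⟨_, _, rfl⟩, ?_⟩
    simp only [Matrix.add_mul, Matrix.mul_add, Matrix.smul_mul, Matrix.mul_smul, Matrix.one_mul, Matrix.mul_one, hW]
    match_scalars <;> first | ring1 | linear_combination mul_inv_cancel₀ hd
  · have hb : LinearIndependent F ![(1 : Matrix ι ι F), W] :=
      (LinearIndependent.pair_iff' one_ne_zero).2 fun a h => hns a h.symm
    have hspan : K.toSubmodule = Submodule.span F (Set.range ![(1 : Matrix ι ι F), W]) := by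
      ext X
      rw [Matrix.range_cons_cons_empty, Submodule.mem_span_pair]
      exact ⟨fun ⟨a, b, h⟩ => ⟨a, b, h.symm⟩, fun ⟨a, b, h⟩ => ⟨a, b, h.symm⟩⟩
    show Module.finrank F K.toSubmodule = 2
    rw [hspan, finrank_span_eq_card hb, Fintype.card_fin]
  · have hone : ∀ g ∈ H, ∀ X ∈ K, g.val * X * (g⁻¹).val ∈ K := by
      rintro g hg _ ⟨a, b, rfl⟩
      obtain ⟨x, y, hxy⟩ := hconj g hg
      refine ⟨a + b * x, b * y, ?_⟩
      rw [Matrix.mul_add, Matrix.add_mul, Matrix.mul_smul, Matrix.smul_mul, Matrix.mul_one, ← Units.val_mul,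
        mul_inv_cancel, Units.val_one, Matrix.mul_smul, Matrix.smul_mul, hxy]
      module
    intro X
    refine ⟨hone g hg X, fun hX => ?_⟩
    have h1 := hone g⁻¹ (inv_mem hg) _ hX
    rwa [inv_inv, ← Matrix.mul_assoc, ← Matrix.mul_assoc, ← Units.val_mul, inv_mul_cancel, Units.val_one,
      Matrix.one_mul, Matrix.mul_assoc, ← Units.val_mul, inv_mul_cancel, Units.val_one, Matrix.mul_one] at h1

/-- A symmetric factor of dimension two gives a pair of singular halves or a quadratic field. -/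
theorem sym_two [Fintype F] (C : Orth.Space Q B) (h2 : (2 : F) ≠ 0) (hk : 0 < k) (hH : H ≤ isometryGroup F Q)
    (T : TData Q H e P A A') (hA : Aᵀ = A) :
    (∃ D : Fin 2 → Submodule F (ι → F), IsMDecomposition k D ∧ (∀ i, IsTotallySingularQuad Q (D i)) ∧
      H ≤ decompositionStabilizer D) ∨
    (∃ K : Subalgebra F (Matrix ι ι F), IsFieldSubalgebra 2 K ∧ H ≤ subalgebraNormalizer K ∧
      ∀ x ∈ K, oadj Q x ∈ K) := by
  classical
  have hcard : Fintype.card ι = 2 * k := by
    rw [Fintype.card_congr e, Fintype.card_prod, Fintype.card_fin, Fintype.card_fin]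
  haveI : Nonempty ι := Fintype.card_pos_iff.1 (by omega)
  let S : Matrix (Fin 2) (Fin 2) F := !![0, 1; -1, 0]
  have hSS : S * S = (-1 : F) • 1 := by
    refine Matrix.ext fun i j => ?_
    fin_cases i <;> fin_cases j <;> simp [S, Matrix.mul_apply, Fin.sum_univ_two]
  have hST : Sᵀ = -S := by
    refine Matrix.ext fun i j => ?_
    fin_cases i <;> fin_cases j <;> simp [S]
  have hAu := T.unitA
  let Tm : Matrix (Fin 2) (Fin 2) F := A⁻¹ * S
  have hAT : A * Tm = S := by
    simp only [Tm, ← Matrix.mul_assoc, Matrix.mul_nonsing_inv _ hAu, Matrix.one_mul]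
  have hAS : S * A⁻¹ = (A⁻¹).det • (A * S) := by
    have hAi : (A⁻¹)ᵀ = A⁻¹ := by rw [Matrix.transpose_nonsing_inv, hA]
    have h1 := skew_two A⁻¹
    rw [hAi] at h1
    have h3 := congrArg (fun z => A * z) h1
    simp only [← Matrix.mul_assoc, Matrix.mul_nonsing_inv _ hAu, Matrix.one_mul, Matrix.mul_smul] at h3
    exact h3
  set c := -(A⁻¹).det with hc
  have hc0 : c ≠ 0 := neg_ne_zero.2 (Matrix.isUnit_nonsing_inv_det _ hAu).ne_zero
  have hTT : Tm * Tm = c • 1 := by
    calc Tm * Tm = A⁻¹ * (S * A⁻¹) * S := by simp only [Tm, Matrix.mul_assoc]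
      _ = c • 1 := by
        rw [hAS, Matrix.mul_smul, Matrix.smul_mul, ← Matrix.mul_assoc, Matrix.nonsing_inv_mul _ hAu, Matrix.one_mul,
          hSS, smul_smul, mul_neg, mul_one]
  have hTadj : Tmᵀ * A = -S := by
    have : Tmᵀ * A = (Aᵀ * Tm)ᵀ := by simp only [Matrix.transpose_mul Aᵀ Tm, Matrix.transpose_transpose]
    rw [this, hA, hAT, hST]
  set W := tm e P (Tm ⊗ₖ (1 : Matrix (Fin k) (Fin k) F)) with hWdef
  have hWadj : oadj Q W = -W := by
    rw [hWdef, ← tm_neg']
    refine oadj_tm C ?_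
    rw [T.gram, kron_comp_left, Matrix.mul_neg, ← Matrix.mul_kronecker_mul, ← Matrix.mul_kronecker_mul,
      Matrix.transpose_one, Matrix.one_mul, Matrix.mul_one, hAT, hTadj]
    exact Matrix.ext fun i j => by simp
  have hWW : W * W = c • 1 := by
    rw [hWdef, ← tm_mul, ← Matrix.mul_kronecker_mul, Matrix.one_mul, hTT, Matrix.smul_kronecker,
      Matrix.one_kronecker_one, tm_smul', tm_one]
  have hconj : ∀ g ∈ H, ∃ κ : F, g.val * W * (g⁻¹).val = κ • W := by
    intro g hg
    obtain ⟨a, b, ν, hab, hν, -, ha⟩ := T.hold g⁻¹ (inv_mem hg)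
    set μ := ν⁻¹ with hμdef
    have hμ : μ ≠ 0 := inv_ne_zero hν
    have ha1 : (a⁻¹).val * A⁻¹ = μ⁻¹ • (A⁻¹ * a.valᵀ) := by
      have h3 : μ⁻¹ • (A⁻¹ * a.valᵀ) * (A * a.val) = 1 := by
        rw [Matrix.smul_mul, Matrix.mul_assoc, ← Matrix.mul_assoc a.valᵀ, ha, Matrix.mul_smul, smul_smul,
          inv_mul_cancel₀ hμ, one_smul, Matrix.nonsing_inv_mul _ hAu]
      have h4 : (A * a.val) * ((a⁻¹).val * A⁻¹) = 1 := by
        rw [Matrix.mul_assoc, ← Matrix.mul_assoc a.val, ← Units.val_mul, mul_inv_cancel, Units.val_one,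
          Matrix.one_mul, Matrix.mul_nonsing_inv _ hAu]
      exact (left_inv_eq_right_inv h3 h4).symm
    have haT : (a⁻¹).val * Tm * a.val = (μ⁻¹ * a.val.det) • Tm := by
      calc (a⁻¹).val * Tm * a.val = (a⁻¹).val * A⁻¹ * S * a.val := by simp only [Tm, Matrix.mul_assoc]
        _ = μ⁻¹ • (A⁻¹ * (a.valᵀ * S * a.val)) := by
          rw [ha1, Matrix.smul_mul, Matrix.smul_mul]; simp only [Matrix.mul_assoc]
        _ = (μ⁻¹ * a.val.det) • Tm := by rw [skew_two, Matrix.mul_smul, smul_smul]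
    refine ⟨μ⁻¹ * a.val.det, ?_⟩
    have hinv : g.val = tm e P ((a⁻¹).val ⊗ₖ (b⁻¹).val) := by
      have h3 : (g⁻¹).val * tm e P ((a⁻¹).val ⊗ₖ (b⁻¹).val) = 1 := by
        rw [hab, ← tm_mul, ← Matrix.mul_kronecker_mul, ← Units.val_mul, ← Units.val_mul, mul_inv_cancel,
          mul_inv_cancel, Units.val_one, Units.val_one, Matrix.one_kronecker_one, tm_one]
      have h4 := congrArg (g.val * ·) h3
      simp only [← Matrix.mul_assoc, ← Units.val_mul, mul_inv_cancel, Units.val_one, Matrix.one_mul,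
        Matrix.mul_one] at h4
      exact h4.symm
    rw [hinv, hab, hWdef, ← tm_mul, ← tm_mul, ← Matrix.mul_kronecker_mul, ← Matrix.mul_kronecker_mul,
      Matrix.mul_one, ← Units.val_mul, inv_mul_cancel, Units.val_one, haT, Matrix.smul_kronecker, tm_smul']
  by_cases hsquare : ∃ s : F, s * s = c
  swap
  · right
    push Not at hsquare
    obtain ⟨K, hK, hle, hmem⟩ := quad_algebra (H := H) (W := W) (c1 := 0) (c0 := c) (by rw [hWW, zero_smul, zero_add])
      (fun a b h => by
        by_cases hb : b = 0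
        · subst hb
          exact ⟨mul_self_eq_zero.1 (by linear_combination h), rfl⟩
        · exact absurd (by field_simp; linear_combination h) (hsquare (a / b)))
      (fun g hg => by
        obtain ⟨κ, hκ⟩ := hconj g hg
        exact ⟨0, κ, by rw [hκ, zero_smul, zero_add]⟩)
    refine ⟨K, hK, hle, fun x hx => ?_⟩
    obtain ⟨a, b, rfl⟩ := (hmem x).1 hx
    exact (hmem _).2 ⟨a, -b, by rw [oadj_add, oadj_smul, oadj_smul, oadj_one C, hWadj, smul_neg, neg_smul]⟩
  left
  obtain ⟨s, hs⟩ := hsquare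
  have hs0 : s ≠ 0 := fun h => hc0 (by rw [← hs, h, mul_zero])
  set T1 := s⁻¹ • W with hT1
  have hT1sq : ∀ v, T1 *ᵥ (T1 *ᵥ v) = v := fun v => by
    rw [Matrix.mulVec_mulVec, hT1, Matrix.smul_mul, Matrix.mul_smul, hWW, smul_smul, smul_smul, ← hs,
      show s⁻¹ * s⁻¹ * (s * s) = 1 by field_simp, one_smul, Matrix.one_mulVec]
  let D : Fin 2 → Submodule F (ι → F) := fun i =>
    LinearMap.ker (Matrix.toLin' (T1 - (![1, -1] i : F) • 1))
  have hD : ∀ i v, v ∈ D i ↔ T1 *ᵥ v = (![1, -1] i : F) • v := fun i v => by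
    rw [LinearMap.mem_ker, Matrix.toLin'_apply, Matrix.sub_mulVec]
    simp [Matrix.smul_mulVec, sub_eq_zero]
  have hεsq : ∀ i : Fin 2, (![1, -1] i : F) * ![1, -1] i = 1 := fun i => by fin_cases i <;> simp
  have hts : ∀ i, IsTotallySingularQuad Q (D i) := by
    intro i x hx
    have h1 : B (T1 *ᵥ x) x = - B x (T1 *ᵥ x) := by
      rw [oadj_spec C, hT1, oadj_smul, hWadj, smul_neg, Matrix.neg_mulVec, map_neg]
    rw [(hD i x).1 hx, map_smul, map_smul, LinearMap.smul_apply, C.self, smul_eq_mul] at h1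
    have hε : (![1, -1] i : F) ≠ 0 := fun h => one_ne_zero (by rw [← hεsq i, h, mul_zero])
    have h2x : (2 : F) * ((![1, -1] i : F) * (2 * Q x)) = 0 := by linear_combination h1
    simpa [h2, hε] using h2x
  have hdis : D 0 ⊓ D 1 = ⊥ := by
    refine (Submodule.eq_bot_iff _).2 fun x hx => ?_
    have e0 := (hD 0 x).1 hx.1
    rw [(hD 1 x).1 hx.2] at e0
    have h3 : (2 : F) • x = 0 := by
      simp at e0
      rw [two_smul]
      nth_rw 1 [← e0]
      exact neg_add_cancel x
    exact (smul_eq_zero.1 h3).resolve_left h2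
  have htop : D 0 ⊔ D 1 = ⊤ := by
    refine eq_top_iff.2 fun v _ => ?_
    have hv : (2 : F)⁻¹ • (v + T1 *ᵥ v) + (2 : F)⁻¹ • (v - T1 *ᵥ v) = v := by
      rw [← smul_add, show v + T1 *ᵥ v + (v - T1 *ᵥ v) = (2 : F) • v by rw [two_smul]; abel, inv_smul_smul₀ h2]
    rw [← hv]
    refine Submodule.add_mem_sup ((hD 0 _).2 ?_) ((hD 1 _).2 ?_)
    · rw [Matrix.mulVec_smul, Matrix.mulVec_add, hT1sq]; simp [add_comm]
    · rw [Matrix.mulVec_smul, Matrix.mulVec_sub, hT1sq]; simp [← smul_neg]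
  have hsum : finrank F (D 0) + finrank F (D 1) = 2 * k := by
    have h1 := Submodule.finrank_sup_add_finrank_inf_eq (D 0) (D 1)
    rw [hdis, htop, finrank_top, finrank_bot, finrank_fintype_fun_eq_card, hcard] at h1
    omega
  have hb : ∀ i, finrank F (D i) ≤ k := fun i => by
    have := Orth.ts_bound C (hts i)
    omega
  have hdim : ∀ i, finrank F (D i) = k := Fin.forall_fin_two.2
    ⟨by have := hb 0; have := hb 1; omega, by have := hb 0; have := hb 1; omega⟩
  have hdec : IsMDecomposition k D := ⟨le_rfl, hk, hdim,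
    (iSupIndep_pair (i := (0 : Fin 2)) (j := 1) (by decide) (fun a => by fin_cases a <;> simp)).2
      (disjoint_iff.2 hdis),
    eq_top_iff.2 (htop ▸ sup_le (le_iSup D 0) (le_iSup D 1))⟩
  refine ⟨D, hdec, hts, le_decomp_of_maps hdec fun g hg i => ?_⟩
  obtain ⟨κ, hκ⟩ := hconj g⁻¹ (inv_mem hg)
  rw [inv_inv] at hκ
  have hκ1 : (g⁻¹).val * T1 * g.val = κ • T1 := by
    rw [hT1, Matrix.mul_smul, Matrix.smul_mul, hκ, smul_comm]
  have hgx : ∀ x, T1 *ᵥ (g.val *ᵥ x) = g.val *ᵥ (κ • (T1 *ᵥ x)) := fun x => by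
    rw [← Matrix.smul_mulVec, ← hκ1, ← Matrix.mulVec_mulVec, ← Matrix.mulVec_mulVec, mulVec_inv_mulVec]
  obtain ⟨x0, hx0, hx00⟩ := Submodule.exists_mem_ne_zero_of_ne_bot (p := D 0) fun h => by
    have := hdim 0
    rw [h, finrank_bot] at this
    omega
  have hκκ : κ * κ = 1 := by
    have h3 := hT1sq (g.val *ᵥ x0)
    rw [hgx, Matrix.mulVec_smul, Matrix.mulVec_smul, hgx, hT1sq, Matrix.mulVec_smul, smul_smul] at h3
    have h4 : g.val *ᵥ x0 ≠ 0 := fun h => hx00 (by
      have := congrArg ((g⁻¹).val *ᵥ ·) h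
      simpa [inv_mulVec_mulVec] using this)
    exact smul_left_injective F h4 (h3.trans (one_smul F _).symm)
  rcases mul_self_eq_one_iff.1 hκκ with h | h <;> subst h
  · refine ⟨i, fun x hx => (hD i _).2 ?_⟩
    rw [hgx, (hD i x).1 hx, one_smul, Matrix.mulVec_smul]
  · refine ⟨i + 1, fun x hx => (hD _ _).2 ?_⟩
    rw [hgx, (hD i x).1 hx, smul_smul, Matrix.mulVec_smul]
    congr 1
    fin_cases i <;> simp

/-- Over two elements two alternating factors, one of dimension two, give a quadratic field. -/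
theorem two_small [Fintype F] (hq : Fintype.card F = 2) (hk : 0 < k) (T : TData Q H e P A A') :
    ∃ K : Subalgebra F (Matrix ι ι F), IsFieldSubalgebra 2 K ∧ H ≤ subalgebraNormalizer K := by
  classical
  haveI : Nonempty ι := ⟨e.symm (0, ⟨0, hk⟩)⟩
  have h2 : (2 : F) = 0 := two_zero_iff.2 (by rw [hq]; decide)
  have hx : ∀ x : F, x = 0 ∨ x = 1 := fun x => by
    by_cases h : x = 0
    · exact Or.inl h
    · have := FiniteField.pow_card_sub_one_eq_one x h
      rw [hq, pow_one] at this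
      exact Or.inr this
  let M : Matrix (Fin 2) (Fin 2) F := !![0, 1; 1, 1]
  have hMM : M * M = M + 1 := by
    refine Matrix.ext fun i j => ?_
    fin_cases i <;> fin_cases j <;> simp [M, Matrix.mul_apply, Fin.sum_univ_two]
  have hclass : ∀ Y : Matrix (Fin 2) (Fin 2) F, Y * Y = Y + 1 → Y = M ∨ Y = M + 1 := by
    intro Y hY
    have e00 := congrFun (congrFun hY 0) 0
    have e11 := congrFun (congrFun hY 1) 1
    simp only [Matrix.mul_apply, Fin.sum_univ_two, Matrix.add_apply, Matrix.one_apply_eq] at e00 e11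
    have e01 := congrFun (congrFun hY 0) 1
    simp only [Matrix.mul_apply, Fin.sum_univ_two, Matrix.add_apply,
      Matrix.one_apply_ne (show (0 : Fin 2) ≠ 1 by decide), add_zero] at e01
    have hbc : Y 0 1 = 1 ∧ Y 1 0 = 1 := by
      rcases hx (Y 0 1) with h | h
      · exfalso
        rw [h] at e00
        rcases hx (Y 0 0) with h' | h' <;> rw [h'] at e00 <;> simp at e00
      refine ⟨h, ?_⟩
      rcases hx (Y 1 0) with h' | h'
      · exfalso
        rw [h, h'] at e00
        rcases hx (Y 0 0) with h'' | h'' <;> rw [h''] at e00 <;> simp at e00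
      · exact h'
    rw [hbc.1] at e01
    rcases hx (Y 0 0) with h | h
    · left
      refine Matrix.ext fun i j => ?_
      fin_cases i <;> fin_cases j <;> simp [M, h, hbc]
      linear_combination e01 - h
    · right
      refine Matrix.ext fun i j => ?_
      fin_cases i <;> fin_cases j <;> simp [M, h, hbc]
      linear_combination e01 - h - h2
  obtain ⟨K, hK, hle, -⟩ := quad_algebra (H := H) (W := tm e P (M ⊗ₖ (1 : Matrix (Fin k) (Fin k) F))) (c1 := 1)
    (c0 := 1) (by
      rw [one_smul, one_smul, ← tm_mul, ← Matrix.mul_kronecker_mul, Matrix.one_mul, hMM, Matrix.add_kronecker,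
        Matrix.one_kronecker_one, ← sub_eq_iff_eq_add', ← tm_sub, add_sub_cancel_left, tm_one])
    (fun a b h => by
      rcases hx a with rfl | rfl <;> rcases hx b with rfl | rfl
      · exact ⟨rfl, rfl⟩
      all_goals exfalso; simp at h)
    (fun g hg => by
      obtain ⟨a, b, ν, hab, -⟩ := T.hold g hg
      have hinv : (g⁻¹).val = tm e P ((a⁻¹).val ⊗ₖ (b⁻¹).val) := by
        refine left_inv_eq_right_inv (a := g.val) (by rw [← Units.val_mul, inv_mul_cancel, Units.val_one]) ?_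
        rw [hab, ← tm_mul, ← Matrix.mul_kronecker_mul, ← Units.val_mul, ← Units.val_mul, mul_inv_cancel,
          mul_inv_cancel, Units.val_one, Units.val_one, Matrix.one_kronecker_one, tm_one]
      have hY := hclass (a.val * M * (a⁻¹).val) (by
        calc a.val * M * (a⁻¹).val * (a.val * M * (a⁻¹).val)
            = a.val * (M * ((a⁻¹).val * a.val) * M) * (a⁻¹).val := by simp only [Matrix.mul_assoc]
          _ = a.val * M * (a⁻¹).val + 1 := by
            rw [← Units.val_mul, inv_mul_cancel, Units.val_one, Matrix.mul_one, hMM, Matrix.mul_add, Matrix.add_mul,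
              Matrix.mul_one, ← Units.val_mul, mul_inv_cancel, Units.val_one])
      have hg' : g.val * tm e P (M ⊗ₖ (1 : Matrix (Fin k) (Fin k) F)) * (g⁻¹).val =
          tm e P ((a.val * M * (a⁻¹).val) ⊗ₖ (1 : Matrix (Fin k) (Fin k) F)) := by
        rw [hab, hinv, ← tm_mul, ← tm_mul, ← Matrix.mul_kronecker_mul, ← Matrix.mul_kronecker_mul, Matrix.mul_one,
          ← Units.val_mul b, mul_inv_cancel, Units.val_one]
      rcases hY with hY | hY <;> rw [hg', hY]
      · exact ⟨0, 1, by rw [zero_smul, zero_add, one_smul]⟩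
      · refine ⟨1, 1, ?_⟩
        rw [one_smul, one_smul, Matrix.add_kronecker, Matrix.one_kronecker_one, ← sub_eq_iff_eq_add, ← tm_sub,
          add_sub_cancel_left, tm_one])
  exact ⟨K, hK, hle⟩

end DimTwo

end Cfsg.Lib.Linear.AschOrth
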