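import Cfsg.Agent.Lib.Linear.AschOrth.Product

/-!
# Maximal subgroups of `Ω` in dimension nine
-/

set_option autoImplicit false
set_option linter.unusedSectionVars false
set_option linter.style.haveILetI false

namespace Cfsg.Lib.Linear.AschOrth

open Cfsg.Geo Cfsg.Lib.Linear Cfsg.Lib.Linear.Asch Cfsg.Lib.Linear.AschGen Module
open scoped Matrix MatrixGroups Kronecker

variable {ι : Type} [Fintype ι] [DecidableEq ι] {F : Type*} [Field F]
  {Q : (ι → F) → F} {B : LinearMap.BilinForm F (ι → F)}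

/-- An almost simple group of isometries with socle realised over no proper subfield is residual. -/
theorem almost_residual [Fintype F] [Nonempty ι] (C : Orth.Space Q B) {H P : Subgroup (GL ι F)}
    (hH : H ≤ isometryGroup F Q) (hc : AlmostCore H P)
    (hreal : ∀ F₀ : Subfield F, F₀ ≠ ⊤ → ¬ RealisableOver F₀ (matrixSet P)) :
    InOrthogonalResidualClass H := by
  refine ⟨P, ⟨hc.sub.le, hc.sub.normal, hc.perfect, hc.simple, hc.nonabelian, hc.centralizer_scalar,
    hc.absIrred, hreal⟩, ?_⟩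
  rintro ⟨σ, φ, hφ, hfix⟩
  let Fσ : Subfield F := (σ : F →+* F).eqLocusField (RingHom.id F)
  have hne : Fσ ≠ ⊤ := fun h => hφ.ne_refl (RingEquiv.ext fun t => by
    have : t ∈ Fσ := h ▸ Subfield.mem_top t
    exact this)
  refine hreal Fσ hne (Cfsg.Lib.Linear.AschSp.realisable_of_trace hc.absIrred Fσ fun g hg => ?_)
  have key : ∀ (G X : Matrix ι ι F), IsUnit G.det → g.valᵀ * G * X = G →
      (g⁻¹).val.trace = X.trace := by
    intro G X hG hX
    have e1 : (g⁻¹).valᵀ * G = G * X := by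
      calc (g⁻¹).valᵀ * G = (g⁻¹).valᵀ * (g.valᵀ * G * X) := by rw [hX]
        _ = (g * g⁻¹).valᵀ * G * X := by
          rw [Units.val_mul, Matrix.transpose_mul]; simp only [Matrix.mul_assoc]
        _ = _ := by simp
    rw [← Matrix.trace_transpose (g⁻¹).val]
    calc ((g⁻¹).valᵀ).trace = ((g⁻¹).valᵀ * G * G⁻¹).trace := by
          rw [Matrix.mul_nonsing_inv_cancel_right _ _ hG]
      _ = (G⁻¹ * (G * X)).trace := by rw [e1, Matrix.trace_mul_comm]
      _ = _ := by rw [Matrix.nonsing_inv_mul_cancel_left _ _ hG]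
  show σ g.val.trace = g.val.trace
  rw [AddMonoidHom.map_trace σ, ← key _ _ (isUnit_gram C) (iso_gram C (hH (hc.sub.le hg))),
    key _ _ (isUnit_det_gram (isSesq_of_unitary hφ))
      (fixes_gram (isSesq_of_unitary hφ) hfix _ (mem_matrixSet hg))]

/-- A group of symplectic type of odd exponent does not consist of isometries. -/
theorem six_odd_false [Finite F] (C : Orth.Space Q B) (h7 : 7 ≤ Fintype.card ι) {H R : Subgroup (GL ι F)}
    (hH : H ≤ isometryGroup F Q) {r m : ℕ} (h6 : Six H R r m) (hr : Odd r) : False := by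
  haveI : Nonempty ι := Fintype.card_pos_iff.1 (by omega)
  rcases h6.center_card with ⟨-, hcard⟩ | ⟨h, -⟩
  swap
  · subst h; exact absurd hr (by decide)
  have hp := h6.symp.prime
  haveI : Finite R := inferInstance
  haveI : Nontrivial (Subgroup.center R) := Finite.one_lt_card_iff_nontrivial.1 (hcard ▸ hp.one_lt)
  obtain ⟨z, hz⟩ := exists_ne (1 : Subgroup.center R)
  have hzs : ((z : R) : GL ι F) ∈ scalars ι F := Subgroup.mem_subgroupOf.1 (h6.center_eq.le z.2)
  obtain ⟨c, hc⟩ := (mem_scalars_iff _).1 hzs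
  have hzr : ((z : R) : GL ι F) ^ r = 1 := by
    have := pow_card_eq_one' (x := z)
    rw [hcard] at this
    exact congrArg (fun w : Subgroup.center R => ((w : R) : GL ι F)) this
  obtain ⟨e, f, a, he, hf, hef, -⟩ := exists_triple C h7
  have h1 := Orth.mem_iso.1 (hH (h6.sub.le (z : R).2)) (e + f)
  rw [hc, Matrix.smul_mulVec, Matrix.one_mulVec, C.smul, C.add, he, hf, hef, zero_add, zero_add, mul_one] at h1
  have hz2 : ((z : R) : GL ι F) ^ 2 = 1 := Units.ext (by
    rw [Units.val_pow_eq_pow_val, hc, smul_pow, one_pow, h1, one_smul, Units.val_one])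
  have hg1 : ((z : R) : GL ι F) = 1 := by
    obtain ⟨k, rfl⟩ := hr
    rwa [pow_succ, pow_mul, hz2, one_pow, one_mul] at hzr
  exact hz (Subtype.ext (Subtype.ext hg1))

theorem arrow_trans_symm {d : ℕ} (e : ι ≃ (Fin 2 → Fin d)) : (e.trans (arrow d).symm).trans (arrow d) = e :=
  Equiv.ext fun i => by simp

theorem powStd_zero {d : ℕ} (a : Matrix (Fin d) (Fin d) F) :
    powStd (0 : Fin 2) a = (a ⊗ₖ (1 : Matrix (Fin d) (Fin d) F)).submatrix (arrow d).symm (arrow d).symm := by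
  ext x y
  simp [powStd, pureTens, Fin.prod_univ_two, arrow, finTwoArrowEquiv, Matrix.kroneckerMap_apply]

set_option maxHeartbeats 800000 in
/-- The maximal subgroups of `Ω` in dimension nine. -/
theorem nine_cases [Fintype F] (C : Orth.Space Q B) (hodd : Odd (Fintype.card F)) (hcard : Fintype.card ι = 9)
    (hQrat : ∀ F₁ : Subfield F, ∀ v : ι → F, (∀ i, v i ∈ F₁) → Q v ∈ F₁)
    {H : Subgroup (GL ι F)} (hH : IsMaximalIn (omegaGL Q) H) :
    (∃ W : Submodule F (ι → F), W ≠ ⊥ ∧ IsTotallySingularQuad Q W ∧ H = subspaceStabilizer W ⊓ omegaGL Q) ∨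
    (∃ W : Submodule F (ι → F), W ≠ ⊥ ∧ Even (finrank F W) ∧
      IsNondegenerateOn (QuadraticMap.polar Q) W ∧
      ¬ (Fintype.card F = 3 ∧ finrank F W = 2 ∧ IsPlusTypeOn Q W) ∧
      H = subspaceStabilizer W ⊓ omegaGL Q) ∨
    ((Fintype.card F).Prime ∧ ∃ D : Fin 9 → Submodule F (ι → F), IsOrthogonalMDecomposition Q 1 D ∧
      H = decompositionStabilizer D ⊓ omegaGL Q) ∨
    (5 ≤ Fintype.card F ∧ ∃ D : Fin 3 → Submodule F (ι → F), IsOrthogonalMDecomposition Q 3 D ∧
      H = decompositionStabilizer D ⊓ omegaGL Q) ∨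
    (∃ K : Subalgebra F (Matrix ι ι F), IsFieldSubalgebra 3 K ∧
      IsSelfAdjointFor (QuadraticMap.polar Q) K ∧ H = subalgebraNormalizer K ⊓ omegaGL Q) ∨
    (∃ (F₀ : Subfield F) (r : ℕ) (P : GL ι F), r.Prime ∧ Fintype.card F = Nat.card F₀ ^ r ∧
      IsQuadFormRationalStructure Q F₀ P ∧ H = subfieldSubgroup F₀ P ⊓ omegaGL Q) ∨
    (5 ≤ Fintype.card F ∧ ∃ (e : ι ≃ (Fin 2 → Fin 3)) (P : GL ι F) (f₁ : (Fin 3 → F) → (Fin 3 → F) → F),
      IsSymmetricForm f₁ ∧ IsTensorPowerFormStructure id (QuadraticMap.polar Q) f₁ e P ∧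
      H = tensorWreathSubgroup 3 2 e P ⊓ omegaGL Q) ∨
    InOrthogonalResidualClass H := by
  classical
  have h2 : (2 : F) ≠ 0 := Orth.two_ne_zero_of_odd_card hodd
  have hι : Odd (Fintype.card ι) := by rw [hcard]; decide
  have h7 : 7 ≤ Fintype.card ι := by omega
  have h5' : 5 ≤ Fintype.card ι := by omega
  haveI : Nonempty ι := Fintype.card_pos_iff.1 (by omega)
  obtain ⟨e, f, a, he, hf, hef, ha, hea, haf, ha0⟩ := exists_triple C h7
  have hHI : H ≤ isometryGroup F Q := fun g hg => omegaGL_le_iso (hH.1.le hg)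
  have hq : Fintype.card F = 3 ∨ 5 ≤ Fintype.card F := by
    have := Fintype.one_lt_card (α := F)
    obtain ⟨j, hj⟩ := hodd
    omega
  have mkC5 : ∀ {G : Subgroup (GL ι F)} {F₀ : Subfield F}, F₀ ≠ ⊤ →
      ActsAbsolutelyIrreducibly (matrixSet G) → G ≤ isometryGroup F Q →
      (∀ g ∈ H, ∀ x ∈ G, g * x * g⁻¹ ∈ G) → RealisableOver F₀ (matrixSet G) →
      ∃ (F₀ : Subfield F) (s : ℕ) (P : GL ι F), s.Prime ∧ Fintype.card F = Nat.card F₀ ^ s ∧
        IsQuadFormRationalStructure Q F₀ P ∧ H = subfieldSubgroup F₀ P ⊓ omegaGL Q := by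
    intro G F₀ h0 h1 h3 h4 hreal
    obtain ⟨F₁, s, P, hne, hs, hc, hP, hle⟩ :=
      orth_realisable_le C h2 hι hQrat h0 h1 h3 h4 hreal
    exact ⟨F₁, s, P, hs, hc, hP,
      eq_inf_of_maximal hH hle (not_omega_le_subfieldSubgroup C h5' h2 he ha hea hef haf ha0 hne P)⟩
  by_cases hirr : ActsIrreducibly (matrixSet H)
  swap
  · rw [irr_iff] at hirr
    push Not at hirr
    obtain ⟨W, hW, hW0, hW1⟩ := hirr
    rcases orth_reducible (r := 9) C h2 (by decide) (by norm_num) hcard hHI hW hW0 hW1 with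
      ⟨U, h0, h1, hU, hs⟩ | ⟨U, h0, h1, hU, hev, hnd, hex⟩
    · exact Or.inl ⟨U, h0, hs, eq_inf_of_maximal hH (fun g hg => mem_subspaceStabilizer_of_inv (hU g hg))
        (not_omega_le_subspaceStabilizer C h5' h2 he hf hef h0 h1)⟩
    · exact Or.inr (Or.inl ⟨U, h0, hev, hnd, hex, eq_inf_of_maximal hH
        (fun g hg => mem_subspaceStabilizer_of_inv (hU g hg))
        (not_omega_le_subspaceStabilizer C h5' h2 he hf hef h0 h1)⟩)
  have line_case : Fintype.card F = 3 → (∃ D : Fin 9 → Submodule F (ι → F),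
      IsOrthogonalMDecomposition Q 1 D ∧ H ≤ decompositionStabilizer D) →
      ((Fintype.card F).Prime ∧ ∃ D : Fin 9 → Submodule F (ι → F), IsOrthogonalMDecomposition Q 1 D ∧
        H = decompositionStabilizer D ⊓ omegaGL Q) := fun h3 ⟨D, hD, hle⟩ =>
    ⟨by rw [h3]; norm_num, D, hD, eq_inf_of_maximal hH hle (not_omega_le_decomp C h2 h7 hD.decomp.decomp)⟩
  have product : ∀ {e' : ι ≃ Fin 3 × Fin 3} {P : GL ι F},
      H ≤ tensorWreathSubgroup 3 2 (e'.trans (arrow 3)) P →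
      (∀ a : Matrix (Fin 3) (Fin 3) F,
        ∃ a', oadj Q (tm e' P (a ⊗ₖ (1 : Matrix (Fin 3) (Fin 3) F))) = tm e' P (a' ⊗ₖ 1)) →
      ((Fintype.card F).Prime ∧ ∃ D : Fin 9 → Submodule F (ι → F), IsOrthogonalMDecomposition Q 1 D ∧
        H = decompositionStabilizer D ⊓ omegaGL Q) ∨
      (5 ≤ Fintype.card F ∧ ∃ (e : ι ≃ (Fin 2 → Fin 3)) (P : GL ι F) (f₁ : (Fin 3 → F) → (Fin 3 → F) → F),
        IsSymmetricForm f₁ ∧ IsTensorPowerFormStructure id (QuadraticMap.polar Q) f₁ e P ∧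
        H = tensorWreathSubgroup 3 2 e P ⊓ omegaGL Q) := by
    intro e' P hle hA
    rcases product_cases C hodd hcard hHI hle hA with ⟨h5, P', f₁, hf₁, hT, hle'⟩ | ⟨h3, hD⟩
    · exact Or.inr ⟨h5, _, P', f₁, hf₁, hT,
        eq_inf_of_maximal hH hle' (not_omega_le_wreath C h2 h7 le_rfl)⟩
    · exact Or.inl (line_case h3 hD)
  refine Or.inr (Or.inr ?_)
  by_cases hF : FieldExt H
  · obtain ⟨N, hN, h1, hK⟩ := hF
    have hd9 := bicomm_lt_card C h2 hι (hN.le.trans hHI) h1 hK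
    have hd : finrank F (bicomm N) = 3 := by
      have hdvd := field_dvd_card hK
      rw [hcard] at hdvd hd9
      have := Nat.le_of_dvd (by norm_num) hdvd
      interval_cases hk : finrank F (bicomm N) <;> omega
    rw [hd] at hK
    have hsa := field_self_adjoint C h2 (by decide) hK fun k hk => oadj_mem_bicomm C (hN.le.trans hHI) hk
    refine Or.inr (Or.inr (Or.inl ⟨bicomm N, hK, fun k hk u v => ?_,
      eq_inf_of_maximal hH (le_subalgebraNormalizer_bicomm hN) (not_omega_le_field C h7 (by norm_num) hK)⟩))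
    rw [C.polar, C.polar, oadj_spec C, hsa k hk]
  rcases core hirr (by omega) with h | h | h | h | h | h
  · obtain ⟨t, m, D, ht, htm, hD, hle⟩ := imprimitive_odd C hι hHI h
    rw [hcard] at htm
    have ht9 : t ≤ 9 := Nat.le_of_dvd (by norm_num) ⟨m, htm.symm⟩
    obtain ⟨rfl, rfl⟩ | ⟨rfl, rfl⟩ : (t = 3 ∧ m = 3) ∨ (t = 9 ∧ m = 1) := by
      interval_cases t <;> omega
    · rcases hq with h3 | h5
      · exact Or.inl (line_case h3 (three_blocks h3 C h2 hcard hD hHI hle))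
      · exact Or.inr (Or.inl ⟨h5, D, hD,
          eq_inf_of_maximal hH hle (not_omega_le_decomp C h2 h7 hD.decomp.decomp)⟩)
    · by_cases hp : (Fintype.card F).Prime
      · exact Or.inl ⟨hp, D, hD, eq_inf_of_maximal hH hle (not_omega_le_decomp C h2 h7 hD.decomp.decomp)⟩
      have habs := (absIrr_or_fieldExt hirr).resolve_right hF
      obtain ⟨p, hpc⟩ := CharP.exists F
      obtain ⟨k, hpp, hk⟩ := FiniteField.card F p
      haveI := Fact.mk hpp
      obtain ⟨F₁, hF₁, -⟩ := exists_subfield_pow (F := F) p k 1 hk one_pos (one_dvd _)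
      have hne : F₁ ≠ ⊤ := fun h => by
        rw [h, Nat.card_congr Subfield.topEquiv.toEquiv, Nat.card_eq_fintype_card, pow_one] at hF₁
        exact hp (hF₁ ▸ hpp)
      exact Or.inr (Or.inr (Or.inr (Or.inl (mkC5 hne habs hHI
        (fun g hg x hx => mul_mem (mul_mem hg hx) (inv_mem hg))
        (orth_monomial_realisable C h2 hcard hHI hD hle (by norm_num) F₁)))))
  · exact absurd h hF
  · obtain ⟨N, d, k, e', P, hN, hd, hk, hmem, hle⟩ := h
    have hdk : d * k = 9 := by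
      rw [← hcard, Fintype.card_congr e', Fintype.card_prod, Fintype.card_fin, Fintype.card_fin]
    have hd9 : d ≤ 9 := Nat.le_of_dvd (by norm_num) ⟨k, hdk.symm⟩
    obtain ⟨rfl, rfl⟩ : d = 3 ∧ k = 3 := by interval_cases d <;> omega
    rcases product (hle.trans tensor_le_wreath) (fun a => by
      obtain ⟨a', ha⟩ := (hmem _).1 (oadj_mem_adj C (hN.le.trans hHI) ((hmem _).2 ⟨a, rfl⟩))
      exact ⟨a', ha⟩) with h | h
    · exact Or.inl h
    · exact Or.inr (Or.inr (Or.inr (Or.inr (Or.inl h))))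
  · obtain ⟨R, r, m, h6⟩ := h
    refine (six_odd_false C h7 hHI h6 ?_).elim
    refine h6.symp.prime.odd_of_ne_two fun h2' => ?_
    have h9 := h6.card_eq
    rw [hcard, h2'] at h9
    have : Even (2 ^ m) := (Nat.even_pow.2 ⟨even_two, h6.pos.ne'⟩)
    rw [← h9] at this
    exact absurd this (by decide)
  · obtain ⟨d, t, M, e', P, hd, ht, hM⟩ := h
    have hdt : d ^ t = 9 := by
      rw [← hcard, Fintype.card_congr e', Fintype.card_fun, Fintype.card_fin, Fintype.card_fin]
    obtain ⟨rfl, rfl⟩ : d = 3 ∧ t = 2 := by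
      have h1 : d ^ 2 ≤ 9 := hdt ▸ Nat.pow_le_pow_right (by omega) ht
      have h3 : 2 ^ t ≤ 9 := hdt ▸ Nat.pow_le_pow_left hd t
      have : d ≤ 3 := by nlinarith
      have : t ≤ 3 := by
        by_contra hlt
        have := Nat.pow_le_pow_right (show 0 < 2 by norm_num) (show 4 ≤ t by omega)
        omega
      interval_cases d <;> interval_cases t <;> simp_all
    have hst := hM.stab
    rw [← arrow_trans_symm e'] at hst
    rcases product hst (fun a => by
      have hpe : ∀ x, tm (e'.trans (arrow 3).symm) P (x ⊗ₖ (1 : Matrix (Fin 3) (Fin 3) F)) =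
          powEmb e' P 0 x := fun x => by
        rw [powEmb, powStd_zero, tm, Matrix.submatrix_submatrix]
        rfl
      obtain ⟨a', ha⟩ := (hM.span 0 _).1 (oadj_mem_adj C ((hM.le 0).trans hHI) ((hM.span 0 _).2 ⟨a, rfl⟩))
      exact ⟨a', by rw [hpe, hpe]; exact ha⟩) with h | h
    · exact Or.inl h
    · exact Or.inr (Or.inr (Or.inr (Or.inr (Or.inl h))))
  · obtain ⟨P, hc⟩ := h
    by_cases hreal : ∃ F₀ : Subfield F, F₀ ≠ ⊤ ∧ RealisableOver F₀ (matrixSet P)
    · obtain ⟨F₀, h0, h1⟩ := hreal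
      exact Or.inr (Or.inr (Or.inr (Or.inl (mkC5 h0 hc.absIrred (hc.sub.le.trans hHI) hc.sub.normal h1))))
    · exact Or.inr (Or.inr (Or.inr (Or.inr (Or.inr
        (almost_residual C hHI hc fun F₀ h0 h1 => hreal ⟨F₀, h0, h1⟩)))))

end Cfsg.Lib.Linear.AschOrth
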