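import Cfsg.Agent.Lib.Linear.AschOrth.EvenSubfield
import Cfsg.Agent.Lib.Linear.AschOrth.EvenTensor
import Cfsg.Agent.Lib.Linear.AschOrth.Nine
import Cfsg.Agent.Lib.Linear.AschGen.Structures

/-!
# Maximal irreducible subgroups of `Ω` in even dimension: common steps
-/

set_option autoImplicit false
set_option linter.unusedSectionVars false
set_option linter.style.haveILetI false

namespace Cfsg.Lib.Linear.AschOrth

open Cfsg.Geo Cfsg.Lib.Linear Cfsg.Lib.Linear.Asch Cfsg.Lib.Linear.AschGen Module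
open scoped Matrix MatrixGroups

variable {ι : Type} [Fintype ι] [DecidableEq ι] {F : Type*} [Field F]
  {Q : (ι → F) → F} {B : LinearMap.BilinForm F (ι → F)} {H : Subgroup (GL ι F)}

/-- `H` is the stabiliser in `Ω` of a structure over a subfield of prime index carrying `Q` up to a scalar. -/
def SubCase [Fintype F] (Q : (ι → F) → F) (H : Subgroup (GL ι F)) : Prop :=
  ∃ (F₀ : Subfield F) (r : ℕ) (P : GL ι F) (ζ : F), r.Prime ∧ Fintype.card F = Nat.card F₀ ^ r ∧ ζ ≠ 0 ∧
    IsQuadFormRationalStructure (fun v => ζ * Q v) F₀ P ∧ H = subfieldSubgroup F₀ P ⊓ omegaGL Q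

/-- A group realisable over a subfield and normalised by a maximal subgroup gives a subfield case. -/
theorem subfield_case [Fintype F] (C : Orth.Space Q B) (h7 : 7 ≤ Fintype.card ι)
    (hH : IsMaximalIn (omegaGL Q) H) {G : Subgroup (GL ι F)} {F₀ : Subfield F} (hF₀ : F₀ ≠ ⊤)
    (hG : ActsAbsolutelyIrreducibly (matrixSet G)) (hGU : G ≤ isometryGroup F Q)
    (hn' : ∀ g ∈ H, ∀ a ∈ G, g * a * g⁻¹ ∈ G) (hreal : RealisableOver F₀ (matrixSet G)) : SubCase Q H := by
  haveI : Nonempty ι := Fintype.card_pos_iff.1 (by omega)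
  obtain ⟨F₁, r, P, ζ, -, hr, hc, hζ, hP, hle⟩ := realisable_even C (by omega) hF₀ hG hGU hn' hreal
  exact ⟨F₁, r, P, ζ, hr, hc, hζ, hP, eq_inf_of_maximal hH hle (not_omega_le_subfield C h7 hr hc P)⟩

/-- Realisability of the group itself over a proper subfield. -/
theorem self_subfield_case [Fintype F] (C : Orth.Space Q B) (h7 : 7 ≤ Fintype.card ι)
    (hH : IsMaximalIn (omegaGL Q) H) (habs : ActsAbsolutelyIrreducibly (matrixSet H)) {F₀ : Subfield F}
    (hF₀ : F₀ ≠ ⊤) (hreal : RealisableOver F₀ (matrixSet H)) : SubCase Q H :=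
  subfield_case C h7 hH hF₀ habs (fun _ hg => omegaGL_le_iso (hH.1.le hg))
    (fun _ hg _ hx => mul_mem (mul_mem hg hx) (inv_mem hg)) hreal

/-- For a field of composite order there is a proper subfield. -/
theorem exists_proper_subfield [Fintype F] (h : ¬ (Fintype.card F).Prime) : ∃ F₁ : Subfield F, F₁ ≠ ⊤ := by
  obtain ⟨p, hpc⟩ := CharP.exists F
  obtain ⟨k, hpp, hk⟩ := FiniteField.card F p
  haveI := Fact.mk hpp
  obtain ⟨F₁, hF₁, -⟩ := exists_subfield_pow (F := F) p k 1 hk one_pos (one_dvd _)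
  refine ⟨F₁, fun hT => ?_⟩
  rw [hT, Nat.card_congr Subfield.topEquiv.toEquiv, Nat.card_eq_fintype_card, pow_one] at hF₁
  exact h (hF₁ ▸ hpp)

/-- An almost simple maximal subgroup is residual or a subfield case. -/
theorem almost_case [Fintype F] (C : Orth.Space Q B) (h7 : 7 ≤ Fintype.card ι)
    (hH : IsMaximalIn (omegaGL Q) H) (h : AlmostSimple H) : SubCase Q H ∨ InOrthogonalResidualClass H := by
  haveI : Nonempty ι := Fintype.card_pos_iff.1 (by omega)
  have hHI : H ≤ isometryGroup F Q := fun g hg => omegaGL_le_iso (hH.1.le hg)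
  obtain ⟨P, hc⟩ := h
  by_cases hreal : ∃ F₀ : Subfield F, F₀ ≠ ⊤ ∧ RealisableOver F₀ (matrixSet P)
  · obtain ⟨F₀, h0, h1⟩ := hreal
    exact Or.inl (subfield_case C h7 hH h0 hc.absIrred (hc.sub.le.trans hHI) hc.sub.normal h1)
  · exact Or.inr (almost_residual C hHI hc fun F₀ h0 h1 => hreal ⟨F₀, h0, h1⟩)

/-- A maximal subgroup normalising a field normalises one of prime degree and is its stabiliser. -/
theorem field_case [Fintype F] (C : Orth.Space Q B) (h7 : 7 ≤ Fintype.card ι)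
    (hH : IsMaximalIn (omegaGL Q) H) (hF : FieldExt H) :
    ∃ (r : ℕ) (K : Subalgebra F (Matrix ι ι F)), r.Prime ∧ r ∣ Fintype.card ι ∧ IsFieldSubalgebra r K ∧
      H = subalgebraNormalizer K ⊓ omegaGL Q := by
  haveI : Nonempty ι := Fintype.card_pos_iff.1 (by omega)
  obtain ⟨N, hN, h1, hK⟩ := hF
  obtain ⟨r, K, hr, hdvd, hK', hle⟩ := exists_prime_field (H := H) hK h1 (le_subalgebraNormalizer_bicomm hN)
  exact ⟨r, K, hr, hdvd, hK', eq_inf_of_maximal hH hle (not_omega_le_field C h7 hr.one_lt hK')⟩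

/-- A subfield case of index two needs plus type. -/
theorem subCase_odd [Fintype F] (C : Orth.Space Q B) {m : ℕ} (hm : 1 ≤ m) (hcard : Fintype.card ι = 2 * m)
    (hminus : ¬ IsPlusTypeOn Q (⊤ : Submodule F (ι → F))) (h : SubCase Q H) :
    ∃ (F₀ : Subfield F) (r : ℕ) (P : GL ι F) (ζ : F), r.Prime ∧ Odd r ∧ Fintype.card F = Nat.card F₀ ^ r ∧
      ζ ≠ 0 ∧ IsQuadFormRationalStructure (fun v => ζ * Q v) F₀ P ∧ H = subfieldSubgroup F₀ P ⊓ omegaGL Q := by
  obtain ⟨F₀, r, P, ζ, hr, hc, hζ, hP, heq⟩ := h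
  refine ⟨F₀, r, P, ζ, hr, hr.odd_of_ne_two fun h2 => hminus ?_, hc, hζ, hP, heq⟩
  subst h2
  exact plus_of_index_two C hm hcard hc hζ hP

/-- The dimensions of a tensor or tensor power decomposition with two factors. -/
theorem tensor_card {d k : ℕ} (e : ι ≃ Fin d × Fin k) : d * k = Fintype.card ι := by
  rw [Fintype.card_congr e, Fintype.card_prod, Fintype.card_fin, Fintype.card_fin]

/-- Symplectic type needs prime power dimension. -/
theorem six_not_prime_power {R : Subgroup (GL ι F)} {r m p q : ℕ} (hp : p.Prime) (hq : q.Prime) (hpq : p ≠ q)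
    (hpn : p ∣ Fintype.card ι) (hqn : q ∣ Fintype.card ι) (h6 : Six H R r m) : False := by
  rw [h6.card_eq] at hpn hqn
  exact hpq (((Nat.prime_dvd_prime_iff_eq hp h6.symp.prime).1 (hp.dvd_of_dvd_pow hpn)).trans
    ((Nat.prime_dvd_prime_iff_eq hq h6.symp.prime).1 (hq.dvd_of_dvd_pow hqn)).symm)

/-- Tensor powers need a perfect power dimension. -/
theorem pow_dim {d t : ℕ} (e : ι ≃ (Fin t → Fin d)) : d ^ t = Fintype.card ι := by
  rw [Fintype.card_congr e, Fintype.card_fun, Fintype.card_fin, Fintype.card_fin]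

end Cfsg.Lib.Linear.AschOrth
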