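import Cfsg.Agent.Lib.Linear.AschOrth.Basic

/-!
# Extension fields stable under the adjoint of a quadratic form
-/

set_option autoImplicit false
set_option linter.unusedSectionVars false
set_option linter.style.haveILetI false

namespace Cfsg.Lib.Linear.AschOrth

open Cfsg.Geo Cfsg.Lib.Linear Cfsg.Lib.Linear.Asch Cfsg.Lib.Linear.AschGen Module
open scoped Matrix MatrixGroups

variable {ι : Type} [Fintype ι] [DecidableEq ι] {F : Type*} [Field F]
  {Q : (ι → F) → F} {B : LinearMap.BilinForm F (ι → F)} {r : ℕ} {K : Subalgebra F (Matrix ι ι F)}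

/-- The degree of an algebra acting as a division ring divides the dimension. -/
theorem dvd_of_algHom {K : Type*} [DivisionRing K] [Algebra F K] {V : Type*} [AddCommGroup V] [Module F V]
    (φ : K →ₐ[F] Module.End F V) : finrank F K ∣ finrank F V := by
  letI : Module K V := Module.compHom V φ.toRingHom
  haveI : IsScalarTower F K V := ⟨fun c a v => by
    show φ (c • a) v = c • φ a v
    rw [map_smul]; rfl⟩
  exact ⟨_, (Module.finrank_mul_finrank F K V).symm⟩

/-- The degree of an extension field inside a matrix algebra divides the dimension. -/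
theorem field_dvd_card [Nonempty ι] (hK : IsFieldSubalgebra r K) : r ∣ Fintype.card ι := by
  haveI : Nontrivial K := inferInstance
  letI : CommRing K :=
    { (inferInstance : Ring K) with mul_comm := fun a b => Subtype.ext (hK.comm a.1 a.2 b.1 b.2) }
  letI : Field K := IsField.toField
    { exists_pair_ne := exists_pair_ne K
      mul_comm := mul_comm
      mul_inv_cancel := fun {a} ha => by
        obtain ⟨y, hy, h⟩ := hK.inv a.1 a.2 fun h => ha (Subtype.ext h)
        exact ⟨⟨y, hy⟩, Subtype.ext h⟩ }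
  have h := dvd_of_algHom (F := F) (K := K)
    ((Matrix.toLinAlgEquiv' : Matrix ι ι F ≃ₐ[F] Module.End F (ι → F)).toAlgHom.comp K.val)
  rwa [hK.finrank_eq, Module.finrank_fintype_fun_eq_card] at h

/-- A field of odd degree stable under the adjoint consists of self-adjoint elements. -/
theorem field_self_adjoint [Finite F] (C : Orth.Space Q B) (h2 : (2 : F) ≠ 0) (hr : Odd r)
    (hK : IsFieldSubalgebra r K) (hadj : ∀ k ∈ K, oadj Q k ∈ K) : ∀ k ∈ K, oadj Q k = k := by
  intro k hk
  by_contra hne
  have ha0 : k - oadj Q k ≠ 0 := sub_ne_zero.2 (Ne.symm hne)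
  set a := k - oadj Q k with ha
  have haK : a ∈ K := sub_mem hk (hadj k hk)
  have haa : oadj Q a = -a := by rw [ha, oadj_sub, oadj_oadj C, neg_sub]
  obtain ⟨w, hw, haw⟩ := hK.inv a haK ha0
  have hwa : oadj Q w = -w := by
    have h1 := congrArg (oadj Q) haw
    rw [oadj_mul C, oadj_one C, haa] at h1
    have h3 : oadj Q w * -a * -w = -w := by rw [h1, one_mul]
    rwa [mul_assoc, neg_mul_neg, haw, mul_one] at h3
  let S : Submodule F (Matrix ι ι F) :=
    { carrier := {x | x ∈ K ∧ oadj Q x = x}
      add_mem' := fun {a b} ha hb => ⟨add_mem ha.1 hb.1, by rw [oadj_add, ha.2, hb.2]⟩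
      zero_mem' := ⟨zero_mem K, oadj_zero⟩
      smul_mem' := fun c a ha => ⟨K.smul_mem ha.1 c, by rw [oadj_smul, ha.2]⟩ }
  let φ : (S × S) →ₗ[F] K :=
    { toFun := fun p => ⟨(p.1 : Matrix ι ι F) + p.2 * a, add_mem p.1.2.1 (mul_mem p.2.2.1 haK)⟩
      map_add' := fun u v => Subtype.ext (by
        simp only [Prod.fst_add, Prod.snd_add, Submodule.coe_add, Matrix.add_mul, Subalgebra.coe_add]; abel)
      map_smul' := fun c u => Subtype.ext (by simp [smul_add]) }
  have hφ : Function.Bijective φ := by
    constructor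
    · rw [injective_iff_map_eq_zero]
      rintro ⟨⟨s, hs⟩, ⟨b, hb⟩⟩ h0
      have h1 : s + b * a = 0 := congrArg Subtype.val h0
      have h3 : s - b * a = 0 := by
        have := congrArg (oadj Q) h1
        rwa [oadj_add, oadj_mul C, hs.2, hb.2, haa, oadj_zero, neg_mul, hK.comm a haK b hb.1,
          ← sub_eq_add_neg] at this
      have hs0 : s = 0 := by
        have h4 : (2 : F) • s = 0 := by
          rw [two_smul, show s + s = (s + b * a) + (s - b * a) by abel, h1, h3, add_zero]
        exact (smul_eq_zero.1 h4).resolve_left h2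
      subst hs0
      rw [zero_add] at h1
      have hb0 : b = 0 := by
        have := congrArg (· * w) h1
        simpa [mul_assoc, haw] using this
      subst hb0
      rfl
    · rintro ⟨x, hx⟩
      have h22 : (2 : F)⁻¹ • (x + x) = x := by rw [← two_smul F x, inv_smul_smul₀ h2]
      refine ⟨(⟨(2 : F)⁻¹ • (x + oadj Q x), K.smul_mem (add_mem hx (hadj x hx)) _, ?_⟩,
        ⟨((2 : F)⁻¹ • (x - oadj Q x)) * w, mul_mem (K.smul_mem (sub_mem hx (hadj x hx)) _) hw, ?_⟩),
        Subtype.ext ?_⟩
      · rw [oadj_smul, oadj_add, oadj_oadj C, add_comm (oadj Q x)]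
      · rw [oadj_mul C, hwa, oadj_smul, oadj_sub, oadj_oadj C, neg_mul, ← mul_neg, ← smul_neg, neg_sub]
        exact hK.comm w hw _ (K.smul_mem (sub_mem hx (hadj x hx)) _)
      · show (2 : F)⁻¹ • (x + oadj Q x) + (2 : F)⁻¹ • (x - oadj Q x) * w * a = x
        rw [mul_assoc, hK.comm w hw a haK, haw, mul_one, ← smul_add,
          show x + oadj Q x + (x - oadj Q x) = x + x by abel, h22]
  have hfin := (LinearEquiv.ofBijective φ hφ).finrank_eq
  rw [hK.finrank_eq, Module.finrank_prod] at hfin
  exact (Nat.not_even_iff_odd.2 hr) ⟨_, hfin.symm⟩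

/-- The centre of a commutant is not a field of full degree in an odd-dimensional orthogonal group. -/
theorem bicomm_lt_card [Finite F] (C : Orth.Space Q B) (h2 : (2 : F) ≠ 0) (hodd : Odd (Fintype.card ι))
    {N : Subgroup (GL ι F)} (hN : N ≤ isometryGroup F Q) (h1 : 1 < finrank F (bicomm N))
    (hK : IsFieldSubalgebra (finrank F (bicomm N)) (bicomm N)) : finrank F (bicomm N) ≠ Fintype.card ι := by
  intro hd
  rw [hd] at hK
  haveI : Nonempty ι := Fintype.card_pos_iff.1 hodd.pos
  have hNs : N ≤ scalars ι F := fun g hg => field_iso_scalar C h2 hodd rfl hK (hN hg)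
    (mem_of_comm_field hodd.pos rfl hK fun k hk => bicomm_le_centralizer hk g hg)
  have htop : Subalgebra.centralizer F (matrixSet N) = ⊤ := eq_top_iff.2 fun M _ => by
    rw [Subalgebra.mem_centralizer_iff]
    rintro _ ⟨g, hg, rfl⟩
    obtain ⟨d, hd⟩ := (mem_scalars_iff g).1 (hNs hg)
    simp [hd]
  have hbot : bicomm N = ⊥ := eq_bot_iff.2 fun X hX => by
    rw [bicomm, Algebra.mem_inf] at hX
    obtain ⟨c, hc⟩ := Matrix.mem_range_scalar_of_commute_single (M := X) (fun i j _ =>
      (Subalgebra.mem_centralizer_iff F).1 hX.2 (Matrix.single i j 1) (by rw [htop]; exact Algebra.mem_top))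
    exact Algebra.mem_bot.2 ⟨c, hc⟩
  rw [hbot, Subalgebra.finrank_bot] at h1
  exact lt_irrefl 1 h1

end Cfsg.Lib.Linear.AschOrth
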