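import Cfsg.Agent.Lib.Linear.AschOrth.EvenReducible
import Cfsg.Agent.Lib.Linear.AschOrth.Field
import Cfsg.Agent.Lib.Linear.AschSp.PrimeField

/-!
# Fields of degree five in dimension ten
-/

set_option autoImplicit false
set_option linter.unusedSectionVars false
set_option linter.style.haveILetI false

namespace Cfsg.Lib.Linear.AschOrth

open Cfsg.Geo Cfsg.Lib.Linear Cfsg.Lib.Linear.Asch Cfsg.Lib.Linear.AschGen Module
open scoped Matrix MatrixGroups

variable {ι : Type} [Fintype ι] [DecidableEq ι] {F : Type*} [Field F]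
  {Q : (ι → F) → F} {B : LinearMap.BilinForm F (ι → F)} {r : ℕ} {K : Subalgebra F (Matrix ι ι F)}
  {H N : Subgroup (GL ι F)}

/-- The field of a field subalgebra. -/
noncomputable abbrev fieldOf [Nonempty ι] (hK : IsFieldSubalgebra r K) : Field K :=
  letI : CommRing K :=
    { (inferInstance : Ring K) with mul_comm := fun a b => Subtype.ext (hK.comm a.1 a.2 b.1 b.2) }
  IsField.toField
    { exists_pair_ne := ⟨0, 1, zero_ne_one⟩
      mul_comm := mul_comm
      mul_inv_cancel := fun {a} ha => by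
        obtain ⟨y, hy, h⟩ := hK.inv a.1 a.2 fun h => ha (Subtype.ext h)
        exact ⟨⟨y, hy⟩, Subtype.ext h⟩ }

theorem field_apply_eq_zero (hK : IsFieldSubalgebra r K) {k : Matrix ι ι F} (hk : k ∈ K) {v : ι → F}
    (hv : v ≠ 0) (h : k *ᵥ v = 0) : k = 0 := by
  by_contra hne
  obtain ⟨y, hy, hky⟩ := hK.inv k hk hne
  rw [hK.comm k hk y hy] at hky
  apply hv
  rw [← Matrix.one_mulVec v, ← hky, ← Matrix.mulVec_mulVec, h, Matrix.mulVec_zero]

/-- A field of odd degree stable under the adjoint consists of self-adjoint elements. -/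
theorem field_involution_odd [Finite F] [Nonempty ι] (C : Orth.Space Q B) (hK : IsFieldSubalgebra r K)
    (hr : Odd r) (hadj : ∀ k ∈ K, oadj Q k ∈ K) : ∀ k ∈ K, oadj Q k = k := by
  haveI : Finite (Matrix ι ι F) := inferInstanceAs (Finite (ι → ι → F))
  letI := fieldOf hK
  let σ : K ≃ₐ[F] K :=
    { toFun := fun k => ⟨oadj Q k.1, hadj _ k.2⟩
      invFun := fun k => ⟨oadj Q k.1, hadj _ k.2⟩
      left_inv := fun k => Subtype.ext (oadj_oadj C _)
      right_inv := fun k => Subtype.ext (oadj_oadj C _)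
      map_mul' := fun a b => Subtype.ext (by
        show oadj Q (a.1 * b.1) = oadj Q a.1 * oadj Q b.1
        rw [oadj_mul C, hK.comm _ (hadj _ b.2) _ (hadj _ a.2)])
      map_add' := fun a b => Subtype.ext (oadj_add _ _)
      commutes' := fun c => Subtype.ext (oadj_algebraMap C c) }
  have h2 : σ * σ = 1 := AlgEquiv.ext fun k => Subtype.ext (oadj_oadj C k.1)
  have hr' : σ ^ r = 1 := by
    rw [← hK.finrank_eq, ← IsGalois.card_aut_eq_finrank F K]
    exact pow_card_eq_one'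
  have h1 : σ = 1 := by
    obtain ⟨j, hj⟩ := hr
    rwa [hj, pow_succ, pow_mul, sq, h2, one_pow, one_mul] at hr'
  intro k hk
  exact congrArg Subtype.val (AlgEquiv.congr_fun h1 ⟨k, hk⟩)

/-- A group of scalars has only scalars in the centre of its commutant. -/
theorem bicomm_scalar_bot (h : N ≤ scalars ι F) : bicomm N = ⊥ := by
  have htop : Subalgebra.centralizer F (matrixSet N) = ⊤ := eq_top_iff.2 fun M _ => by
    rw [Subalgebra.mem_centralizer_iff]
    rintro _ ⟨g, hg, rfl⟩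
    obtain ⟨d, hd⟩ := (mem_scalars_iff g).1 (h hg)
    simp [hd]
  refine eq_bot_iff.2 fun X hX => ?_
  rw [bicomm, Algebra.mem_inf] at hX
  obtain ⟨c, hc⟩ := Matrix.mem_range_scalar_of_commute_single (M := X) (fun i j _ =>
    (Subalgebra.mem_centralizer_iff F).1 hX.2 (Matrix.single i j 1) (by rw [htop]; exact Algebra.mem_top))
  exact Algebra.mem_bot.2 ⟨c, hc⟩

/-- An endomorphism commuting with a field of half the dimension satisfies a quadratic relation over it. -/
theorem quad_relation {L : Type*} [Field L] [Algebra F L] [Finite L] [Finite F] (φ : L →ₐ[F] Matrix ι ι F)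
    (hdim : Fintype.card ι = 2 * finrank F L) {G : Matrix ι ι F} (hc : ∀ k, G * φ k = φ k * G) :
    ∃ a b : L, G * G + φ a * G + φ b = 0 := by
  letI : Module L (ι → F) := Module.compHom (ι → F)
    ((Matrix.toLinAlgEquiv' : Matrix ι ι F ≃ₐ[F] Module.End F (ι → F)).toAlgHom.comp φ).toRingHom
  have hsmul : ∀ (k : L) (v : ι → F), k • v = φ k *ᵥ v := fun k v => Matrix.toLin'_apply _ _
  haveI : IsScalarTower F L (ι → F) := ⟨fun c a v => by rw [hsmul, hsmul, map_smul, Matrix.smul_mulVec]⟩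
  haveI : Module.Finite L (ι → F) := Module.Finite.of_finite
  let f : (ι → F) →ₗ[L] (ι → F) :=
    { toFun := fun v => G *ᵥ v
      map_add' := Matrix.mulVec_add _
      map_smul' := fun k v => by
        show G *ᵥ (k • v) = k • (G *ᵥ v)
        rw [hsmul, hsmul, Matrix.mulVec_mulVec, Matrix.mulVec_mulVec, hc] }
  haveI : Module.Finite F L := Module.Finite.of_finite
  have hd : finrank L (ι → F) = 2 := by
    have h := Module.finrank_mul_finrank F L (ι → F)
    rw [finrank_fintype_fun_eq_card, hdim, mul_comm 2] at h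
    exact Nat.eq_of_mul_eq_mul_left Module.finrank_pos h
  have hdeg : f.charpoly.natDegree = 2 := by rw [LinearMap.charpoly_natDegree, hd]
  have h := LinearMap.aeval_self_charpoly f
  rw [Polynomial.aeval_eq_sum_range, hdeg, Finset.sum_range_succ, Finset.sum_range_succ,
    Finset.sum_range_one, show f.charpoly.coeff 2 = 1 from hdeg ▸ (LinearMap.charpoly_monic f).coeff_natDegree,
    one_smul, pow_zero, pow_one] at h
  refine ⟨f.charpoly.coeff 1, f.charpoly.coeff 0, Orth.mat_ext fun v => ?_⟩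
  have h1 := LinearMap.congr_fun h v
  rw [LinearMap.add_apply, LinearMap.add_apply, LinearMap.smul_apply, LinearMap.smul_apply,
    Module.End.one_apply, sq, Module.End.mul_apply, LinearMap.zero_apply, hsmul, hsmul] at h1
  rw [Matrix.zero_mulVec, Matrix.add_mulVec, Matrix.add_mulVec, ← Matrix.mulVec_mulVec,
    ← Matrix.mulVec_mulVec, ← h1]
  show G *ᵥ (G *ᵥ v) + _ + _ = _ + _ *ᵥ (G *ᵥ v) + G *ᵥ (G *ᵥ v)
  abel

/-- An isometry commuting with a self-adjoint field of half the dimension squares to one or has its trace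
in the field. -/
theorem sq_one_or_sum_mem [Finite F] [Nonempty ι] (C : Orth.Space Q B) (hK : IsFieldSubalgebra r K)
    (hcard : Fintype.card ι = 2 * r) (hsa : ∀ k ∈ K, oadj Q k = k) {g : GL ι F}
    (hg : g ∈ isometryGroup F Q) (hcomm : ∀ k ∈ K, g.val * k = k * g.val) :
    g * g = 1 ∨ g.val + (g⁻¹).val ∈ K := by
  haveI : Finite (Matrix ι ι F) := inferInstanceAs (Finite (ι → ι → F))
  have hquad : ∃ c1 ∈ K, ∃ c0 ∈ K, g.val * g.val + c1 * g.val + c0 = 0 := by
    letI := fieldOf hK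
    obtain ⟨a, b, hab⟩ := quad_relation (F := F) (L := K) K.val (G := g.val)
      (by rw [hcard, hK.finrank_eq]) (fun k => hcomm _ k.2)
    exact ⟨a.1, a.2, b.1, b.2, hab⟩
  obtain ⟨c1, hc1, c0, hc0, hq⟩ := hquad
  set G := g.val with hG
  set G' := (g⁻¹).val with hG'
  have hGG : G * G' = 1 := by rw [hG, hG', ← Units.val_mul, mul_inv_cancel, Units.val_one]
  have hadj : G' * G' + G' * c1 + c0 = 0 := by
    have := congrArg (oadj Q) hq
    rwa [oadj_add, oadj_add, oadj_mul C, oadj_mul C, oadj_of_mem C hg, hsa c1 hc1, hsa c0 hc0, oadj_zero] at this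
  have h3 : 1 + G * c1 + G * G * c0 = 0 := by
    calc 1 + G * c1 + G * G * c0 = G * (G * G') * G' + G * (G * G') * c1 + G * G * c0 := by
          rw [hGG, mul_one, hGG]
      _ = G * G * (G' * G' + G' * c1 + c0) := by simp only [mul_add, mul_assoc]
      _ = 0 := by rw [hadj, mul_zero]
  by_cases h0 : c0 = 1
  · right
    have h4 : G + G' = -c1 := by
      rw [h0] at hq
      have h5 : (G * G + c1 * G + 1) * G' = 0 := by rw [hq, zero_mul]
      rw [add_mul, add_mul, mul_assoc, hGG, mul_one, mul_assoc, hGG, mul_one, one_mul] at h5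
      rw [← sub_eq_zero, sub_neg_eq_add, ← h5]
      abel
    rw [h4]
    exact neg_mem hc1
  left
  have e1 : G * G * c0 = -(c1 * G) * c0 - c0 * c0 := by
    rw [show G * G = -(c1 * G) - c0 by rw [← sub_eq_zero, ← hq]; abel, sub_mul]
  have h5 : (1 - c0) * (c1 * G + (1 + c0)) = 0 := by
    rw [← h3, e1, hcomm c1 hc1, neg_mul, mul_assoc c1 G c0, hcomm c0 hc0, ← mul_assoc c1 c0 G,
      hK.comm c1 hc1 c0 hc0, mul_assoc c0 c1 G]
    noncomm_ring
  obtain ⟨y, hy, hy1⟩ := hK.inv (1 - c0) (sub_mem (one_mem K) hc0) (sub_ne_zero.2 (Ne.symm h0))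
  rw [hK.comm _ (sub_mem (one_mem K) hc0) y hy] at hy1
  have h6 : c1 * G + (1 + c0) = 0 := by
    calc c1 * G + (1 + c0) = y * (1 - c0) * (c1 * G + (1 + c0)) := by rw [hy1, one_mul]
      _ = 0 := by rw [mul_assoc, h5, mul_zero]
  refine Units.ext ?_
  show G * G = 1
  rw [← sub_eq_zero, show G * G - 1 = (G * G + c1 * G + c0) - (c1 * G + (1 + c0)) by abel, hq, h6, sub_zero]

theorem finrank_line (hK : IsFieldSubalgebra r K) {u : ι → F} (hu : u ≠ 0) :
    finrank F (LinearMap.range ((Matrix.mulVecBilin F F).flip u ∘ₗ K.val.toLinearMap)) = r := by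
  rw [LinearMap.finrank_range_of_inj, hK.finrank_eq]
  rw [injective_iff_map_eq_zero]
  intro k hk
  exact Subtype.ext (field_apply_eq_zero hK k.2 hu hk)

theorem mem_line {u x : ι → F} :
    x ∈ LinearMap.range ((Matrix.mulVecBilin F F).flip u ∘ₗ K.val.toLinearMap) ↔ ∃ k ∈ K, k *ᵥ u = x :=
  ⟨fun ⟨k, hk⟩ => ⟨k.1, k.2, hk⟩, fun ⟨k, hk, h⟩ => ⟨⟨k, hk⟩, h⟩⟩

/-- Two isometries commuting with a self-adjoint field of half the dimension and with traces in it commute
(odd characteristic). -/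
theorem trace_commute_odd [Finite F] [Nonempty ι] (C : Orth.Space Q B) (h2 : (2 : F) ≠ 0)
    (hK : IsFieldSubalgebra r K) (hcard : Fintype.card ι = 2 * r) (hsa : ∀ k ∈ K, oadj Q k = k)
    {g h : GL ι F} (hg : g ∈ isometryGroup F Q) (hh : h ∈ isometryGroup F Q)
    (hgc : ∀ k ∈ K, g.val * k = k * g.val) (hhc : ∀ k ∈ K, h.val * k = k * h.val)
    (hgs : g.val + (g⁻¹).val ∈ K) (hhs : h.val + (h⁻¹).val ∈ K) (hg2 : g * g ≠ 1) : g * h = h * g := by
  haveI : Finite (Matrix ι ι F) := inferInstanceAs (Finite (ι → ι → F))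
  obtain ⟨u, -, hQu⟩ := Orth.exists_nonsing C C.ndeg_top fun h => by
    have h1 := finrank_fintype_fun_eq_card F (η := ι)
    rw [← finrank_top, h, finrank_bot] at h1
    exact Fintype.card_ne_zero h1.symm
  have hu0 : u ≠ 0 := fun h => hQu (by rw [h, C.zero])
  let L := LinearMap.range ((Matrix.mulVecBilin F F).flip u ∘ₗ K.val.toLinearMap)
  let P := B.orthogonal L
  have hB := orth_space_nondegenerate C
  have hLd : finrank F L = r := finrank_line hK hu0
  have hPd : finrank F P = r := by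
    rw [LinearMap.BilinForm.finrank_orthogonal hB, finrank_fintype_fun_eq_card, hcard, hLd]
    omega
  have hPK : ∀ k ∈ K, ∀ p ∈ P, k *ᵥ p ∈ P := by
    intro k hk p hp x hx
    obtain ⟨j, hj, rfl⟩ := mem_line.1 hx
    show B (j *ᵥ u) (k *ᵥ p) = 0
    rw [← hsa k hk, ← oadj_spec C, Matrix.mulVec_mulVec]
    exact hp _ (mem_line.2 ⟨_, mul_mem hk hj, rfl⟩)
  have huL : u ∈ L := mem_line.2 ⟨1, one_mem K, Matrix.one_mulVec u⟩
  have huu : B u u ≠ 0 := by rw [C.self]; exact mul_ne_zero h2 hQu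
  have hdis : L ⊓ P = ⊥ := by
    refine (Submodule.eq_bot_iff _).2 fun x hx => ?_
    obtain ⟨k, hk, rfl⟩ := mem_line.1 hx.1
    by_contra hne
    obtain ⟨y, hy, hky⟩ := hK.inv k hk fun h => hne (by rw [h, Matrix.zero_mulVec])
    have h1 := hPK y hy _ hx.2
    rw [Matrix.mulVec_mulVec, hK.comm y hy k hk, hky, Matrix.one_mulVec] at h1
    exact huu (h1 u huL)
  have hsup : L ⊔ P = ⊤ := Submodule.eq_top_of_disjoint _ _
    (by rw [finrank_fintype_fun_eq_card, hcard, hLd, hPd]; omega) (disjoint_iff.2 hdis)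
  have hskew : ∀ D : Matrix ι ι F, oadj Q D = -D → (∀ k ∈ K, D * k = k * D) →
      ∀ (w : ι → F) (k : Matrix ι ι F), k ∈ K → B (D *ᵥ w) (k *ᵥ w) = 0 := by
    intro D hD hDc w k hk
    have h1 : B (D *ᵥ w) (k *ᵥ w) = -B (D *ᵥ w) (k *ᵥ w) := by
      conv_lhs => rw [oadj_spec C, hD, Matrix.neg_mulVec, map_neg, Matrix.mulVec_mulVec, hDc k hk,
        ← Matrix.mulVec_mulVec, ← hsa k hk, ← oadj_spec C, C.symm]
    exact (mul_eq_zero.1 (show (2 : F) * B (D *ᵥ w) (k *ᵥ w) = 0 by linear_combination h1)).resolve_left h2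
  have hXP : ∀ D : Matrix ι ι F, oadj Q D = -D → (∀ k ∈ K, D * k = k * D) → D *ᵥ u ∈ P := by
    intro D hD hDc x hx
    obtain ⟨k, hk, rfl⟩ := mem_line.1 hx
    show B (k *ᵥ u) (D *ᵥ u) = 0
    rw [C.symm, hskew D hD hDc u k hk]
  have hkill : ∀ D : Matrix ι ι F, oadj Q D = -D → (∀ k ∈ K, D * k = k * D) → D *ᵥ u = 0 → D = 0 := by
    intro D hD hDc hDu
    have hL0 : ∀ x ∈ L, D *ᵥ x = 0 := fun x hx => by
      obtain ⟨k, hk, rfl⟩ := mem_line.1 hx
      rw [Matrix.mulVec_mulVec, hDc k hk, ← Matrix.mulVec_mulVec, hDu, Matrix.mulVec_zero]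
    have hmem : ∀ p, D *ᵥ p ∈ P := fun p x hx => by
      show B x (D *ᵥ p) = 0
      rw [← neg_neg D, ← hD, Matrix.neg_mulVec, map_neg, ← oadj_spec C, hL0 x hx, map_zero,
        LinearMap.zero_apply, neg_zero]
    refine Orth.mat_ext fun v => ?_
    rw [Matrix.zero_mulVec]
    obtain ⟨a, ha, p, hp, rfl⟩ := Submodule.mem_sup.1 (hsup.symm ▸ Submodule.mem_top : v ∈ L ⊔ P)
    rw [Matrix.mulVec_add, hL0 a ha, zero_add]
    by_contra hne
    have hp0 : p ≠ 0 := fun h => hne (by rw [h, Matrix.mulVec_zero])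
    have hPline : P = LinearMap.range ((Matrix.mulVecBilin F F).flip p ∘ₗ K.val.toLinearMap) :=
      (Submodule.eq_of_le_of_finrank_le (fun x hx => by
        obtain ⟨k, hk, rfl⟩ := mem_line.1 hx
        exact hPK k hk p hp) (by rw [hPd, finrank_line hK hp0])).symm
    refine hne (C.nondeg' fun z => ?_)
    obtain ⟨a', ha', p', hp', rfl⟩ := Submodule.mem_sup.1 (hsup.symm ▸ Submodule.mem_top : z ∈ L ⊔ P)
    rw [map_add, C.symm, hmem p a' ha', zero_add]
    obtain ⟨k, hk, rfl⟩ := mem_line.1 (hPline ▸ hp')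
    exact hskew D hD hDc p k hk
  obtain ⟨X, hX⟩ : ∃ X, X = g.val - (g⁻¹).val := ⟨_, rfl⟩
  obtain ⟨Y, hY⟩ : ∃ Y, Y = h.val - (h⁻¹).val := ⟨_, rfl⟩
  have hinvc : ∀ {x : GL ι F}, (∀ k ∈ K, x.val * k = k * x.val) → ∀ k ∈ K, (x⁻¹).val * k = k * (x⁻¹).val :=
    fun {x} hx k hk => (Units.eq_mul_inv_iff_mul_eq x).2 (by
      rw [mul_assoc, ← hx k hk, ← mul_assoc, ← Units.val_mul, inv_mul_cancel, Units.val_one, one_mul])
  have hXc : ∀ k ∈ K, X * k = k * X := fun k hk => by rw [hX, sub_mul, mul_sub, hgc k hk, hinvc hgc k hk]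
  have hYc : ∀ k ∈ K, Y * k = k * Y := fun k hk => by rw [hY, sub_mul, mul_sub, hhc k hk, hinvc hhc k hk]
  have hXa : oadj Q X = -X := by
    rw [hX, oadj_sub, oadj_of_mem C hg, oadj_of_mem C (inv_mem hg), inv_inv, neg_sub]
  have hYa : oadj Q Y = -Y := by
    rw [hY, oadj_sub, oadj_of_mem C hh, oadj_of_mem C (inv_mem hh), inv_inv, neg_sub]
  have hXu : X *ᵥ u ≠ 0 := fun h0 => hg2 (by
    have h1 : g.val = (g⁻¹).val := sub_eq_zero.1 (hX ▸ hkill X hXa hXc h0)
    refine Units.ext ?_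
    rw [Units.val_mul]
    conv_lhs => arg 2; rw [h1]
    rw [← Units.val_mul, mul_inv_cancel])
  have hPline : P = LinearMap.range ((Matrix.mulVecBilin F F).flip (X *ᵥ u) ∘ₗ K.val.toLinearMap) :=
    (Submodule.eq_of_le_of_finrank_le (fun x hx => by
      obtain ⟨k, hk, rfl⟩ := mem_line.1 hx
      exact hPK k hk _ (hXP X hXa hXc)) (by rw [hPd, finrank_line hK hXu])).symm
  obtain ⟨a, ha, hau⟩ := mem_line.1 (hPline ▸ hXP Y hYa hYc)
  have hYX : Y = a * X := by
    refine sub_eq_zero.1 (hkill _ ?_ (fun k hk => ?_) ?_)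
    · rw [oadj_sub, hYa, oadj_mul C, hXa, hsa a ha, neg_mul, hXc a ha]
      abel
    · rw [sub_mul, mul_sub, hYc k hk, mul_assoc, hXc k hk, ← mul_assoc, hK.comm a ha k hk, mul_assoc]
    · rw [Matrix.sub_mulVec, ← Matrix.mulVec_mulVec, hau, sub_self]
  have hXY : X * Y = Y * X := by rw [hYX, ← mul_assoc, hXc a ha]
  have hg22 : g.val + g.val = (g.val + (g⁻¹).val) + X := by rw [hX]; abel
  have hh22 : h.val + h.val = (h.val + (h⁻¹).val) + Y := by rw [hY]; abel
  have h4 : (g.val + g.val) * (h.val + h.val) = (h.val + h.val) * (g.val + g.val) := by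
    rw [hg22, hh22]
    generalize g.val + (g⁻¹).val = S at hgs
    generalize h.val + (h⁻¹).val = T at hhs
    rw [add_mul, mul_add, mul_add, add_mul, mul_add, mul_add, hK.comm _ hgs _ hhs, hXY,
      ← hYc _ hgs, hXc _ hhs]
    abel
  refine Units.ext ?_
  show g.val * h.val = h.val * g.val
  rw [← two_smul F g.val, ← two_smul F h.val, smul_mul_smul_comm, smul_mul_smul_comm] at h4
  exact (IsUnit.mk0 _ (mul_ne_zero h2 h2)).smul_left_cancel.1 h4

/-- The same in even characteristic. -/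
theorem trace_commute_even [Finite F] [Nonempty ι] (C : Orth.Space Q B) (h2 : (2 : F) = 0)
    (hK : IsFieldSubalgebra r K) (hcard : Fintype.card ι = 2 * r) (hsa : ∀ k ∈ K, oadj Q k = k)
    {g h : GL ι F} (hg : g ∈ isometryGroup F Q) (hh : h ∈ isometryGroup F Q)
    (hgc : ∀ k ∈ K, g.val * k = k * g.val) (hhc : ∀ k ∈ K, h.val * k = k * h.val)
    (hgs : g.val + (g⁻¹).val ∈ K) (hhs : h.val + (h⁻¹).val ∈ K) (hg2 : g * g ≠ 1) (hh2 : h * h ≠ 1) :
    g * h = h * g := by
  haveI : Finite (Matrix ι ι F) := inferInstanceAs (Finite (ι → ι → F))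
  haveI : CharP F 2 := CharTwo.of_one_ne_zero_of_two_eq_zero one_ne_zero h2
  have hneg : ∀ M : Matrix ι ι F, -M = M := fun M => by
    rw [← neg_one_smul F M, show (-1 : F) = 1 by linear_combination -h2, one_smul]
  have hsq : ∀ k ∈ K, ∃ a ∈ K, a * a = k := by
    letI := fieldOf hK
    haveI : CharP K 2 := charP_of_injective_algebraMap (algebraMap F K).injective 2
    intro k hk
    obtain ⟨a, ha⟩ := Finite.surjective_of_injective (frobenius_inj K 2) ⟨k, hk⟩
    rw [frobenius_def, sq] at ha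
    exact ⟨a.1, a.2, congrArg Subtype.val ha⟩
  have hinvc : ∀ {x : GL ι F}, (∀ k ∈ K, x.val * k = k * x.val) → ∀ k ∈ K, (x⁻¹).val * k = k * (x⁻¹).val :=
    fun {x} hx k hk => (Units.eq_mul_inv_iff_mul_eq x).2 (by
      rw [mul_assoc, ← hx k hk, ← mul_assoc, ← Units.val_mul, inv_mul_cancel, Units.val_one, one_mul])
  have hunit : ∀ {x : GL ι F}, x.val + (x⁻¹).val ∈ K → x * x ≠ 1 →
      ∃ w ∈ K, w * (x.val + (x⁻¹).val) = 1 := fun {x} hxs hx2 => by
    obtain ⟨w, hw, hw1⟩ := hK.inv _ hxs fun h0 => hx2 (by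
      refine Units.ext ?_
      rw [Units.val_mul]
      conv_lhs => arg 2; rw [eq_neg_of_add_eq_zero_left h0, hneg]
      rw [← Units.val_mul, mul_inv_cancel])
    exact ⟨w, hw, by rw [hK.comm w hw _ hxs, hw1]⟩
  obtain ⟨w, hw, hw1⟩ := hunit hgs hg2
  obtain ⟨w', hw', hw'1⟩ := hunit hhs hh2
  have hQ : ∀ {x : GL ι F} {w : Matrix ι ι F}, x ∈ isometryGroup F Q → (∀ k ∈ K, x.val * k = k * x.val) →
      w ∈ K → w * (x.val + (x⁻¹).val) = 1 → ∀ v, B ((w * x.val) *ᵥ v) v = Q v := by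
    intro x w hx hxc hw hw1 v
    set y := w *ᵥ v with hy
    have hv : v = x.val *ᵥ y + (x⁻¹).val *ᵥ y := by
      rw [hy, ← Matrix.add_mulVec, Matrix.mulVec_mulVec, add_mul, hxc w hw, hinvc hxc w hw, ← mul_add, hw1,
        Matrix.one_mulVec]
    rw [← hxc w hw, ← Matrix.mulVec_mulVec, ← hy, hv, map_add, C.self, C.add, Orth.mem_iso.1 hx,
      Orth.mem_iso.1 (inv_mem hx)]
    ring
  set D := w * g.val - w' * h.val with hDdef
  have hwc : ∀ {x : GL ι F} {w : Matrix ι ι F}, (∀ k ∈ K, x.val * k = k * x.val) → w ∈ K →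
      ∀ k ∈ K, w * x.val * k = k * (w * x.val) := fun {x w} hxc hw k hk => by
    rw [mul_assoc, hxc k hk, ← mul_assoc, hK.comm w hw k hk, mul_assoc]
  have hDc : ∀ k ∈ K, D * k = k * D := fun k hk => by
    rw [hDdef, sub_mul, mul_sub, hwc hgc hw k hk, hwc hhc hw' k hk]
  have hadjw : ∀ {x : GL ι F} {w : Matrix ι ι F}, x ∈ isometryGroup F Q →
      (∀ k ∈ K, x.val * k = k * x.val) → w ∈ K → w * (x.val + (x⁻¹).val) = 1 →
      oadj Q (w * x.val) = 1 - w * x.val := fun {x w} hx hxc hw hw1 => by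
    rw [oadj_mul C, oadj_of_mem C hx, hsa w hw, hinvc hxc w hw, ← hw1, mul_add, add_sub_cancel_left]
  have hDa : oadj Q D = D := by
    rw [hDdef, oadj_sub, hadjw hg hgc hw hw1, hadjw hh hhc hw' hw'1, sub_sub_sub_cancel_left,
      ← neg_sub (w * g.val), hneg]
  have hDalt : ∀ k ∈ K, ∀ v, B ((k * D) *ᵥ v) v = 0 := by
    intro k hk v
    obtain ⟨a, ha, rfl⟩ := hsq k hk
    rw [mul_assoc, ← hDc a ha, ← Matrix.mulVec_mulVec, oadj_spec C, hsa a ha, ← Matrix.mulVec_mulVec, hDdef,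
      Matrix.sub_mulVec, map_sub, LinearMap.sub_apply, hQ hg hgc hw hw1, hQ hh hhc hw' hw'1, sub_self]
  have hKalt : ∀ k ∈ K, ∀ v, B (k *ᵥ v) v = 0 := by
    intro k hk v
    obtain ⟨a, ha, rfl⟩ := hsq k hk
    rw [← Matrix.mulVec_mulVec, oadj_spec C, hsa a ha, C.self, h2, zero_mul]
  have hB := orth_space_nondegenerate C
  have hline : ∀ v, v ≠ 0 → ∀ y, (∀ k ∈ K, B (k *ᵥ v) y = 0) → ∃ k ∈ K, k *ᵥ v = y := by
    intro v hv y hy
    let L := LinearMap.range ((Matrix.mulVecBilin F F).flip v ∘ₗ K.val.toLinearMap)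
    have heq : L = B.orthogonal L := Submodule.eq_of_le_of_finrank_le (fun x hx z hz => by
      obtain ⟨k, hk, rfl⟩ := mem_line.1 hx
      obtain ⟨j, hj, rfl⟩ := mem_line.1 hz
      show B (j *ᵥ v) (k *ᵥ v) = 0
      rw [← hsa k hk, ← oadj_spec C, Matrix.mulVec_mulVec]
      exact hKalt _ (mul_mem hk hj) v)
      (by
        rw [LinearMap.BilinForm.finrank_orthogonal hB, finrank_fintype_fun_eq_card, hcard, finrank_line hK hv]
        omega)
    refine mem_line.1 (show y ∈ L by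
      rw [heq]
      intro z hz
      obtain ⟨k, hk, rfl⟩ := mem_line.1 hz
      exact hy k hk)
  have hD' : ∀ v, v ≠ 0 → ∃ k ∈ K, k *ᵥ v = D *ᵥ v := fun v hv => hline v hv _ fun k hk => by
    rw [oadj_spec C, hsa k hk, Matrix.mulVec_mulVec, C.symm, hDalt k hk v]
  obtain ⟨u, hu⟩ : ∃ u : ι → F, u ≠ 0 := ⟨Pi.single (Classical.arbitrary ι) 1, by simp⟩
  obtain ⟨a, ha, hau⟩ := hD' u hu
  have hDK : D = a := by
    refine sub_eq_zero.1 (Orth.mat_ext fun v => ?_)
    rw [Matrix.zero_mulVec, Matrix.sub_mulVec]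
    by_cases hv : ∃ k ∈ K, k *ᵥ u = v
    · obtain ⟨k, hk, rfl⟩ := hv
      rw [Matrix.mulVec_mulVec, hDc k hk, ← Matrix.mulVec_mulVec, ← hau, Matrix.mulVec_mulVec,
        Matrix.mulVec_mulVec, hK.comm k hk a ha, sub_self]
    push Not at hv
    have hv0 : v ≠ 0 := fun h => hv 0 (zero_mem K) (by rw [h, Matrix.zero_mulVec])
    obtain ⟨b, hb, hbv⟩ := hD' v hv0
    have huv : v + u ≠ 0 := fun h => hv (-1) (neg_mem (one_mem K)) (by
      rw [Matrix.neg_mulVec, Matrix.one_mulVec, eq_neg_of_add_eq_zero_left h])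
    obtain ⟨c, hc, hcv⟩ := hD' _ huv
    rw [Matrix.mulVec_add, Matrix.mulVec_add, ← hau, ← hbv] at hcv
    have h1 : (c - b) *ᵥ v = (a - c) *ᵥ u := by
      rw [Matrix.sub_mulVec, Matrix.sub_mulVec, sub_eq_sub_iff_add_eq_add, hcv, add_comm]
    have hcb : c = b := by
      by_contra hne
      obtain ⟨y, hy, hy1⟩ := hK.inv (c - b) (sub_mem hc hb) (sub_ne_zero.2 hne)
      refine hv (y * (a - c)) (mul_mem hy (sub_mem ha hc)) ?_
      rw [← Matrix.mulVec_mulVec, ← h1, Matrix.mulVec_mulVec, hK.comm y hy _ (sub_mem hc hb), hy1,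
        Matrix.one_mulVec]
    rw [hcb, sub_self, Matrix.zero_mulVec] at h1
    have hab := field_apply_eq_zero hK (sub_mem ha hb) hu h1.symm
    rw [← hbv, sub_eq_zero.1 hab, sub_self]
  refine Units.ext ?_
  show g.val * h.val = h.val * g.val
  have hgK : g.val = (g.val + (g⁻¹).val) * (a + w' * h.val) := by
    rw [← hDK, hDdef, sub_add_cancel, ← mul_assoc, hK.comm _ hgs w hw, hw1, one_mul]
  have e : h.val * (a + w' * h.val) = (a + w' * h.val) * h.val := by
    rw [mul_add, add_mul, hhc a ha, ← mul_assoc, hhc w' hw']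
  rw [hgK, mul_assoc, ← e, ← mul_assoc, ← mul_assoc, hhc _ hgs]

/-- The degree of a self-adjoint field with alternating forms divides half the dimension. -/
theorem selfAdjoint_half_dvd [Fintype F] {m : ℕ} (C : Orth.Space Q B) (hcard : Fintype.card ι = 2 * m)
    (hK : IsFieldSubalgebra r K) (hsa : ∀ k ∈ K, oadj Q k = k) (halt : ∀ k ∈ K, ∀ v, B (k *ᵥ v) v = 0) :
    r ∣ m := by
  classical
  have hB := orth_space_nondegenerate C
  let good : Submodule F (ι → F) → Prop := fun L =>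
    L ≤ B.orthogonal L ∧ (∀ k ∈ K, ∀ v ∈ L, k *ᵥ v ∈ L) ∧ r ∣ finrank F L
  obtain ⟨L, ⟨hts, hinv, hdvd⟩, hmax⟩ : ∃ L, good L ∧ ∀ L', good L' → finrank F L' ≤ finrank F L := by
    haveI : Finite (Submodule F (ι → F)) := Finite.of_injective _ SetLike.coe_injective
    obtain ⟨L, hL, hmax⟩ := Set.exists_max_image {L | good L} (fun L => finrank F L) (Set.toFinite _)
      ⟨⊥, bot_le, fun k _ v hv => by rw [Submodule.mem_bot] at hv; rw [hv, Matrix.mulVec_zero]; exact zero_mem _,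
        by simp⟩
    exact ⟨L, hL, hmax⟩
  by_cases heq : L = B.orthogonal L
  · have h1 := LinearMap.BilinForm.finrank_orthogonal hB L
    rw [← heq, finrank_fintype_fun_eq_card, hcard] at h1
    have h2 := Submodule.finrank_le L
    rw [finrank_fintype_fun_eq_card, hcard] at h2
    rwa [show m = finrank F L by omega]
  exfalso
  obtain ⟨v, hv, hvL⟩ := SetLike.exists_of_lt (lt_of_le_of_ne hts heq)
  have hv0 : v ≠ 0 := fun h => hvL (h ▸ zero_mem L)
  let M := LinearMap.range ((Matrix.mulVecBilin F F).flip v ∘ₗ K.val.toLinearMap)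
  have hdisj : L ⊓ M = ⊥ := by
    rw [eq_bot_iff]
    rintro x ⟨hx, hx'⟩
    obtain ⟨k, hk, rfl⟩ := mem_line.1 hx'
    by_contra hne
    obtain ⟨y, hy, hky⟩ := hK.inv k hk fun h => hne (by rw [Submodule.mem_bot, h, Matrix.zero_mulVec])
    refine hvL ?_
    have h1 := hinv y hy _ hx
    rwa [Matrix.mulVec_mulVec, hK.comm y hy k hk, hky, Matrix.one_mulVec] at h1
  have hgood : good (L ⊔ M) := by
    refine ⟨fun x hx z hz => ?_, fun k hk x hx => ?_, ?_⟩
    · obtain ⟨l, hl, _, hm, rfl⟩ := Submodule.mem_sup.1 hz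
      obtain ⟨l', hl', _, hm', rfl⟩ := Submodule.mem_sup.1 hx
      obtain ⟨k, hk, rfl⟩ := mem_line.1 hm
      obtain ⟨k', hk', rfl⟩ := mem_line.1 hm'
      have h1 : ∀ x ∈ L, ∀ j ∈ K, B x (j *ᵥ v) = 0 := fun x hx j hj => by
        rw [← hsa j hj, ← oadj_spec C]
        exact hv _ (hinv j hj x hx)
      show B (l + k *ᵥ v) (l' + k' *ᵥ v) = 0
      rw [map_add, map_add, LinearMap.add_apply, LinearMap.add_apply, hts hl' l hl, h1 l hl k' hk',
        C.symm (k *ᵥ v) l', h1 l' hl' k hk, ← hsa k' hk', ← oadj_spec C, Matrix.mulVec_mulVec,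
        halt _ (mul_mem hk' hk) v]
      simp
    · obtain ⟨l, hl, _, hm, rfl⟩ := Submodule.mem_sup.1 hx
      obtain ⟨j, hj, rfl⟩ := mem_line.1 hm
      rw [Matrix.mulVec_add]
      exact add_mem (Submodule.mem_sup_left (hinv k hk l hl))
        (Submodule.mem_sup_right (mem_line.2 ⟨k * j, mul_mem hk hj, (Matrix.mulVec_mulVec v k j).symm⟩))
    · have h1 := Submodule.finrank_sup_add_finrank_inf_eq L M
      rw [hdisj, finrank_bot, add_zero, finrank_line hK hv0] at h1
      rw [h1]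
      exact dvd_add hdvd dvd_rfl
  have h1 := hmax _ hgood
  have h2 := Submodule.finrank_lt_finrank_of_lt (show L < L ⊔ M from lt_of_le_of_ne le_sup_left fun h =>
    hvL (h.symm ▸ Submodule.mem_sup_right (mem_line.2 ⟨1, one_mem K, Matrix.one_mulVec v⟩)))
  omega

end Cfsg.Lib.Linear.AschOrth
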