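import Cfsg.Agent.Lib.Linear.AschOrth.EvenReducible
import Cfsg.Agent.Lib.Linear.FrameNotMax
import Cfsg.Agent.Lib.Linear.AschGen.Descent

/-!
# Imprimitive subgroups of even-dimensional orthogonal groups
-/

set_option autoImplicit false
set_option linter.unusedSectionVars false
set_option linter.style.haveILetI false

namespace Cfsg.Lib.Linear.AschOrth

open Cfsg.Geo Cfsg.Lib.Linear Cfsg.Lib.Linear.Asch Cfsg.Lib.Linear.AschGen Module
open scoped Matrix MatrixGroups

variable {ι : Type} [Fintype ι] [DecidableEq ι] {F : Type*} [Field F]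
  {Q : (ι → F) → F} {B : LinearMap.BilinForm F (ι → F)} {H : Subgroup (GL ι F)}

/-- A family of orthogonal non-degenerate subspaces of the right dimensions decomposes the space. -/
theorem ndeg_family_decomp (C : Orth.Space Q B) {t m : ℕ} (ht : 2 ≤ t) (hm : 0 < m)
    (hcard : Fintype.card ι = t * m) {D : Fin t → Submodule F (ι → F)} (hd : ∀ i, finrank F (D i) = m)
    (hn : ∀ i, Orth.NDeg B (D i)) (ho : ∀ i j, i ≠ j → ∀ x ∈ D i, ∀ y ∈ D j, B x y = 0) :
    IsNondegenerateMDecomposition (QuadraticMap.polar Q) m D := by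
  classical
  refine ⟨⟨ht, hm, hd, ?_, ?_⟩, fun i => Orth.geo_of_ndeg C (hn i), fun i j hij u hu v hv => by
    rw [C.polar]; exact ho i j hij u hu v hv⟩
  · rw [iSupIndep_def]
    intro i
    rw [Submodule.disjoint_def]
    intro x hx hx'
    refine hn i x hx fun y hy => ?_
    have h' : (⨆ j, ⨆ (_ : j ≠ i), D j) ≤ LinearMap.ker (B y) :=
      iSup₂_le fun j hj z hz => ho i j hj.symm y hy z hz
    rw [C.symm]
    exact LinearMap.mem_ker.1 (h' hx')
  · have key : ∀ s : Finset (Fin t), Orth.NDeg B (s.sup D) ∧ finrank F ↥(s.sup D) = s.card * m := by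
      intro s
      induction s using Finset.induction_on with
      | empty => simpa using NondegFix.ndeg_bot
      | insert i s hi ih =>
        have horth : ∀ x ∈ D i, ∀ y ∈ s.sup D, B x y = 0 := fun x hx y hy =>
          LinearMap.mem_ker.1 ((Finset.sup_le fun j hj z hz =>
            LinearMap.mem_ker.2 (ho i j (fun h => hi (h ▸ hj)) x hx z hz) : s.sup D ≤ LinearMap.ker (B x)) hy)
        obtain ⟨h1, h2⟩ := NondegFix.ndeg_sup C (hn i) ih.1 horth
        rw [Finset.sup_insert, Finset.card_insert_of_notMem hi]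
        exact ⟨h1, by rw [h2, ih.2, hd]; ring⟩
    rw [← Finset.sup_univ_eq_iSup]
    refine Submodule.eq_top_of_finrank_eq ?_
    rw [(key _).2, Finset.card_univ, Fintype.card_fin, finrank_fintype_fun_eq_card, hcard]

theorem le_decomp_of_maps {t m : ℕ} {D : Fin t → Submodule F (ι → F)} (hD : IsMDecomposition m D)
    (h : ∀ g ∈ H, ∀ i, ∃ j, ∀ x ∈ D i, g.val *ᵥ x ∈ D j) : H ≤ decompositionStabilizer D := by
  classical
  intro g hg
  choose σ hσ using h g hg
  have hinj' : Function.Injective (Matrix.toLin' g.val) := fun a c hac => by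
    rw [Matrix.toLin'_apply, Matrix.toLin'_apply] at hac
    simpa only [inv_mulVec_mulVec] using congrArg ((g⁻¹).val *ᵥ ·) hac
  have hmap : ∀ i, (D i).map (Matrix.toLin' g.val) = D (σ i) := fun i =>
    Submodule.eq_of_le_of_finrank_le (by
      rintro _ ⟨x, hx, rfl⟩
      rw [Matrix.toLin'_apply]
      exact hσ i x hx)
      (le_of_eq (by rw [← (Submodule.equivMapOfInjective _ hinj' _).finrank_eq, hD.finrank_eq, hD.finrank_eq]))
  have hinj : Function.Injective σ := fun i j hij => by
    by_contra hne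
    have h1 : D i = D j := Submodule.map_injective_of_injective hinj' (by rw [hmap, hmap, hij])
    have h2 : Disjoint (D i) (D j) := hD.indep.pairwiseDisjoint hne
    rw [h1, disjoint_self] at h2
    have h3 := hD.finrank_eq j
    rw [h2, finrank_bot] at h3
    exact hD.pos.ne h3
  exact ⟨Equiv.ofBijective σ (Finite.injective_iff_bijective.1 hinj), hmap⟩

/-- A complete system of idempotents permuted transitively. -/
structure Sys (H : Subgroup (GL ι F)) {t : ℕ} (e : Fin t → Matrix ι ι F) : Prop where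
  idem : CompleteOrthogonalIdempotents e
  ne : ∀ i, e i ≠ 0
  perm : ∀ h ∈ H, ∀ i, ∃ j, conjA h (e i) = e j
  trans : ∀ i j, ∃ h ∈ H, conjA h (e i) = e j

theorem conj_maps {h : GL ι F} {E E' : Matrix ι ι F} (he : conjA h E = E') {x : ι → F}
    (hx : x ∈ LinearMap.range (Matrix.toLin' E)) : h.val *ᵥ x ∈ LinearMap.range (Matrix.toLin' E') := by
  obtain ⟨u, rfl⟩ := range_toLin'_mem.1 hx
  exact range_toLin'_mem.2 ⟨h.val *ᵥ u, by
    rw [← he, conjA_apply, ← Matrix.mulVec_mulVec, ← Matrix.mulVec_mulVec, inv_mulVec_mulVec]⟩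

theorem conj_map_range {h : GL ι F} {E E' : Matrix ι ι F} (he : conjA h E = E') :
    (LinearMap.range (Matrix.toLin' E)).map (Matrix.toLin' h.val) = LinearMap.range (Matrix.toLin' E') := by
  refine le_antisymm ?_ ?_
  · rintro _ ⟨x, hx, rfl⟩
    rw [Matrix.toLin'_apply]
    exact conj_maps he hx
  · intro y hy
    have he' : conjA h⁻¹ E' = E := by rw [← he, conjA_inv]
    exact ⟨_, conj_maps he' hy, by rw [Matrix.toLin'_apply, mulVec_inv_mulVec]⟩

/-- Self-adjoint idempotents give an orthogonal decomposition. -/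
theorem Sys.orth_decomp (C : Orth.Space Q B) {t : ℕ} {e : Fin t → Matrix ι ι F} (hH : H ≤ isometryGroup F Q)
    (S : Sys H e) (ht : 2 ≤ t) (hadj : ∀ i, oadj Q (e i) = e i) :
    ∃ m, IsOrthogonalMDecomposition Q m (fun i => LinearMap.range (Matrix.toLin' (e i))) ∧
      H ≤ decompositionStabilizer (fun i => LinearMap.range (Matrix.toLin' (e i))) := by
  classical
  set D := fun i => LinearMap.range (Matrix.toLin' (e i)) with hDdef
  have hiso : ∀ i j, AreIsometricFor Q (D i) (D j) := fun i j => by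
    obtain ⟨h, hh, he⟩ := S.trans i j
    exact isometric_of_move (hH hh) (conj_map_range he)
  have hfix : ∀ i, ∀ x ∈ D i, e i *ᵥ x = x := fun i x hx => by
    obtain ⟨u, rfl⟩ := range_toLin'_mem.1 hx
    rw [Matrix.mulVec_mulVec, (S.idem.idem i).eq]
  have hn : ∀ i, Orth.NDeg B (D i) := by
    intro i x hx h
    refine C.nondeg' fun u => ?_
    rw [← hfix i x hx, oadj_spec C, hadj]
    exact h _ (range_toLin'_mem.2 ⟨u, rfl⟩)
  have ho : ∀ i j, i ≠ j → ∀ x ∈ D i, ∀ y ∈ D j, B x y = 0 := by
    intro i j hij x hx y hy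
    rw [← hfix i x hx, oadj_spec C, hadj, ← hfix j y hy, Matrix.mulVec_mulVec, S.idem.ortho hij,
      Matrix.zero_mulVec, map_zero]
  let i0 : Fin t := ⟨0, by omega⟩
  have hd : ∀ i, finrank F (D i) = finrank F (D i0) := fun i => finrank_eq_of_isometric (hiso i i0)
  have hpos : 0 < finrank F (D i0) := Nat.pos_of_ne_zero fun h0 => S.ne i0 (by
    rw [Submodule.finrank_eq_zero, LinearMap.range_eq_bot, LinearEquiv.map_eq_zero_iff] at h0
    exact h0)
  have hcard : Fintype.card ι = t * finrank F (D i0) := by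
    let L : (ι → F) ≃ₗ[F] (Π i, D i) :=
      { toFun := fun v i => ⟨e i *ᵥ v, range_toLin'_mem.2 ⟨v, rfl⟩⟩
        map_add' := fun u v => funext fun i => Subtype.ext (by simp [Matrix.mulVec_add])
        map_smul' := fun c v => funext fun i => Subtype.ext (by simp [Matrix.mulVec_smul])
        invFun := fun x => ∑ i, (x i : ι → F)
        left_inv := fun v => by
          show ∑ i, e i *ᵥ v = v
          rw [← Matrix.sum_mulVec, S.idem.complete, Matrix.one_mulVec]
        right_inv := fun x => funext fun i => Subtype.ext (by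
          show e i *ᵥ (∑ j, (x j : ι → F)) = x i
          rw [Matrix.mulVec_sum, Finset.sum_eq_single i (fun j _ hj => ?_) (by simp), hfix i _ (x i).2]
          rw [← hfix j _ (x j).2, Matrix.mulVec_mulVec, S.idem.ortho (Ne.symm hj), Matrix.zero_mulVec]) }
    have h1 := L.finrank_eq
    rw [finrank_fintype_fun_eq_card, Module.finrank_pi_fintype, Finset.sum_congr rfl fun i _ => hd i,
      Finset.sum_const, Finset.card_univ, Fintype.card_fin, smul_eq_mul] at h1
    exact h1
  have hdec := ndeg_family_decomp C ht hpos hcard hd hn ho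
  refine ⟨_, ⟨hdec, hiso⟩, le_decomp_of_maps hdec.decomp fun g hg i => ?_⟩
  obtain ⟨j, hj⟩ := S.perm g hg i
  exact ⟨j, fun x hx => conj_maps hj hx⟩

/-- An irreducible imprimitive group of isometries fixes an orthogonal decomposition or a pair of totally
singular halves. -/
theorem imprimitive_even [Finite F] (C : Orth.Space Q B) (h4 : 4 ≤ Fintype.card ι)
    (hH : H ≤ isometryGroup F Q) (hirr : ActsIrreducibly (matrixSet H)) (himp : Imprimitive H) :
    (∃ (t m : ℕ) (D : Fin t → Submodule F (ι → F)), 2 ≤ t ∧ t * m = Fintype.card ι ∧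
      IsOrthogonalMDecomposition Q m D ∧ H ≤ decompositionStabilizer D) ∨
    (∃ (k : ℕ) (D : Fin 2 → Submodule F (ι → F)), 2 * k = Fintype.card ι ∧ IsMDecomposition k D ∧
      (∀ i, IsTotallySingularQuad Q (D i)) ∧ H ≤ decompositionStabilizer D) := by
  classical
  obtain ⟨N, t, e, ht, hN, hs⟩ := himp
  choose π hπ using idem_adj C (hN.le.trans hH) hs
  have hinj : Function.Injective e := fun i j hij => by
    by_contra hne
    have := hs.idem.ortho hne
    simp only at this
    rw [← hij, (hs.idem.idem i).eq] at this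
    exact hs.ne_zero i this
  have hππ : ∀ i, π (π i) = i := fun i => hinj (by rw [← hπ, ← hπ, oadj_oadj C])
  by_cases hfix : ∃ i, π i = i
  · obtain ⟨i₀, hi₀⟩ := hfix
    have hall : ∀ j, oadj Q (e j) = e j := fun j => by
      obtain ⟨h, hh, he⟩ := hs.trans i₀ j
      rw [← he, oadj_conj C (hH hh), hπ, hi₀]
    obtain ⟨m, hm, hle⟩ := idem_orth_decomp C hH hs ht hall
    exact Or.inl ⟨t, m, _, ht, decomp_card hm.decomp.decomp, hm, hle⟩
  push Not at hfix
  rcases Nat.lt_or_ge 2 t with h3 | h2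
  · let T := Finset.univ.filter fun i => i < π i
    have hpair : ∀ i, i ∈ T ↔ π i ∉ T := fun i => by
      simp only [T, Finset.mem_filter, Finset.mem_univ, true_and, hππ]
      have := hfix i
      omega
    let c := T.equivFin.symm
    let e' : Fin T.card → Matrix ι ι F := fun b => e (c b).1 + e (π (c b).1)
    have hdis : ∀ b b', b ≠ b' → (c b).1 ≠ (c b').1 ∧ (c b).1 ≠ π (c b').1 ∧
        π (c b).1 ≠ (c b').1 ∧ π (c b).1 ≠ π (c b').1 := by
      intro b b' hbb
      have h1 : (c b).1 ≠ (c b').1 := fun h => hbb (c.injective (Subtype.ext h))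
      refine ⟨h1, fun h => (hpair _).1 (c b').2 (h ▸ (c b).2), fun h => (hpair _).1 (c b).2 (h ▸ (c b').2),
        fun h => h1 ?_⟩
      rw [← hππ (c b).1, h, hππ]
    have hrep : ∀ i, ∃ b, e i + e (π i) = e' b := by
      intro i
      by_cases hi : i ∈ T
      · exact ⟨c.symm ⟨i, hi⟩, by simp [e']⟩
      · have hi' : π i ∈ T := by rwa [hpair, hππ]
        exact ⟨c.symm ⟨π i, hi'⟩, by simp [e', hππ, add_comm]⟩
    have hcard : 2 ≤ T.card := by
      by_contra hlt
      have hle1 : T.card ≤ 1 := by omega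
      have hc2 : (Finset.univ : Finset (Fin t)).card ≤ T.card + T.card := by
        calc (Finset.univ : Finset (Fin t)).card ≤ (T ∪ T.image π).card := Finset.card_le_card (fun i _ => by
              rw [Finset.mem_union, Finset.mem_image]
              by_cases hi : i ∈ T
              · exact Or.inl hi
              · exact Or.inr ⟨π i, by rwa [hpair, hππ], hππ i⟩)
          _ ≤ T.card + (T.image π).card := Finset.card_union_le _ _
          _ ≤ T.card + T.card := Nat.add_le_add_left Finset.card_image_le _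
      rw [Finset.card_univ, Fintype.card_fin] at hc2
      omega
    have hπh : ∀ h ∈ H, ∀ i j, conjA h (e i) = e j → conjA h (e (π i)) = e (π j) :=
      fun h hh i j he => by rw [← hπ, ← hπ, ← he, oadj_conj C (hH hh)]
    have ho : ∀ i j, i ≠ j → e i * e j = 0 := fun i j hij => hs.idem.ortho hij
    have S' : Sys H e' := by
      refine ⟨⟨⟨fun b => ?_, fun b b' hbb => ?_⟩, ?_⟩, fun b h0 => ?_, fun h hh b => ?_, fun b b' => ?_⟩
      · show e' b * e' b = e' b
        simp only [e', Matrix.add_mul, Matrix.mul_add, (hs.idem.idem _).eq, ho _ _ (hfix _),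
          ho _ _ (hfix _).symm, add_zero, zero_add]
      · obtain ⟨h1, h2, h3, h4⟩ := hdis b b' hbb
        show e' b * e' b' = 0
        simp only [e', Matrix.add_mul, Matrix.mul_add, ho _ _ h1, ho _ _ h2, ho _ _ h3, ho _ _ h4, add_zero]
      · rw [← hs.idem.complete]
        simp only [e']
        rw [Finset.sum_add_distrib]
        have e1 : ∑ b, e (c b).1 = ∑ i ∈ T, e i := by
          rw [Equiv.sum_comp c (fun i : T => e i.1), Finset.sum_coe_sort]
        have e2 : ∑ b, e (π (c b).1) = ∑ i ∈ Tᶜ, e i := by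
          rw [Equiv.sum_comp c (fun i : T => e (π i.1)), Finset.sum_coe_sort (f := fun i => e (π i))]
          refine Finset.sum_nbij' π π (fun i hi => ?_) (fun i hi => ?_) (fun i _ => hππ i) (fun i _ => hππ i)
            (fun i _ => rfl)
          · simp only [Finset.mem_coe, Finset.mem_compl] at hi ⊢; exact (hpair i).1 hi
          · simp only [Finset.mem_coe, Finset.mem_compl] at hi ⊢; rwa [hpair, hππ]
        rw [e1, e2, Finset.sum_add_sum_compl]
      · have h1 := congrArg (fun z => e (c b).1 * z) h0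
        simp only [e', Matrix.mul_add, (hs.idem.idem _).eq, ho _ _ (hfix _).symm, add_zero,
          Matrix.mul_zero] at h1
        exact hs.ne_zero _ h1
      · obtain ⟨σ, hσ⟩ := hs.perm h hh
        obtain ⟨b', hb'⟩ := hrep (σ (c b).1)
        exact ⟨b', by show conjA h (e _ + e _) = _; rw [map_add, hπh h hh _ _ (hσ _), hσ]; exact hb'⟩
      · obtain ⟨h, hh, he⟩ := hs.trans (c b).1 (c b').1
        exact ⟨h, hh, by simp only [e', map_add, he, hπh h hh _ _ he]⟩
    obtain ⟨m, hm, hle⟩ := S'.orth_decomp C hH hcard fun b => by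
      simp only [e']; rw [oadj_add, hπ, hπ, hππ, add_comm]
    exact Or.inl ⟨_, m, _, hcard, decomp_card hm.decomp.decomp, hm, hle⟩
  obtain rfl : t = 2 := by omega
  obtain ⟨k, hk, hle⟩ := hs.mDecomposition ht
  have hkn := decomp_card hk
  refine Or.inr ⟨k, _, hkn, hk, ?_, hle⟩
  set D := fun i => LinearMap.range (Matrix.toLin' (e i)) with hDdef
  have hB : ∀ i, ∀ x ∈ D i, ∀ y ∈ D i, B x y = 0 := by
    intro i x hx y hy
    obtain ⟨u, rfl⟩ := range_toLin'_mem.1 hx
    obtain ⟨v, rfl⟩ := range_toLin'_mem.1 hy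
    rw [oadj_spec C, hπ, Matrix.mulVec_mulVec, hs.idem.ortho (hfix i), Matrix.zero_mulVec, map_zero]
  by_cases h2F : (2 : F) = 0
  swap
  · intro i x hx
    have h1 := hB i x hx x hx
    rw [C.self] at h1
    exact (mul_eq_zero.1 h1).resolve_left h2F
  haveI : CharP F 2 := CharTwo.of_one_ne_zero_of_two_eq_zero one_ne_zero h2F
  let K : Fin 2 → Submodule F (ι → F) := fun i =>
    { carrier := {x | x ∈ D i ∧ Q x = 0}
      add_mem' := fun {x y} hx hy =>
        ⟨(D i).add_mem hx.1 hy.1, by rw [C.add, hx.2, hy.2, hB i x hx.1 y hy.1, add_zero, add_zero]⟩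
      zero_mem' := ⟨(D i).zero_mem, C.zero⟩
      smul_mem' := fun c x hx => ⟨(D i).smul_mem c hx.1, by rw [C.smul, hx.2, mul_zero]⟩ }
  have hKne : K 0 ≠ ⊥ := by
    intro h0
    have hk2 : 2 ≤ finrank F (D 0) := by rw [hk.finrank_eq]; omega
    obtain ⟨v, hv, hv0⟩ := Submodule.exists_mem_ne_zero_of_ne_bot (p := D 0)
      (fun h => by rw [h, finrank_bot] at hk2; omega)
    have hQv : Q v ≠ 0 := fun h => hv0 ((Submodule.mem_bot F).1 (h0 ▸ (⟨hv, h⟩ : v ∈ K 0)))
    have hspan : D 0 ≤ Submodule.span F {v} := by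
      intro x hx
      obtain ⟨c, hc⟩ := Finite.surjective_of_injective (frobenius_inj F 2) (Q x / Q v)
      rw [frobenius_def] at hc
      have hmem : x - c • v ∈ K 0 := by
        refine ⟨(D 0).sub_mem hx ((D 0).smul_mem c hv), ?_⟩
        rw [sub_eq_add_neg, ← neg_smul, C.add, C.smul, map_smul, hB 0 x hx v hv, smul_zero, add_zero, neg_sq, hc,
          div_mul_cancel₀ _ hQv]
        linear_combination (Q x) * h2F
      rw [h0, Submodule.mem_bot, sub_eq_zero] at hmem
      exact Submodule.mem_span_singleton.2 ⟨c, hmem.symm⟩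
    have := (Submodule.finrank_mono hspan).trans_eq (finrank_span_singleton hv0)
    omega
  have hinv : InvSub H (⨆ i, K i) := by
    intro g hg w hw
    obtain ⟨σ, hσ⟩ := hle hg
    have hmap : (⨆ i, K i) ≤ (⨆ i, K i).comap (Matrix.toLin' g.val) := iSup_le fun i x hx => by
      rw [Submodule.mem_comap, Matrix.toLin'_apply]
      refine Submodule.mem_iSup_of_mem (σ i) ⟨?_, by rw [Orth.mem_iso.1 (hH hg)]; exact hx.2⟩
      rw [← hσ i]
      exact ⟨x, hx.1, Matrix.toLin'_apply _ _⟩
    exact hmap hw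
  rcases irr_iff.1 hirr _ hinv with h | h
  · exact absurd (eq_bot_iff.2 (h ▸ le_iSup K 0)) hKne
  intro i x hx
  have hle2 : (⨆ j, K j) ≤ K 0 ⊔ K 1 := iSup_le fun j => by
    fin_cases j
    exacts [le_sup_left, le_sup_right]
  obtain ⟨a, ha, b, hb, rfl⟩ := Submodule.mem_sup.1 (hle2 (h ▸ trivial) : x ∈ K 0 ⊔ K 1)
  have hdis : D 0 ⊓ D 1 = ⊥ := disjoint_iff.1 (hk.indep.pairwiseDisjoint (show (0 : Fin 2) ≠ 1 by decide))
  fin_cases i
  · have hb0 : b = 0 := by
      have : b ∈ D 0 ⊓ D 1 := ⟨by simpa using (D 0).sub_mem hx ha.1, hb.1⟩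
      rwa [hdis, Submodule.mem_bot] at this
    rw [hb0, add_zero]
    exact ha.2
  · have ha0 : a = 0 := by
      have : a ∈ D 0 ⊓ D 1 := ⟨ha.1, by simpa using (D 1).sub_mem hx hb.1⟩
      rwa [hdis, Submodule.mem_bot] at this
    rw [ha0, zero_add]
    exact hb.2

/-- A frame of one block is carried to all blocks. -/
theorem transport_frame (C : Orth.Space Q B) {t m k : ℕ} {D : Fin t → Submodule F (ι → F)}
    (hD : IsOrthogonalMDecomposition Q k D) (i0 : Fin t) (b : Fin m → ι → F) (hb : ∀ j, b j ∈ D i0)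
    {c : Fin m → F} (hbc : ∀ j l, B (b j) (b l) = if j = l then c j else 0) :
    ∃ v : Fin t → Fin m → ι → F, (∀ i j, v i j ∈ D i) ∧ (∀ i j, Q (v i j) = Q (b j)) ∧
      ∀ p q : Fin t × Fin m, B (v p.1 p.2) (v q.1 q.2) = if p = q then c p.2 else 0 := by
  classical
  choose e he using fun i => hD.isometric i0 i
  refine ⟨fun i j => ((e i ⟨b j, hb j⟩ : D i) : ι → F), fun i j => (e i _).2, fun i j => he i _, ?_⟩
  rintro ⟨i, j⟩ ⟨i', l⟩
  by_cases hi : i = i'
  swap
  · rw [if_neg (fun h => hi (congrArg Prod.fst h)), ← C.polar]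
    exact hD.decomp.orthogonal i i' hi _ (e i _).2 _ (e i' _).2
  subst hi
  have h1 := he i (⟨b j, hb j⟩ + ⟨b l, hb l⟩)
  rw [map_add, Submodule.coe_add, Submodule.coe_add, C.add, C.add, he i ⟨b j, hb j⟩, he i ⟨b l, hb l⟩,
    add_right_inj, hbc] at h1
  show B ((e i ⟨b j, hb j⟩ : D i) : ι → F) ((e i ⟨b l, hb l⟩ : D i) : ι → F) = _
  simp only [h1, Prod.mk.injEq, true_and]

/-- Non-degenerate blocks of odd dimension have frames with a single value. -/
theorem blocks_frame [Finite F] (C : Orth.Space Q B) (h2 : (2 : F) ≠ 0) {t m : ℕ}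
    {D : Fin t → Submodule F (ι → F)} (hD : IsOrthogonalMDecomposition Q m D) (hm : Odd m) :
    ∃ (v : Fin t × Fin m → ι → F) (c : F), c ≠ 0 ∧ (∀ p, v p ∈ D p.1) ∧
      ∀ p q, B (v p) (v q) = if p = q then c else 0 := by
  classical
  have ht := hD.decomp.decomp.two_le
  let i0 : Fin t := ⟨0, by omega⟩
  obtain ⟨k, rfl⟩ := hm
  let BU : LinearMap.BilinForm F (D i0) := B.restrict (D i0)
  have hBU : ∀ x : D i0, (∀ y, BU x y = 0) → x = 0 := fun x hx =>
    Subtype.ext (Orth.ndeg_of_geo C (hD.decomp.nondegenerate i0) x x.2 fun y hy => hx ⟨y, hy⟩)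
  obtain ⟨b, c, hc, hb⟩ := exists_scalar_basis h2 BU (fun x y => C.symm _ _) hBU (n := 2 * k)
    (even_two_mul k) (hD.decomp.decomp.finrank_eq i0)
  obtain ⟨v, hv, -, hvv⟩ := transport_frame C hD i0 (fun j => ((b j : D i0) : ι → F)) (fun j => (b j).2)
    (c := fun _ => c) hb
  exact ⟨fun p => v p.1 p.2, c, hc, fun p => hv _ _, hvv⟩

/-- The type of a space decomposed into isometric blocks of odd dimension. -/
theorem odd_blocks_type [Fintype F] (C : Orth.Space Q B) (h2 : (2 : F) ≠ 0) {t m N : ℕ} (hN : 1 ≤ N)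
    (hcard : Fintype.card ι = 2 * N) {D : Fin t → Submodule F (ι → F)}
    (hD : IsOrthogonalMDecomposition Q m D) (hm : Odd m) :
    IsPlusTypeOn Q (⊤ : Submodule F (ι → F)) ↔ IsSquare ((-1 : F) ^ N) := by
  classical
  obtain ⟨v, c, hc, -, hv⟩ := blocks_frame C h2 hD hm
  have hκ : Fintype.card (Fin t × Fin m) = 2 * N := by
    rw [Fintype.card_prod, Fintype.card_fin, Fintype.card_fin, decomp_card hD.decomp.decomp, hcard]
  rw [frame_type C h2 hN hcard hκ (fun _ => hc) hv, Finset.prod_const, Finset.card_univ, hκ, two_mul N,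
    pow_add c N N]
  refine ⟨fun h => ?_, fun h => h.mul ⟨c ^ N, rfl⟩⟩
  obtain ⟨r, hr⟩ := h
  exact ⟨r / c ^ N, by field_simp at hr ⊢; linear_combination hr⟩

/-- Blocks in even characteristic have even dimension. -/
theorem block_even (C : Orth.Space Q B) (h2 : (2 : F) = 0) {t m : ℕ} {D : Fin t → Submodule F (ι → F)}
    (hD : IsOrthogonalMDecomposition Q m D) : Even m := by
  have ht := hD.decomp.decomp.two_le
  have h := even_of_ndeg C h2 (Orth.ndeg_of_geo C (hD.decomp.nondegenerate ⟨0, by omega⟩))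
  rwa [hD.decomp.decomp.finrank_eq] at h

/-- Blocks with a frame in which only the frame vectors take their value give a decomposition into lines. -/
theorem frame_lines [Finite F] (C : Orth.Space Q B) (h2 : (2 : F) ≠ 0) {t m r : ℕ}
    (hcard : Fintype.card ι = r) {D : Fin t → Submodule F (ι → F)} (hD : IsOrthogonalMDecomposition Q m D)
    (hH : H ≤ isometryGroup F Q) (hle : H ≤ decompositionStabilizer D) {i0 : Fin t} {b : Fin m → ι → F}
    (hb : ∀ j, b j ∈ D i0) {c : F} (hc : c ≠ 0) (hbc : ∀ j l, B (b j) (b l) = if j = l then c else 0)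
    (hone : ∀ a : Fin m → F, ∑ j, a j ^ 2 = 1 → ∃ l, ∀ i, i ≠ l → a i = 0) :
    ∃ D' : Fin r → Submodule F (ι → F), IsOrthogonalMDecomposition Q 1 D' ∧ H ≤ decompositionStabilizer D' := by
  classical
  obtain ⟨v, hv, -, hvv⟩ := transport_frame C hD i0 b hb (c := fun _ => c) hbc
  have hQv : ∀ i j, Q (v i j) = c / 2 := fun i j => by
    rw [eq_div_iff h2, mul_comm, ← C.self]
    simpa using hvv (i, j) (i, j)
  have hQ0 : ∀ i j, Q (v i j) ≠ 0 := fun i j => by rw [hQv]; exact div_ne_zero hc h2
  have hr : r = t * m := hcard.symm.trans (decomp_card hD.decomp.decomp).symm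
  subst hr
  have hr2 : 2 ≤ t * m := le_trans hD.decomp.decomp.two_le (Nat.le_mul_of_pos_right _ hD.decomp.decomp.pos)
  let w : Fin (t * m) → ι → F := fun p => v (finProdFinEquiv.symm p).1 (finProdFinEquiv.symm p).2
  refine lines_of_frame C h2 hcard hr2 hc (v := w) (fun p p' => ?_) hH fun g hg p => ?_
  · simp only [w]
    rw [hvv]
    exact if_congr finProdFinEquiv.symm.injective.eq_iff rfl rfl
  · obtain ⟨σ, hσ⟩ := hle hg
    set i := (finProdFinEquiv.symm p).1 with hi
    set j := (finProdFinEquiv.symm p).2 with hj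
    have hm : g.val *ᵥ v i j ∈ D (σ i) := by
      rw [← hσ]
      exact ⟨_, hv i j, Matrix.toLin'_apply _ _⟩
    obtain ⟨a, ha, hQa⟩ := Orth.orth_coords C h2 (hD.decomp.decomp.finrank_eq (σ i))
      (fun l => hv (σ i) l) (hQ0 (σ i)) (fun x y hxy => by
        rw [hvv (σ i, x) (σ i, y), if_neg fun h => hxy (congrArg Prod.snd h)]) hm
    rw [Orth.mem_iso.1 (hH hg)] at hQa
    simp only [hQv, ← Finset.sum_mul] at hQa
    obtain ⟨l, hl⟩ := hone a (mul_right_cancel₀ (div_ne_zero hc h2) (by rw [one_mul]; exact hQa.symm))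
    refine ⟨finProdFinEquiv (σ i, l), ?_⟩
    simp only [w, Equiv.symm_apply_apply, ← hi, ← hj]
    rw [ha, Finset.sum_eq_single l (fun r _ hr => by rw [hl r hr, zero_smul])
      (fun h => absurd (Finset.mem_univ l) h)]
    exact Submodule.smul_mem _ _ (Submodule.mem_span_singleton_self _)

/-- In fields of three or five elements two squares sum to one only trivially. -/
theorem two_squares [Fintype F] (hq : Fintype.card F = 3 ∨ Fintype.card F = 5) {a b : F}
    (h : a ^ 2 + b ^ 2 = 1) : a = 0 ∨ b = 0 := by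
  by_contra hne
  push Not at hne
  have ha := FiniteField.pow_card_sub_one_eq_one a hne.1
  have hb := FiniteField.pow_card_sub_one_eq_one b hne.2
  have hc := Nat.cast_card_eq_zero F
  rcases hq with hq | hq <;> rw [hq] at ha hb hc
  · exact one_ne_zero (α := F) (by linear_combination h - ha - hb)
  · have h5 : (5 : F) = 0 := by exact_mod_cast hc
    have e1 : 2 * (a ^ 2 * b ^ 2) + 1 = (0 : F) := by
      linear_combination (a ^ 2 + b ^ 2 + 1) * h - ha - hb
    have e3 : (3 : F) = 0 := by
      linear_combination (2 * (a ^ 2 * b ^ 2) - 1) * e1 - 4 * (b ^ 4 * ha + hb)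
    exact one_ne_zero (α := F) (by linear_combination 2 * e3 - h5)

/-- Planes of the type of a sum of two squares over small fields give lines. -/
theorem planes_lines [Fintype F] (C : Orth.Space Q B) (hq : Fintype.card F = 3 ∨ Fintype.card F = 5) {t r : ℕ}
    (hcard : Fintype.card ι = r) {D : Fin t → Submodule F (ι → F)} (hD : IsOrthogonalMDecomposition Q 2 D)
    (hH : H ≤ isometryGroup F Q) (hle : H ≤ decompositionStabilizer D) {i0 : Fin t}
    (ht : IsPlusTypeOn Q (D i0) ↔ IsSquare (-1 : F)) :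
    ∃ D' : Fin r → Submodule F (ι → F), IsOrthogonalMDecomposition Q 1 D' ∧ H ≤ decompositionStabilizer D' := by
  have h2 : (2 : F) ≠ 0 := Orth.two_ne_zero_of_odd_card (by rcases hq with h | h <;> rw [h] <;> decide)
  obtain ⟨u, w, c, hc, hu, hw, huw, huu, hww⟩ := plane_frame C h2 (hD.decomp.decomp.finrank_eq i0)
    (Orth.ndeg_of_geo C (hD.decomp.nondegenerate i0)) ht
  refine frame_lines C h2 hcard hD hH hle (i0 := i0) (b := ![u, w]) (fun j => by fin_cases j <;> assumption)
    hc (fun j l => ?_) fun a ha => ?_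
  · fin_cases j <;> fin_cases l <;> simp [huu, hww, huw, C.symm w u]
  · rw [Fin.sum_univ_two] at ha
    rcases two_squares hq ha with h | h
    · exact ⟨1, fun i hi => by fin_cases i <;> first | exact h | exact absurd rfl hi⟩
    · exact ⟨0, fun i hi => by fin_cases i <;> first | exact h | exact absurd rfl hi⟩

/-- Plus planes over at most three elements are not permuted by an irreducible group. -/
theorem small_plus_planes_false [Fintype F] (C : Orth.Space Q B) (hq : Fintype.card F ≤ 3) {t : ℕ}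
    {D : Fin t → Submodule F (ι → F)} (hD : IsOrthogonalMDecomposition Q 2 D)
    (hH : H ≤ isometryGroup F Q) (hle : H ≤ decompositionStabilizer D)
    (hp : ∀ i, IsPlusTypeOn Q (D i)) (hirr : ActsIrreducibly (matrixSet H)) : False := by
  classical
  choose e f hef hspan using fun i => plane_basis C (hD.decomp.decomp.finrank_eq i)
    (Orth.ndeg_of_geo C (hD.decomp.nondegenerate i)) (hp i)
  let u : Fin t → ι → F := fun i => e i + f i
  have hone : ∀ i, ∀ x ∈ D i, Q x = 1 → x ∈ Submodule.span F {u i} := by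
    intro i x hx hQx
    obtain ⟨a, b, rfl⟩ := hspan i x hx
    have h1 : a * b = 1 := by
      rw [C.smul_add, (hef i).singE, (hef i).singF, (hef i).pair] at hQx
      linear_combination hQx
    have h2' := FiniteField.pow_card_sub_one_eq_one a (left_ne_zero_of_mul_eq_one h1)
    have := Fintype.one_lt_card (α := F)
    have hab : a = b := by
      rcases (show Fintype.card F = 2 ∨ Fintype.card F = 3 by omega) with hq' | hq' <;> rw [hq'] at h2'
      · rw [show a = 1 by simpa using h2', one_mul] at h1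
        rw [h1, show a = 1 by simpa using h2']
      · linear_combination b * h2' - a * h1
    exact Submodule.mem_span_singleton.2 ⟨a, by rw [← hab, smul_add]⟩
  have hinv : InvSub H (Submodule.span F (Set.range u)) := by
    intro g hg w hw
    obtain ⟨σ, hσ⟩ := hle hg
    have hmap : Submodule.span F (Set.range u) ≤
        (Submodule.span F (Set.range u)).comap (Matrix.toLin' g.val) := by
      refine Submodule.span_le.2 ?_
      rintro _ ⟨i, rfl⟩
      show Matrix.toLin' g.val (u i) ∈ Submodule.span F (Set.range u)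
      have hmem : Matrix.toLin' g.val (u i) ∈ D (σ i) := by
        rw [← hσ i]
        exact Submodule.mem_map_of_mem ((D i).add_mem (hef i).memE (hef i).memF)
      have h1 := hone _ _ hmem (by
        rw [Matrix.toLin'_apply, Orth.mem_iso.1 (hH hg), C.add, (hef i).singE, (hef i).singF, (hef i).pair,
          zero_add, zero_add])
      exact Submodule.span_mono (Set.singleton_subset_iff.2 (Set.mem_range_self (σ i))) h1
    exact hmap hw
  have ht := hD.decomp.decomp.two_le
  rcases irr_iff.1 hirr _ hinv with h | h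
  · have h0 : u ⟨0, by omega⟩ = 0 := by
      have := Submodule.subset_span (R := F) (Set.mem_range_self (f := u) ⟨0, by omega⟩)
      rwa [h, SetLike.mem_coe, Submodule.mem_bot] at this
    have hQu : Q (u ⟨0, by omega⟩) = 1 := by
      rw [C.add, (hef _).singE, (hef _).singF, (hef _).pair, zero_add, zero_add]
    rw [h0, C.zero] at hQu
    exact zero_ne_one hQu
  · have hle' := finrank_range_le_card (R := F) u
    rw [Set.finrank, h, finrank_top, finrank_fintype_fun_eq_card, ← decomp_card hD.decomp.decomp,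
      Fintype.card_fin] at hle'
    omega

/-- Over four elements a group permuting plus planes is realised over every subfield. -/
theorem four_planes_realisable [Fintype F] (C : Orth.Space Q B) (hq : Fintype.card F = 4) {t : ℕ}
    {D : Fin t → Submodule F (ι → F)} (hD : IsOrthogonalMDecomposition Q 2 D)
    (hH : H ≤ isometryGroup F Q) (hle : H ≤ decompositionStabilizer D)
    (hp : ∀ i, IsPlusTypeOn Q (D i)) (F₀ : Subfield F) : RealisableOver F₀ (matrixSet H) := by
  classical
  have h2 : (2 : F) = 0 := two_zero_iff.2 (by rw [hq]; decide)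
  choose e f hef hspan using fun i => plane_basis C (hD.decomp.decomp.finrank_eq i)
    (Orth.ndeg_of_geo C (hD.decomp.nondegenerate i)) (hp i)
  obtain ⟨ω, hω⟩ : ∃ ω : F, ω ≠ 0 ∧ ω ≠ 1 := by
    by_contra hcon
    push Not at hcon
    have h : Fintype.card F ≤ ({0, 1} : Finset F).card := Finset.card_le_card fun x _ => by
      rw [Finset.mem_insert, Finset.mem_singleton]
      by_cases hx : x = 0
      · exact Or.inl hx
      · exact Or.inr (hcon x hx)
    have := Finset.card_le_two (a := (0 : F)) (b := 1)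
    omega
  have hw3 : ω ^ 3 = 1 := by
    have := FiniteField.pow_card_sub_one_eq_one ω hω.1
    rwa [hq] at this
  have hw : ω ^ 2 + ω + 1 = 0 :=
    (mul_eq_zero.1 (show (ω - 1) * (ω ^ 2 + ω + 1) = 0 by linear_combination hw3)).resolve_left
      (sub_ne_zero.2 hω.2)
  let x : Fin t × Fin 2 → ι → F := fun p =>
    ![e p.1 + f p.1, ω • e p.1 + ω ^ 2 • f p.1] p.2
  have hxD : ∀ p, x p ∈ D p.1 := by
    rintro ⟨i, j⟩
    fin_cases j
    · exact (D i).add_mem (hef i).memE (hef i).memF
    · exact (D i).add_mem ((D i).smul_mem _ (hef i).memE) ((D i).smul_mem _ (hef i).memF)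
  have hQx : ∀ p, Q (x p) = 1 := by
    rintro ⟨i, j⟩
    fin_cases j
    · show Q (e i + f i) = 1
      rw [C.add, (hef i).singE, (hef i).singF, (hef i).pair, zero_add, zero_add]
    · show Q (ω • e i + ω ^ 2 • f i) = 1
      rw [C.smul_add, (hef i).singE, (hef i).singF, (hef i).pair]
      linear_combination hw3
  have hBx : ∀ i, B (x (i, 0)) (x (i, 1)) = 1 := fun i => by
    show B (e i + f i) (ω • e i + ω ^ 2 • f i) = 1
    simp only [map_add, map_smul, LinearMap.add_apply, C.self_zero (hef i).singE, C.self_zero (hef i).singF,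
      (hef i).pair, C.symm (f i) (e i), smul_eq_mul]
    linear_combination hw - h2
  have hself : ∀ y, B y y = 0 := fun y => by rw [C.self, h2, zero_mul]
  have hli : LinearIndependent F x := by
    refine Fintype.linearIndependent_iff.2 fun g hg p => ?_
    obtain ⟨i, j⟩ := p
    have h1 := congrArg (fun z => B z (x (i, 1 - j))) hg
    simp only [map_sum, map_smul, LinearMap.sum_apply, LinearMap.smul_apply, map_zero,
      LinearMap.zero_apply] at h1
    rw [Finset.sum_eq_single (i, j) (fun q _ hq' => ?_) (fun h => absurd (Finset.mem_univ _) h)] at h1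
    · have hone : B (x (i, j)) (x (i, 1 - j)) = 1 := by
        fin_cases j
        · exact hBx i
        · rw [C.symm]; exact hBx i
      rwa [hone, smul_eq_mul, mul_one] at h1
    · obtain ⟨i', j'⟩ := q
      by_cases hi : i' = i
      · subst hi
        have hj : j' = 1 - j := by
          have : j' ≠ j := fun h => hq' (by rw [h])
          omega
        rw [hj, hself, smul_zero]
      · rw [← C.polar, hD.decomp.orthogonal i' i hi _ (hxD (i', j')) _ (hxD (i, 1 - j)), smul_zero]
  have hcardx : Fintype.card (Fin t × Fin 2) = finrank F (ι → F) := by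
    rw [Fintype.card_prod, Fintype.card_fin, Fintype.card_fin, finrank_fintype_fun_eq_card,
      decomp_card hD.decomp.decomp]
  have ht := hD.decomp.decomp.two_le
  haveI : Nonempty (Fin t × Fin 2) := ⟨(⟨0, by omega⟩, 0)⟩
  let b0 := basisOfLinearIndependentOfCardEqFinrank hli hcardx
  let σι : Fin t × Fin 2 ≃ ι := Fintype.equivOfCardEq (by rw [hcardx, finrank_fintype_fun_eq_card])
  refine realisable_of_basis (b0.reindex σι) fun g hg a b => ?_
  obtain ⟨σ, hσ⟩ := hle hg
  set q := σι.symm b with hq'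
  have hmem : g.val *ᵥ x q ∈ D (σ q.1) := by
    rw [← hσ]
    exact ⟨_, hxD q, Matrix.toLin'_apply _ _⟩
  obtain ⟨α, β, hαβ⟩ := hspan _ _ hmem
  have h1 : α * β = 1 := by
    have := Orth.mem_iso.1 (hH hg) (x q)
    rw [← hαβ, C.smul_add, (hef _).singE, (hef _).singF, (hef _).pair, hQx] at this
    linear_combination this
  have hα3 : α ^ 3 = 1 := by
    have := FiniteField.pow_card_sub_one_eq_one α (left_ne_zero_of_mul_eq_one h1)
    rwa [hq] at this
  obtain ⟨c₁, c₂, hc₁, hc₂, hc⟩ : ∃ c₁ c₂ : F, c₁ ∈ F₀ ∧ c₂ ∈ F₀ ∧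
      c₁ • x (σ q.1, 0) + c₂ • x (σ q.1, 1) = g.val *ᵥ x q := by
    have hfac : (α - 1) * ((α - ω) * (α - ω ^ 2)) = 0 := by
      linear_combination hα3 - α ^ 2 * hw + α * hw + α * (ω - 1) * hw - (1 + 0) * hw3
    have hβ : β = α ^ 2 := by linear_combination α ^ 2 * h1 - β * hα3
    rw [← hαβ, hβ]
    rcases mul_eq_zero.1 hfac with h | h
    · refine ⟨1, 0, F₀.one_mem, F₀.zero_mem, ?_⟩
      rw [sub_eq_zero.1 h]
      simp [x]
    rcases mul_eq_zero.1 h with h | h
    · refine ⟨0, 1, F₀.zero_mem, F₀.one_mem, ?_⟩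
      rw [sub_eq_zero.1 h]
      simp [x]
    · refine ⟨1, 1, F₀.one_mem, F₀.one_mem, ?_⟩
      rw [sub_eq_zero.1 h]
      show (1 : F) • (e _ + f _) + (1 : F) • (ω • e _ + ω ^ 2 • f _) = _
      match_scalars
      · linear_combination hw - ω ^ 2 * h2
      · linear_combination hw - ω * hw3 - ω * h2
  simp only [Basis.repr_reindex_apply, Basis.reindex_apply]
  rw [show b0 (σι.symm b) = x q by simp [b0, q], ← hc, map_add, map_smul, map_smul]
  simp only [show ∀ p, x p = b0 p from fun p => by simp [b0], Basis.repr_self, Finsupp.smul_single,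
    smul_eq_mul, mul_one, Finsupp.add_apply, Finsupp.single_apply]
  refine F₀.add_mem ?_ ?_ <;> split_ifs
  exacts [hc₁, F₀.zero_mem, hc₂, F₀.zero_mem]

/-- Over two elements plus four-blocks split into pairs of minus planes. -/
theorem split_two [Fintype F] (C : Orth.Space Q B) (hq : Fintype.card F = 2) {t : ℕ}
    {D : Fin t → Submodule F (ι → F)} (hD : IsOrthogonalMDecomposition Q 4 D)
    (hH : H ≤ isometryGroup F Q) (hle : H ≤ decompositionStabilizer D)
    (hp : ∀ i, IsPlusTypeOn Q (D i)) :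
    ∃ D' : Fin (t * 2) → Submodule F (ι → F), IsOrthogonalMDecomposition Q 2 D' ∧
      (∀ i, ¬ IsPlusTypeOn Q (D' i)) ∧ H ≤ decompositionStabilizer D' := by
  classical
  have h2 : (2 : F) = 0 := two_zero_iff.2 (by rw [hq]; decide)
  have hdata : ∀ i, ∃ P P' : Submodule F (ι → F), P ≤ D i ∧ P' ≤ D i ∧ Orth.NDeg B P ∧ Orth.NDeg B P' ∧
      finrank F P = 2 ∧ finrank F P' = 2 ∧ ¬ IsPlusTypeOn Q P ∧ ¬ IsPlusTypeOn Q P' ∧
      (∀ x ∈ P, ∀ y ∈ P', B x y = 0) ∧ ∀ z ∈ D i, Q z = 1 → z ∈ P ∨ z ∈ P' := by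
    intro i
    have hn := Orth.ndeg_of_geo C (hD.decomp.nondegenerate i)
    have hd : finrank F (D i) = 2 * 2 := hD.decomp.decomp.finrank_eq i
    obtain ⟨P, hPle, hPn, hPd, hPt⟩ := NondegFix.exists_sub_type C hd hn le_rfl (by norm_num) False
    let P' := D i ⊓ B.orthogonal P
    have horth : ∀ x ∈ P, ∀ y ∈ P', B x y = 0 := fun x hx y hy => hy.2 x hx
    have hdis : P ⊓ B.orthogonal P = ⊥ := (Submodule.eq_bot_iff _).2 fun x hx =>
      hPn x hx.1 fun y hy => by rw [C.symm]; exact hx.2 y hy
    have hsup : P ⊔ P' = D i := by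
      refine le_antisymm (sup_le hPle inf_le_left) fun z hz => ?_
      have hcompl : (⊤ : Submodule F (ι → F)) = P ⊔ B.orthogonal P :=
        (Submodule.eq_top_of_disjoint _ _ (by
          rw [LinearMap.BilinForm.finrank_orthogonal (orth_space_nondegenerate C)]
          have := Submodule.finrank_le P
          omega) (disjoint_iff.2 hdis)).symm
      obtain ⟨a, ha, b, hb, rfl⟩ := Submodule.mem_sup.1
        (show z ∈ P ⊔ B.orthogonal P from hcompl ▸ Submodule.mem_top)
      refine Submodule.add_mem_sup ha ⟨?_, hb⟩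
      simpa using (D i).sub_mem hz (hPle ha)
    have hP'n : Orth.NDeg B P' := fun x hx h => hn x hx.1 fun y hy => by
      obtain ⟨a, ha, b, hb, rfl⟩ := Submodule.mem_sup.1 (hsup.symm ▸ hy : y ∈ P ⊔ P')
      rw [map_add, h b hb, C.symm, horth a ha x hx, add_zero]
    have hP'd : finrank F P' = 2 := by
      have h := (NondegFix.ndeg_sup C hPn hP'n horth).2
      rw [hsup, hd, hPd] at h
      omega
    have hP't : ¬ IsPlusTypeOn Q P' := fun h => by
      have h1 := NondegFix.type_sum C (s := 1) (t := 1) hPd hP'd hPn hP'n horth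
      rw [hsup] at h1
      exact hPt.1 ((h1.1 (hp i)).2 h)
    refine ⟨P, P', hPle, inf_le_left, hPn, hP'n, hPd, hP'd, fun h => hPt.1 h, hP't, horth, fun z hz hQz => ?_⟩
    obtain ⟨a, ha, b, hb, rfl⟩ := Submodule.mem_sup.1 (hsup.symm ▸ hz : z ∈ P ⊔ P')
    by_cases ha0 : a = 0
    · exact Or.inr (by rwa [ha0, zero_add])
    by_cases hb0 : b = 0
    · exact Or.inl (by rwa [hb0, add_zero])
    exfalso
    have hQ1 : ∀ {W : Submodule F (ι → F)}, finrank F W = 2 → ¬ IsPlusTypeOn Q W → ∀ y ∈ W, y ≠ 0 → Q y = 1 :=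
      fun hWd hWt y hy hy0 => by
        have := FiniteField.pow_card_sub_one_eq_one (Q y) fun h => hy0 (aniso_plane C hWd hWt hy h)
        rwa [hq, pow_one] at this
    rw [C.add, hQ1 hPd (fun h => hPt.1 h) a ha ha0, hQ1 hP'd hP't b hb hb0, horth a ha b hb] at hQz
    exact one_ne_zero (α := F) (by linear_combination hQz)
  choose P P' hPle hP'le hPn hP'n hPd hP'd hPt hP't horth hone using hdata
  let E : Fin t × Fin 2 → Submodule F (ι → F) := fun p => ![P p.1, P' p.1] p.2
  have hE : ∀ p, E p ≤ D p.1 ∧ Orth.NDeg B (E p) ∧ finrank F (E p) = 2 ∧ ¬ IsPlusTypeOn Q (E p) := by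
    rintro ⟨i, j⟩
    fin_cases j
    · exact ⟨hPle i, hPn i, hPd i, hPt i⟩
    · exact ⟨hP'le i, hP'n i, hP'd i, hP't i⟩
  let D' : Fin (t * 2) → Submodule F (ι → F) := fun a => E (finProdFinEquiv.symm a)
  have ho : ∀ a b, a ≠ b → ∀ x ∈ D' a, ∀ y ∈ D' b, B x y = 0 := by
    intro a b hab x hx y hy
    have hne : finProdFinEquiv.symm a ≠ finProdFinEquiv.symm b := finProdFinEquiv.symm.injective.ne hab
    revert hne hx hy
    simp only [D']
    generalize finProdFinEquiv.symm a = p
    generalize finProdFinEquiv.symm b = p'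
    intro hy hx hne
    obtain ⟨i, j⟩ := p
    obtain ⟨i', j'⟩ := p'
    by_cases hi : i = i'
    · subst hi
      fin_cases j <;> fin_cases j'
      · exact absurd rfl hne
      · exact horth i x hy y hx
      · rw [C.symm]; exact horth i y hx x hy
      · exact absurd rfl hne
    · rw [← C.polar]
      exact hD.decomp.orthogonal i i' hi x ((hE _).1 hy) y ((hE _).1 hx)
  have ht := hD.decomp.decomp.two_le
  have hdec := ndeg_family_decomp C (show 2 ≤ t * 2 by omega) two_pos
    (by rw [← decomp_card hD.decomp.decomp]; ring) (D := D') (fun a => (hE _).2.2.1) (fun a => (hE _).2.1) ho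
  refine ⟨D', ⟨hdec, fun a b => isometric_of_type C le_rfl (hE _).2.2.1 (hE _).2.2.1 (hE _).2.1 (hE _).2.1
    (iff_of_false (hE _).2.2.2 (hE _).2.2.2)⟩, fun a => (hE _).2.2.2, le_decomp_of_maps hdec.decomp ?_⟩
  intro g hg a
  obtain ⟨σ, hσ⟩ := hle hg
  set p := finProdFinEquiv.symm a with hp'
  have hmem : ∀ y ∈ D' a, y ≠ 0 → g.val *ᵥ y ∈ P (σ p.1) ∨ g.val *ᵥ y ∈ P' (σ p.1) := by
    intro y hy hy0
    refine hone _ _ ?_ ?_
    · rw [← hσ]
      exact ⟨y, (hE _).1 hy, Matrix.toLin'_apply _ _⟩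
    · rw [Orth.mem_iso.1 (hH hg)]
      have := FiniteField.pow_card_sub_one_eq_one (Q y)
        fun h => hy0 (aniso_plane C (hE _).2.2.1 (hE _).2.2.2 hy h)
      rwa [hq, pow_one] at this
  by_cases hall : ∀ y ∈ D' a, g.val *ᵥ y ∈ P (σ p.1)
  · refine ⟨finProdFinEquiv (σ p.1, 0), fun y hy => ?_⟩
    show g.val *ᵥ y ∈ E (finProdFinEquiv.symm _)
    rw [Equiv.symm_apply_apply]
    exact hall y hy
  push Not at hall
  obtain ⟨y₁, hy₁, hn₁⟩ := hall
  have h1 : g.val *ᵥ y₁ ∈ P' (σ p.1) :=
    (hmem y₁ hy₁ fun h => hn₁ (by rw [h, Matrix.mulVec_zero]; exact zero_mem _)).resolve_left hn₁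
  refine ⟨finProdFinEquiv (σ p.1, 1), fun y hy => ?_⟩
  suffices g.val *ᵥ y ∈ P' (σ p.1) by
    show g.val *ᵥ y ∈ E (finProdFinEquiv.symm _)
    rw [Equiv.symm_apply_apply]
    exact this
  by_cases hy0 : y = 0
  · rw [hy0, Matrix.mulVec_zero]; exact zero_mem _
  rcases hmem y hy hy0 with h | h
  swap
  · exact h
  have h3 : y + y₁ ≠ 0 := fun h0 => hn₁ (by
    rw [eq_neg_of_add_eq_zero_right h0, Matrix.mulVec_neg]; exact neg_mem h)
  rcases hmem _ (add_mem hy hy₁) h3 with h4 | h4 <;> rw [Matrix.mulVec_add] at h4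
  · exact absurd (by simpa using sub_mem h4 h) hn₁
  · simpa using sub_mem h4 h1

end Cfsg.Lib.Linear.AschOrth
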