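import Cfsg.Agent.Lib.Linear.AschOrth.NotOmega
import Cfsg.Agent.Lib.Linear.AschOrth.Product

/-!
# `Ω` preserves no geometric structure: a counting argument

The orbit of a non-zero vector under `Ω` has at least `q ^ (n - 2)` members, which is more than any of the
structures can hold.
-/

set_option autoImplicit false
set_option linter.unusedSectionVars false
set_option linter.style.haveILetI false

namespace Cfsg.Lib.Linear.AschOrth

open Cfsg.Geo Cfsg.Lib.Linear Cfsg.Lib.Linear.Asch Cfsg.Lib.Linear.AschGen Module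
open scoped Matrix MatrixGroups Kronecker

variable {ι : Type} [Fintype ι] [DecidableEq ι] {F : Type*} [Field F]
  {Q : (ι → F) → F} {B : LinearMap.BilinForm F (ι → F)}

/-- A set stable under `Ω` with a non-zero vector is large. -/
theorem orbit_large [Finite F] (C : Orth.Space Q B) (h7 : 7 ≤ Fintype.card ι) {S : Set (ι → F)}
    (hS : ∀ g ∈ omegaGL Q, ∀ v ∈ S, g.val *ᵥ v ∈ S) {v : ι → F} (hv : v ∈ S) (hv0 : v ≠ 0) :
    Nat.card F ^ (Fintype.card ι - 2) ≤ Nat.card S := by
  haveI := Fintype.ofFinite F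
  obtain ⟨z, hz⟩ := C.exists_pair hv0
  obtain ⟨u, -, hu, huv⟩ := Orth.exists_sing_pair C C.ndeg_top
    (by rw [finrank_top, finrank_fintype_fun_eq_card]; omega) (x := v)
    ⟨z, trivial, by rw [C.symm, hz]; exact one_ne_zero⟩
  set K := Orth.perp2 B ⊤ u v with hK
  have hd := Orth.finrank_ker_prod_ge (B := B) u v
  rw [← hK] at hd
  have hmem : ∀ a ∈ K, (Orth.sGL Q B u a).val *ᵥ v = v + (a - Q a • u) := by
    intro a ha
    obtain ⟨-, hua, hva⟩ := Orth.mem_perp2.1 ha
    rw [Orth.sGL_act C hu hua, huv, C.symm a v, hva, zero_add, mul_one, one_smul, add_sub_assoc]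
  let φ : K → S := fun a => ⟨_, hS _ (sGL_mem_omega C (by omega) hu (Orth.mem_perp2.1 a.2).2.1) v hv⟩
  have hφ : Function.Injective φ := by
    rintro ⟨a, ha⟩ ⟨b, hb⟩ h
    have h1 : v + (a - Q a • u) = v + (b - Q b • u) := by
      rw [← hmem a ha, ← hmem b hb]; exact congrArg Subtype.val h
    have h2 := add_left_cancel h1
    have h3 := congrArg (B v) h2
    simp only [map_sub, map_smul, (Orth.mem_perp2.1 ha).2.2, (Orth.mem_perp2.1 hb).2.2, C.symm v u, huv,
      smul_eq_mul, mul_one, zero_sub, neg_inj] at h3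
    rw [h3, sub_left_inj] at h2
    exact Subtype.ext h2
  haveI : Finite S := Subtype.finite
  refine le_trans ?_ (Nat.card_le_card_of_injective φ hφ)
  rw [Module.natCard_eq_pow_finrank (K := F) (V := K)]
  exact Nat.pow_le_pow_right Nat.card_pos (by omega)

theorem not_omega_le_subspace [Finite F] (C : Orth.Space Q B) (h7 : 7 ≤ Fintype.card ι)
    {W : Submodule F (ι → F)} (h0 : W ≠ ⊥) (h1 : W ≠ ⊤) : ¬ omegaGL Q ≤ subspaceStabilizer W := by
  intro hle
  have hbig : ∀ U : Submodule F (ι → F), U ≠ ⊥ → InvSub (omegaGL Q) U →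
      Fintype.card ι - 2 ≤ finrank F U := by
    intro U hU hinv
    obtain ⟨x, hx, hx0⟩ := Submodule.exists_mem_ne_zero_of_ne_bot hU
    have h := orbit_large C h7 (S := (U : Set (ι → F))) (fun g hg w hw => hinv g hg w hw) hx hx0
    rw [show Nat.card (U : Set (ι → F)) = Nat.card U from rfl,
      Module.natCard_eq_pow_finrank (K := F) (V := U)] at h
    exact (Nat.pow_le_pow_iff_right (Finite.one_lt_card (α := F))).1 h
  have hW : InvSub (omegaGL Q) W := fun g hg w hw => (hle hg w).1 hw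
  have hB := orth_space_nondegenerate C
  have hd := LinearMap.BilinForm.finrank_orthogonal hB W
  rw [finrank_fintype_fun_eq_card] at hd
  have hlt : finrank F W < Fintype.card ι := by
    rw [← finrank_fintype_fun_eq_card F]; exact Submodule.finrank_lt h1
  have e1 := hbig W h0 hW
  have e2 := hbig (B.orthogonal W) (fun h => by rw [h, finrank_bot] at hd; omega)
    (orth_perp_inv C omegaGL_le_iso hW)
  omega

theorem lt_two_pow_sub_three : ∀ t, 7 ≤ t → t < 2 ^ (t - 3) := by
  intro t ht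
  induction t, ht using Nat.le_induction with
  | base => norm_num
  | succ t ht ih =>
    rw [show t + 1 - 3 = (t - 3) + 1 by omega, pow_succ]
    omega

theorem lt_two_pow_blocks {t m : ℕ} (ht : 2 ≤ t) (hm : 0 < m) (h7 : 7 ≤ t * m) :
    t < 2 ^ ((t - 1) * m - 2) := by
  rcases Nat.lt_or_ge t 7 with ht7 | ht7
  · interval_cases t
    · exact lt_of_lt_of_le (show 2 < 2 ^ 2 by norm_num) (Nat.pow_le_pow_right two_pos (by omega))
    · exact lt_of_lt_of_le (show 3 < 2 ^ 2 by norm_num) (Nat.pow_le_pow_right two_pos (by omega))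
    · exact lt_of_lt_of_le (show 4 < 2 ^ 3 by norm_num) (Nat.pow_le_pow_right two_pos (by omega))
    · exact lt_of_lt_of_le (show 5 < 2 ^ 3 by norm_num) (Nat.pow_le_pow_right two_pos (by omega))
    · exact lt_of_lt_of_le (show 6 < 2 ^ 3 by norm_num) (Nat.pow_le_pow_right two_pos (by omega))
  · have : t - 1 ≤ (t - 1) * m := Nat.le_mul_of_pos_right _ hm
    exact lt_of_lt_of_le (lt_two_pow_sub_three t ht7) (Nat.pow_le_pow_right two_pos (by omega))

theorem not_omega_le_decomposition [Finite F] (C : Orth.Space Q B) (h7 : 7 ≤ Fintype.card ι) {t m : ℕ}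
    {D : Fin t → Submodule F (ι → F)} (hD : IsMDecomposition m D) :
    ¬ omegaGL Q ≤ decompositionStabilizer D := by
  intro hle
  let i0 : Fin t := ⟨0, by have := hD.two_le; omega⟩
  obtain ⟨x, hx, hx0⟩ := Submodule.exists_mem_ne_zero_of_ne_bot (p := D i0) (fun h => by
    have := hD.finrank_eq i0
    rw [h, finrank_bot] at this
    exact hD.pos.ne this)
  let S : Set (ι → F) := {v | ∃ i, v ∈ D i}
  have h := orbit_large C h7 (S := S) (fun g hg v ⟨i, hi⟩ => by
    obtain ⟨σ, hσ⟩ := hle hg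
    exact ⟨σ i, hσ i ▸ ⟨v, hi, Matrix.toLin'_apply _ _⟩⟩) ⟨i0, hx⟩ hx0
  have hS : Nat.card S ≤ t * Nat.card F ^ m := by
    let f : (Σ i, D i) → S := fun p => ⟨p.2, p.1, p.2.2⟩
    refine (Nat.card_le_card_of_surjective f fun ⟨v, i, hi⟩ => ⟨⟨i, v, hi⟩, rfl⟩).trans (le_of_eq ?_)
    rw [Nat.card_sigma, Finset.sum_congr rfl fun i _ => show Nat.card (D i) = Nat.card F ^ m by
      rw [Module.natCard_eq_pow_finrank (K := F) (V := D i), hD.finrank_eq], Finset.sum_const,
      Finset.card_univ, Fintype.card_fin, smul_eq_mul]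
  have hn := decomp_card hD
  have key := lt_two_pow_blocks hD.two_le hD.pos (hn ▸ h7)
  have h2 : 2 ≤ Nat.card F := Finite.one_lt_card
  have key' : t < Nat.card F ^ ((t - 1) * m - 2) := key.trans_le (Nat.pow_le_pow_left h2 _)
  have hexp : m + ((t - 1) * m - 2) ≤ Fintype.card ι - 2 := by
    have : (t - 1) * m + m = t * m := by
      rw [← Nat.succ_mul]; congr 1; have := hD.two_le; omega
    have h3 : 2 ≤ (t - 1) * m := by
      by_contra hcon
      rw [show (t - 1) * m - 2 = 0 by omega, pow_zero] at key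
      have := hD.two_le
      omega
    omega
  have : t * Nat.card F ^ m < Nat.card F ^ (Fintype.card ι - 2) :=
    calc t * Nat.card F ^ m < Nat.card F ^ ((t - 1) * m - 2) * Nat.card F ^ m :=
          Nat.mul_lt_mul_of_pos_right key' (pow_pos Nat.card_pos _)
      _ ≤ _ := by rw [← pow_add]; exact Nat.pow_le_pow_right Nat.card_pos (by omega)
  omega

theorem not_omega_le_tensor [Finite F] (C : Orth.Space Q B) (h7 : 7 ≤ Fintype.card ι) {d k : ℕ}
    (hd : 0 < d) (hk : 0 < k) (hdk : d + k + 2 < Fintype.card ι) {e : ι ≃ Fin d × Fin k} {P : GL ι F} :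
    ¬ omegaGL Q ≤ tensorProductSubgroup d k e P := by
  intro hle
  let φ : (Fin d → F) × (Fin k → F) → (ι → F) := fun p =>
    P.val *ᵥ ((fun bc : Fin d × Fin k => p.1 bc.1 * p.2 bc.2) ∘ e)
  have h := orbit_large C h7 (S := Set.range φ) (fun g hg v ⟨⟨x, y⟩, hxy⟩ => by
    obtain ⟨a, b, hab⟩ := mem_tensorProductSubgroup_iff.1 (hle hg)
    refine ⟨(a.val *ᵥ x, b.val *ᵥ y), ?_⟩
    rw [← hxy, hab]
    show _ = tm e P (a.val ⊗ₖ b.val) *ᵥ _
    rw [tm_act, AschSp.kron_mulVec_pure]) ⟨(Pi.single ⟨0, hd⟩ 1, Pi.single ⟨0, hk⟩ 1), rfl⟩ (fun h0 => by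
    have h1 := congrArg ((P⁻¹).val *ᵥ ·) h0
    simp only [φ, inv_mulVec_mulVec, Matrix.mulVec_zero] at h1
    simpa using congrFun h1 (e.symm (⟨0, hd⟩, ⟨0, hk⟩)))
  have h2 : Nat.card (Set.range φ) ≤ Nat.card F ^ (d + k) := by
    refine (Nat.card_le_card_of_surjective _ Set.rangeFactorization_surjective).trans (le_of_eq ?_)
    rw [Nat.card_prod, Nat.card_fun, Nat.card_fun, Nat.card_fin, Nat.card_fin, pow_add]
  have := Nat.pow_lt_pow_right (Finite.one_lt_card (α := F)) (show d + k < Fintype.card ι - 2 by omega)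
  omega

theorem not_omega_le_subfield [Fintype F] (C : Orth.Space Q B) (h7 : 7 ≤ Fintype.card ι) {F₀ : Subfield F}
    {r : ℕ} (hr : r.Prime) (hc : Fintype.card F = Nat.card F₀ ^ r) (P : GL ι F) :
    ¬ omegaGL Q ≤ subfieldSubgroup F₀ P := by
  intro hle
  let φ : F × (ι → F₀) → (ι → F) := fun p => p.1 • (P.val *ᵥ fun i => ((p.2 i : F₀) : F))
  haveI : Nonempty ι := Fintype.card_pos_iff.1 (by omega)
  obtain ⟨i0⟩ := ‹Nonempty ι›
  have h := orbit_large C h7 (S := Set.range φ) (fun g hg v ⟨⟨t, u⟩, htu⟩ => by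
    obtain ⟨c, hc0, hcm⟩ := (mem_subfieldSubgroup_iff F₀ P g).1 (hle hg)
    refine ⟨(t * c⁻¹, fun i => ⟨∑ j, c * (P⁻¹ * g * P).val i j * (u j : F),
      sum_mem fun j _ => F₀.mul_mem (hcm i j) (u j).2⟩), ?_⟩
    rw [← htu]
    show (t * c⁻¹) • (P.val *ᵥ _) = g.val *ᵥ (t • (P.val *ᵥ _))
    rw [Matrix.mulVec_smul, show g.val = P.val * (P⁻¹ * g * P).val * (P⁻¹).val by simp [mul_assoc],
      ← Matrix.mulVec_mulVec, inv_mulVec_mulVec, ← Matrix.mulVec_mulVec]
    rw [show (fun i => ∑ j, c * (P⁻¹ * g * P).val i j * (u j : F)) =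
        c • ((P⁻¹ * g * P).val *ᵥ fun j => (u j : F)) from funext fun i => by
      simp [Matrix.mulVec, dotProduct, Finset.mul_sum, mul_assoc], Matrix.mulVec_smul, smul_smul,
      mul_assoc, inv_mul_cancel₀ hc0, mul_one]) ⟨(1, Pi.single i0 1), rfl⟩ (fun h0 => by
    have h1 := congrArg ((P⁻¹).val *ᵥ ·) h0
    simp only [φ, one_smul, inv_mulVec_mulVec, Matrix.mulVec_zero] at h1
    simpa using congrFun h1 i0)
  set q := Nat.card F₀ with hq
  have h2 : Nat.card (Set.range φ) ≤ q ^ (r + Fintype.card ι) := by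
    refine (Nat.card_le_card_of_surjective _ Set.rangeFactorization_surjective).trans (le_of_eq ?_)
    rw [Nat.card_prod, Nat.card_fun, Nat.card_eq_fintype_card (α := F), hc,
      Nat.card_eq_fintype_card (α := ι), pow_add]
  rw [Nat.card_eq_fintype_card (α := F), hc, ← pow_mul] at h
  have hq1 : 1 < q := Finite.one_lt_card
  have hlt : r + Fintype.card ι < r * (Fintype.card ι - 2) := by
    obtain ⟨k, hk⟩ : ∃ k, Fintype.card ι = k + 2 := ⟨_, (Nat.sub_add_cancel (by omega)).symm⟩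
    rw [hk, Nat.add_sub_cancel]
    have := hr.two_le
    nlinarith
  have := Nat.pow_lt_pow_right hq1 hlt
  omega

end Cfsg.Lib.Linear.AschOrth
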