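import Cfsg.Agent.Lib.Linear.AschOrth.Types
import Cfsg.Agent.Lib.Linear.AschOrth.EvenNot
import Cfsg.Agent.Lib.Linear.OrthParity

/-!
# Reducible subgroups of even-dimensional orthogonal groups
-/

set_option autoImplicit false
set_option linter.unusedSectionVars false
set_option linter.style.haveILetI false

namespace Cfsg.Lib.Linear.AschOrth

open Cfsg.Geo Cfsg.Lib.Linear Cfsg.Lib.Linear.Asch Cfsg.Lib.Linear.AschGen Module
open scoped Matrix MatrixGroups

variable {ι : Type} [Fintype ι] [DecidableEq ι] {F : Type*} [Field F]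
  {Q : (ι → F) → F} {B : LinearMap.BilinForm F (ι → F)} {H : Subgroup (GL ι F)}

theorem two_zero_iff [Fintype F] : (2 : F) = 0 ↔ ¬ Odd (Fintype.card F) := by
  rw [Nat.not_odd_iff_even]
  constructor
  · intro h
    obtain ⟨p, hp⟩ := CharP.exists F
    obtain ⟨k, hpp, hk⟩ := FiniteField.card F p
    have hd : p ∣ 2 := (CharP.cast_eq_zero_iff F p 2).1 (by exact_mod_cast h)
    have : p = 2 := (Nat.prime_dvd_prime_iff_eq hpp Nat.prime_two).1 hd
    rw [hk, this]
    exact Nat.even_pow.2 ⟨even_two, k.2.ne'⟩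
  · intro h
    by_contra h2
    obtain ⟨p, hp⟩ := CharP.exists F
    obtain ⟨k, hpp, hk⟩ := FiniteField.card F p
    rw [hk] at h
    have h2' : 2 ∣ p := even_iff_two_dvd.1 (Nat.even_pow.1 h).1
    have : p = 2 := ((Nat.prime_dvd_prime_iff_eq Nat.prime_two hpp).1 h2').symm
    subst this
    exact h2 (by exact_mod_cast CharP.cast_eq_zero F 2)

theorem odd_of_two_ne [Fintype F] (h2 : (2 : F) ≠ 0) : Odd (Fintype.card F) := by
  by_contra h
  exact h2 (two_zero_iff.2 h)

/-- The stabiliser of an invariant subspace is all of a maximal subgroup. -/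
theorem stab_eq [Finite F] (C : Orth.Space Q B) (h7 : 7 ≤ Fintype.card ι) (hH : IsMaximalIn (omegaGL Q) H)
    {U : Submodule F (ι → F)} (h0 : U ≠ ⊥) (h1 : U ≠ ⊤) (hU : InvSub H U) :
    H = subspaceStabilizer U ⊓ omegaGL Q :=
  eq_inf_of_maximal hH (fun g hg => mem_subspaceStabilizer_of_inv (hU g hg)) (not_omega_le_subspace C h7 h0 h1)

theorem decomp_eq [Finite F] (C : Orth.Space Q B) (h7 : 7 ≤ Fintype.card ι) (hH : IsMaximalIn (omegaGL Q) H)
    {t m : ℕ} {D : Fin t → Submodule F (ι → F)} (hD : IsMDecomposition m D)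
    (hle : H ≤ decompositionStabilizer D) : H = decompositionStabilizer D ⊓ omegaGL Q :=
  eq_inf_of_maximal hH hle (not_omega_le_decomposition C h7 hD)

theorem plane_basis (C : Orth.Space Q B) {U : Submodule F (ι → F)} (hd : finrank F U = 2) (hn : Orth.NDeg B U)
    (hp : IsPlusTypeOn Q U) : ∃ e f : ι → F, Orth.Hyp Q B U e f ∧ ∀ y ∈ U, ∃ a b : F, a • e + b • f = y := by
  obtain ⟨V, hVU, hVs, hVd⟩ := hp
  obtain ⟨e, he, he0⟩ := Submodule.exists_mem_ne_zero_of_ne_bot (p := V) (fun h => by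
    rw [h, finrank_bot, hd] at hVd
    omega)
  obtain ⟨f, h⟩ := Orth.exists_hyp C hn (hVU he) he0 (hVs e he)
  refine ⟨e, f, h, fun y hy => ⟨B f y, B e y, ?_⟩⟩
  have h1 := h.proj C hy
  have h2 : Orth.perp2 B U e f = ⊥ := by
    rw [Submodule.eq_bot_iff]
    intro z hz
    obtain ⟨hzU, hez, hfz⟩ := Orth.mem_perp2.1 hz
    refine hn z hzU fun w hw => ?_
    have hli : LinearIndependent F ![e, f] := by
      rw [LinearIndependent.pair_iff]
      intro a b hab
      have e1 := congrArg (B e) hab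
      rw [map_add, map_smul, map_smul, C.self_zero h.singE, h.pair, map_zero, smul_zero, zero_add, smul_eq_mul,
        mul_one] at e1
      rw [e1, zero_smul, add_zero] at hab
      exact ⟨(smul_eq_zero.1 hab).resolve_right he0, e1⟩
    have heq : Submodule.span F (Set.range ![e, f]) = U :=
      Submodule.eq_of_le_of_finrank_le (Submodule.span_le.2 (by
        rintro _ ⟨i, rfl⟩
        fin_cases i
        · exact h.memE
        · exact h.memF)) (by rw [finrank_span_eq_card hli, hd, Fintype.card_fin])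
    rw [← heq, Matrix.range_cons_cons_empty, Submodule.mem_span_pair] at hw
    obtain ⟨a, b, rfl⟩ := hw
    rw [map_add, map_smul, map_smul, C.symm z e, hez, C.symm z f, hfz, smul_zero, smul_zero, add_zero]
  rw [h2, Submodule.mem_bot, sub_sub, sub_eq_zero] at h1
  exact h1.symm

/-- The subspaces a maximal reducible subgroup can be the stabiliser of. -/
def RedCase (Q : (ι → F) → F) (m : ℕ) (H : Subgroup (GL ι F)) [Fintype F] : Prop :=
  (∃ U : Submodule F (ι → F), U ≠ ⊥ ∧ IsTotallySingularQuad Q U ∧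
      (IsPlusTypeOn Q (⊤ : Submodule F (ι → F)) → finrank F U + 1 ≠ m) ∧
      H = subspaceStabilizer U ⊓ omegaGL Q) ∨
    (Odd (Fintype.card F) ∧ ∃ U : Submodule F (ι → F), U ≠ ⊥ ∧ U ≠ ⊤ ∧ Odd (finrank F U) ∧ finrank F U ≤ m ∧
      IsNondegenerateOn (QuadraticMap.polar Q) U ∧ InvSub H U ∧ H = subspaceStabilizer U ⊓ omegaGL Q) ∨
    (∃ U : Submodule F (ι → F), finrank F U = 2 ∧ IsNondegenerateOn (QuadraticMap.polar Q) U ∧
      ¬ IsPlusTypeOn Q U ∧ H = subspaceStabilizer U ⊓ omegaGL Q) ∨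
    (4 ≤ Fintype.card F ∧ ∃ U : Submodule F (ι → F), finrank F U = 2 ∧
      IsNondegenerateOn (QuadraticMap.polar Q) U ∧ IsPlusTypeOn Q U ∧
      H = subspaceStabilizer U ⊓ omegaGL Q) ∨
    (∃ U : Submodule F (ι → F), Even (finrank F U) ∧ 4 ≤ finrank F U ∧ finrank F U ≤ m ∧
      IsNondegenerateOn (QuadraticMap.polar Q) U ∧ InvSub H U ∧ H = subspaceStabilizer U ⊓ omegaGL Q) ∨
    (¬ Odd (Fintype.card F) ∧ ∃ v : ι → F, Q v ≠ 0 ∧
      H = subspaceStabilizer (Submodule.span F {v}) ⊓ omegaGL Q)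

/-- A totally singular subspace one short of a half extends to an invariant half. -/
theorem exists_inv_half [Finite F] (C : Orth.Space Q B) {m : ℕ} (h5 : 5 ≤ Fintype.card ι)
    (hcard : Fintype.card ι = 2 * m) (hle : H ≤ omegaGL Q) (hplus : IsPlusTypeOn Q (⊤ : Submodule F (ι → F)))
    {U : Submodule F (ι → F)} (hU : IsTotallySingularQuad Q U) (hinv : InvSub H U) (hd : finrank F U + 1 = m) :
    ∃ A : Submodule F (ι → F), finrank F A = m ∧ IsTotallySingularQuad Q A ∧ InvSub H A := by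
  obtain ⟨A0, -, hA0s, hA0d⟩ := hplus
  rw [finrank_top, finrank_fintype_fun_eq_card] at hA0d
  obtain ⟨a, ha, haU, hUa⟩ := Orth.exists_mem_perp C (A := A0) (W := U) ⟨hA0s, hA0d⟩ (by omega)
  have ha0 : a ≠ 0 := fun h => haU (h ▸ Submodule.zero_mem _)
  set A := U ⊔ Submodule.span F {a} with hA
  have hAs : IsTotallySingularQuad Q A := by
    intro x hx
    obtain ⟨u, hu, z, hz, rfl⟩ := Submodule.mem_sup.1 hx
    obtain ⟨c, rfl⟩ := Submodule.mem_span_singleton.1 hz
    rw [C.add, hU u hu, C.smul, hA0s a ha, map_smul, hUa u hu, mul_zero, smul_zero, add_zero, add_zero]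
  have hAd : finrank F A = m := by
    rw [hA, Submodule.finrank_sup_span_singleton haU]
    exact hd
  refine ⟨A, hAd, hAs, fun g hg w hw => ?_⟩
  have hgI : g ∈ isometryGroup F Q := omegaGL_le_iso (hle hg)
  have hhalf : Orth.IsHalf Q A := ⟨hAs, by omega⟩
  have hpar := Orth.omega_parity C h5 (hle hg) hhalf hhalf
  rw [inf_idem, hAd] at hpar
  have hUle : U ≤ A ⊓ Orth.img g A := fun u hu => ⟨Submodule.mem_sup_left hu,
    Orth.mem_img.2 (Submodule.mem_sup_left (hinv _ (inv_mem hg) u hu))⟩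
  have h1 := Submodule.finrank_mono hUle
  have h2 : finrank F (A ⊓ Orth.img g A : Submodule F (ι → F)) ≤ m :=
    hAd ▸ Submodule.finrank_mono inf_le_left
  have h3 : A ⊓ Orth.img g A = Orth.img g A :=
    Submodule.eq_of_le_of_finrank_le inf_le_right (by rw [Orth.finrank_img, hAd]; omega)
  have h4 : g.val *ᵥ w ∈ Orth.img g A := Orth.mem_img.2 (by rwa [inv_mulVec_mulVec])
  rw [← h3] at h4
  exact h4.1

/-- A maximal reducible subgroup is one of the stabilisers of `RedCase`. -/
theorem reducible_even [Fintype F] (C : Orth.Space Q B) {m : ℕ} (hm : 4 ≤ m) (hcard : Fintype.card ι = 2 * m)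
    (hH : IsMaximalIn (omegaGL Q) H) (hred : ¬ ActsIrreducibly (matrixSet H)) : RedCase Q m H := by
  classical
  rw [irr_iff] at hred
  push Not at hred
  obtain ⟨W, hW, hW0, hW1⟩ := hred
  have h7 : 7 ≤ Fintype.card ι := by omega
  have hHI : H ≤ isometryGroup F Q := fun g hg => omegaGL_le_iso (hH.1.le hg)
  have hB := orth_space_nondegenerate C
  have hR := orth_space_refl C
  have hfr : finrank F (ι → F) = 2 * m := by rw [finrank_fintype_fun_eq_card, hcard]
  have ts_case : ∀ U : Submodule F (ι → F), U ≠ ⊥ → U ≠ ⊤ → IsTotallySingularQuad Q U → InvSub H U →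
      RedCase Q m H := by
    intro U h0 h1 hs hinv
    by_cases hex : IsPlusTypeOn Q (⊤ : Submodule F (ι → F)) ∧ finrank F U + 1 = m
    · obtain ⟨A, hAd, hAs, hAinv⟩ := exists_inv_half C (by omega) hcard hH.1.le hex.1 hs hinv hex.2
      exact Or.inl ⟨A, fun h => by rw [h, finrank_bot] at hAd; omega, hAs, fun _ => by omega,
        stab_eq C h7 hH (fun h => by rw [h, finrank_bot] at hAd; omega)
          (fun h => by rw [h, finrank_top, hfr] at hAd; omega) hAinv⟩
    · push Not at hex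
      exact Or.inl ⟨U, h0, hs, hex, stab_eq C h7 hH h0 h1 hinv⟩
  set R := W ⊓ B.orthogonal W with hRdef
  by_cases hsing : R = ⊥
  swap
  · have hR1 : R ≠ ⊤ := fun h => hW1 (eq_top_iff.2 (h ▸ inf_le_left))
    have hRinv : InvSub H R := fun g hg w hw => ⟨hW g hg w hw.1, orth_perp_inv C hHI hW g hg w hw.2⟩
    have hBR : ∀ x ∈ R, ∀ y ∈ R, B x y = 0 := fun x hx y hy => hy.2 x hx.1
    by_cases h2 : (2 : F) = 0
    swap
    · refine ts_case R hsing hR1 (fun w hw => ?_) hRinv
      have h1 : B w w = 0 := hBR w hw w hw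
      rw [C.self] at h1
      exact (mul_eq_zero.1 h1).resolve_left h2
    let R0 : Submodule F (ι → F) :=
      { carrier := {x | x ∈ R ∧ Q x = 0}
        add_mem' := fun {x y} hx hy =>
          ⟨R.add_mem hx.1 hy.1, by rw [C.add, hx.2, hy.2, hBR x hx.1 y hy.1, add_zero, add_zero]⟩
        zero_mem' := ⟨R.zero_mem, C.zero⟩
        smul_mem' := fun c x hx => ⟨R.smul_mem c hx.1, by rw [C.smul, hx.2, mul_zero]⟩ }
    by_cases hR0 : R0 = ⊥
    swap
    · exact ts_case R0 hR0 (fun h => hR1 (eq_top_iff.2 fun x _ => (show x ∈ R0 from h ▸ trivial).1))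
        (fun w hw => hw.2) fun g hg w hw => ⟨hRinv g hg w hw.1, by rw [Orth.mem_iso.1 (hHI hg)]; exact hw.2⟩
    obtain ⟨v, hv, hv0⟩ := Submodule.exists_mem_ne_zero_of_ne_bot hsing
    have hQv : Q v ≠ 0 := fun h => hv0 ((Submodule.mem_bot F).1 (hR0 ▸ (⟨hv, h⟩ : v ∈ R0)))
    haveI : CharP F 2 := CharTwo.of_one_ne_zero_of_two_eq_zero one_ne_zero h2
    have hspan : R = Submodule.span F {v} := by
      refine le_antisymm (fun x hx => ?_) ((Submodule.span_singleton_le_iff_mem _ _).2 hv)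
      obtain ⟨c, hc⟩ := Finite.surjective_of_injective (frobenius_inj F 2) (Q x / Q v)
      rw [frobenius_def] at hc
      have hmem : x - c • v ∈ R0 := by
        refine ⟨R.sub_mem hx (R.smul_mem c hv), ?_⟩
        rw [sub_eq_add_neg, ← neg_smul, C.add, C.smul, map_smul, hBR x hx v hv, smul_zero, add_zero, neg_sq, hc,
          div_mul_cancel₀ _ hQv]
        linear_combination (Q x) * h2
      rw [hR0, Submodule.mem_bot, sub_eq_zero] at hmem
      exact Submodule.mem_span_singleton.2 ⟨c, hmem.symm⟩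
    exact Or.inr (Or.inr (Or.inr (Or.inr (Or.inr ⟨two_zero_iff.1 h2, v, hQv,
      hspan ▸ stab_eq C h7 hH hsing hR1 hRinv⟩))))
  have hW'd := LinearMap.BilinForm.finrank_orthogonal hB W
  rw [hfr] at hW'd
  have hlt : finrank F W < 2 * m := hfr ▸ Submodule.finrank_lt hW1
  have hpos : 0 < finrank F W := Nat.pos_of_ne_zero fun h => hW0 (Submodule.finrank_eq_zero.1 h)
  obtain ⟨U, hU0, hU1, hUinv, hUm, hUs⟩ : ∃ U : Submodule F (ι → F), U ≠ ⊥ ∧ U ≠ ⊤ ∧ InvSub H U ∧
      finrank F U ≤ m ∧ U ⊓ B.orthogonal U = ⊥ := by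
    rcases Nat.lt_or_ge m (finrank F W) with h | h
    swap
    · exact ⟨W, hW0, hW1, hW, h, hsing⟩
    refine ⟨B.orthogonal W, fun h' => ?_, fun h' => ?_, orth_perp_inv C hHI hW, by omega, ?_⟩
    · rw [h', finrank_bot] at hW'd; omega
    · rw [h', finrank_top, hfr] at hW'd; omega
    · rw [LinearMap.BilinForm.orthogonal_orthogonal hB hR, inf_comm]
      exact hsing
  have hgeo := orth_nondegenerateOn C hUs
  have hn := Orth.ndeg_of_geo C hgeo
  have hH' := stab_eq C h7 hH hU0 hU1 hUinv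
  rcases Nat.even_or_odd (finrank F U) with hev | hod
  swap
  · refine Or.inr (Or.inl ⟨?_, U, hU0, hU1, hod, hUm, hgeo, hUinv, hH'⟩)
    refine odd_of_two_ne fun h2 => ?_
    exact (Nat.not_even_iff_odd.2 hod) (even_of_ndeg C h2 hn)
  have hpos' : 0 < finrank F U := Nat.pos_of_ne_zero fun h => hU0 (Submodule.finrank_eq_zero.1 h)
  by_cases hd2 : finrank F U = 2
  swap
  · exact Or.inr (Or.inr (Or.inr (Or.inr (Or.inl
      ⟨U, hev, by obtain ⟨j, hj⟩ := hev; omega, hUm, hgeo, hUinv, hH'⟩))))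
  by_cases hp : IsPlusTypeOn Q U
  swap
  · exact Or.inr (Or.inr (Or.inl ⟨U, hd2, hgeo, hp, hH'⟩))
  by_cases h4 : 4 ≤ Fintype.card F
  · exact Or.inr (Or.inr (Or.inr (Or.inl ⟨h4, U, hd2, hgeo, hp, hH'⟩)))
  obtain ⟨e, f, hef, hspan⟩ := plane_basis C hd2 hn hp
  set x := e + f with hx
  have hQx : Q x = 1 := by rw [hx, C.add, hef.singE, hef.singF, hef.pair, zero_add, zero_add]
  have hx0 : x ≠ 0 := fun h => one_ne_zero (hQx.symm.trans (h ▸ C.zero))
  have hxinv : InvSub H (Submodule.span F {x}) := by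
    intro g hg v hv
    obtain ⟨t, rfl⟩ := Submodule.mem_span_singleton.1 hv
    rw [Matrix.mulVec_smul]
    refine Submodule.smul_mem _ _ ?_
    obtain ⟨a, b, hab⟩ := hspan _ (hUinv g hg x (U.add_mem hef.memE hef.memF))
    have h1 : a * b = 1 := by
      have := Orth.mem_iso.1 (hHI hg) x
      rw [← hab, C.smul_add, hef.singE, hef.singF, hef.pair, hQx] at this
      linear_combination this
    have ha : a = b := by
      have h2' := FiniteField.pow_card_sub_one_eq_one a (left_ne_zero_of_mul_eq_one h1)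
      have := Fintype.one_lt_card (α := F)
      rcases (show Fintype.card F = 2 ∨ Fintype.card F = 3 by omega) with hq | hq <;> rw [hq] at h2'
      · rw [show a = 1 by simpa using h2', one_mul] at h1
        rw [h1, show a = 1 by simpa using h2']
      · linear_combination b * h2' - a * h1
    refine Submodule.mem_span_singleton.2 ⟨a, ?_⟩
    rw [← hab, ← ha, hx, smul_add]
  have hxd : finrank F (Submodule.span F {x}) = 1 := finrank_span_singleton hx0
  have hxH := stab_eq C h7 hH (fun h => by rw [h, finrank_bot] at hxd; omega)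
    (fun h => by rw [h, finrank_top, hfr] at hxd; omega) hxinv
  by_cases h2 : (2 : F) = 0
  · exact Or.inr (Or.inr (Or.inr (Or.inr (Or.inr
      ⟨two_zero_iff.1 h2, x, by rw [hQx]; exact one_ne_zero, hxH⟩))))
  refine Or.inr (Or.inl ⟨odd_of_two_ne h2, _, fun h => by rw [h, finrank_bot] at hxd; omega,
    fun h => by rw [h, finrank_top, hfr] at hxd; omega, by rw [hxd]; exact odd_one, by omega,
    orth_nondegenerateOn C ?_, hxinv, hxH⟩)
  exact LinearMap.BilinForm.span_singleton_inf_orthogonal_eq_bot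
    (by rw [C.self, hQx, mul_one]; exact h2)

/-- The two members of a complementary orthogonal pair of non-degenerate subspaces. -/
theorem pair_decomp (C : Orth.Space Q B) {U : Submodule F (ι → F)} {k : ℕ} (hk : 1 ≤ k)
    (hcard : Fintype.card ι = 2 * k) (hd : finrank F U = k) (hn : Orth.NDeg B U)
    (hHI : H ≤ isometryGroup F Q) (hU : InvSub H U) [Finite F] :
    finrank F (B.orthogonal U) = k ∧ Orth.NDeg B (B.orthogonal U) ∧
      IsNondegenerateMDecomposition (QuadraticMap.polar Q) k ![U, B.orthogonal U] ∧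
      H ≤ decompositionStabilizer ![U, B.orthogonal U] := by
  have hB := orth_space_nondegenerate C
  have hR := orth_space_refl C
  have hUs : U ⊓ B.orthogonal U = ⊥ := (Submodule.eq_bot_iff _).2 fun x hx =>
    hn x hx.1 fun y hy => by rw [C.symm]; exact hx.2 y hy
  have hd' : finrank F (B.orthogonal U) = k := by
    rw [LinearMap.BilinForm.finrank_orthogonal hB, finrank_fintype_fun_eq_card, hcard, hd]; omega
  have hn' : Orth.NDeg B (B.orthogonal U) := Orth.ndeg_of_geo C (orth_nondegenerateOn C (by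
    rw [LinearMap.BilinForm.orthogonal_orthogonal hB hR, inf_comm]; exact hUs))
  have hcompl : IsCompl U (B.orthogonal U) :=
    ⟨disjoint_iff.2 hUs, codisjoint_iff.2 (Submodule.eq_top_of_disjoint _ _
      (by rw [finrank_fintype_fun_eq_card, hcard, hd, hd']; omega) (disjoint_iff.2 hUs))⟩
  refine ⟨hd', hn', ⟨⟨le_rfl, hk, fun i => ?_, ?_, ?_⟩, fun i => ?_, fun i j hij u hu v hv => ?_⟩,
    fun g hg => ⟨1, fun i => ?_⟩⟩
  · fin_cases i
    exacts [hd, hd']
  · exact iSupIndep_pair (i := (0 : Fin 2)) (j := 1) (by decide) (fun a => by fin_cases a <;> simp) |>.2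
      hcompl.disjoint
  · rw [eq_top_iff, ← hcompl.sup_eq_top]
    exact sup_le (le_iSup ![U, B.orthogonal U] 0) (le_iSup ![U, B.orthogonal U] 1)
  · fin_cases i
    exacts [Orth.geo_of_ndeg C hn, Orth.geo_of_ndeg C hn']
  · fin_cases i <;> fin_cases j
    · exact absurd rfl hij
    · rw [C.polar]; exact hv u hu
    · rw [C.polar, C.symm]; exact hu v hv
    · exact absurd rfl hij
  · refine Submodule.eq_of_le_of_finrank_le ?_ ?_
    · rintro _ ⟨w, hw, rfl⟩
      rw [Matrix.toLin'_apply]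
      fin_cases i
      · exact hU g hg w hw
      · exact orth_perp_inv C hHI hU g hg w hw
    · refine le_of_eq (Eq.symm ?_)
      rw [← LinearEquiv.finrank_eq (Submodule.equivMapOfInjective _ (fun a c hac => by
        rw [Matrix.toLin'_apply, Matrix.toLin'_apply] at hac
        simpa only [inv_mulVec_mulVec] using congrArg ((g⁻¹).val *ᵥ ·) hac) _)]
      rfl

end Cfsg.Lib.Linear.AschOrth
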