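import Cfsg.Agent.Lib.Linear.AschOrth.Basic
import Cfsg.Agent.Lib.Linear.FormsNormal
import Cfsg.Agent.Lib.Linear.FrameNotMax

/-!
# Odd-dimensional forms are scalar multiples of the unit form; frames over three elements
-/

set_option autoImplicit false
set_option linter.unusedSectionVars false
set_option linter.style.haveILetI false

namespace Cfsg.Lib.Linear.AschOrth

open Cfsg.Geo Cfsg.Lib.Linear Cfsg.Lib.Linear.Asch Module
open scoped Matrix MatrixGroups

variable {F : Type*} [Field F]

/-- In odd dimension over a finite field of odd order some basis is orthogonal with equal values. -/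
theorem exists_scalar_basis [Finite F] {V : Type*} [AddCommGroup V] [Module F V] [FiniteDimensional F V]
    (h2 : (2 : F) ≠ 0) (B : LinearMap.BilinForm F V) (hS : ∀ x y, B x y = B y x)
    (hB : ∀ x, (∀ y, B x y = 0) → x = 0) {n : ℕ} (hn : Even n) (hV : finrank F V = n + 1) :
    ∃ (b : Basis (Fin (n + 1)) F V) (c : F), c ≠ 0 ∧ ∀ i j, B (b i) (b j) = if i = j then c else 0 := by
  classical
  have := Fintype.ofFinite F
  have hchar : ringChar F ≠ 2 := fun h => h2 (by
    haveI := ringChar.charP F
    have := CharP.cast_eq_zero F (ringChar F)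
    rw [h] at this
    exact_mod_cast this)
  obtain ⟨α, hα⟩ := FiniteField.exists_nonsquare hchar
  let b0 := finBasisOfFinrankEq F V hV
  set d := (LinearMap.BilinForm.toMatrix b0 B).det with hd
  have hd0 : d ≠ 0 := (LinearMap.BilinForm.nondegenerate_iff_det_ne_zero b0).1
    ⟨hB, fun y hy => hB y fun x => by rw [hS]; exact hy x⟩
  obtain ⟨b, ho, h1, hl⟩ := Forms.exists_normal_basis h2 (d • B) (fun x y => by
      simp only [LinearMap.smul_apply, hS x y])
    (fun x hx => hB x fun y => (smul_eq_zero.1 (hx y)).resolve_left hd0) hV α hα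
  have hone : ∀ i, (d • B) (b i) (b i) = 1 := by
    intro i
    by_cases hi : i = Fin.last n
    swap
    · exact h1 i hi
    subst hi
    rcases hl with h | h
    · exact h
    exfalso
    have hdiag : LinearMap.BilinForm.toMatrix b (d • B) = Matrix.diagonal fun i => (d • B) (b i) (b i) := by
      ext i j
      rw [LinearMap.BilinForm.toMatrix_apply]
      rcases eq_or_ne i j with rfl | hij
      · rw [Matrix.diagonal_apply_eq]
      · rw [Matrix.diagonal_apply_ne _ hij, ho i j hij]
    have h3 := congrArg Matrix.det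
      (LinearMap.BilinForm.toMatrix_mul_basis_toMatrix (b := b0) b (d • B))
    rw [hdiag, Matrix.det_diagonal, Finset.prod_eq_single (Fin.last n) (fun i _ hi => h1 i hi)
      (fun hne => absurd (Finset.mem_univ _) hne), h, Matrix.det_mul, Matrix.det_mul, Matrix.det_transpose,
      map_smul, Matrix.det_smul, ← hd, Fintype.card_fin] at h3
    obtain ⟨k, hk⟩ := hn
    have hp : d ^ (n + 1) * d = d ^ (k + 1) * d ^ (k + 1) := by
      rw [← pow_succ, ← pow_add]; congr 1; omega
    rw [hp] at h3
    exact hα ⟨(b0.toMatrix b).det * d ^ (k + 1), by rw [← h3]; ring⟩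
  refine ⟨b, d⁻¹, inv_ne_zero hd0, fun i j => ?_⟩
  have h4 : d * B (b i) (b j) = if i = j then 1 else 0 := by
    rcases eq_or_ne i j with rfl | hij
    · rw [if_pos rfl]; exact hone i
    · rw [if_neg hij]; exact ho i j hij
  split_ifs with hij
  · rw [if_pos hij] at h4; exact eq_inv_of_mul_eq_one_right h4
  · rw [if_neg hij] at h4; exact (mul_eq_zero.1 h4).resolve_left hd0

/-- An odd-sized invertible symmetric matrix is congruent to a scalar. -/
theorem exists_scalar_congr [Finite F] (h2 : (2 : F) ≠ 0) {n : ℕ} (hn : Even n)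
    {A : Matrix (Fin (n + 1)) (Fin (n + 1)) F} (hA : Aᵀ = A) (hAu : IsUnit A.det) :
    ∃ (T : GL (Fin (n + 1)) F) (c : F), c ≠ 0 ∧ T.valᵀ * A * T.val = c • 1 := by
  classical
  have hswap : ∀ x y : Fin (n + 1) → F, x ⬝ᵥ A *ᵥ y = y ⬝ᵥ A *ᵥ x := fun x y => by
    rw [Matrix.dotProduct_mulVec, ← Matrix.mulVec_transpose, hA, dotProduct_comm]
  obtain ⟨b, c, hc, hb⟩ := exists_scalar_basis h2 (Matrix.toBilin' A)
    (fun x y => by rw [Matrix.toBilin'_apply', Matrix.toBilin'_apply', hswap])
    (fun x hx => (Matrix.mulVec_injective_iff_isUnit.2 ((Matrix.isUnit_iff_isUnit_det A).2 hAu))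
      (by
        rw [Matrix.mulVec_zero]
        funext i
        have h1 := hx (Pi.single i 1)
        rw [Matrix.toBilin'_apply', hswap, single_dotProduct, one_mul] at h1
        exact h1)) hn (Module.finrank_fin_fun F)
  let T : Matrix (Fin (n + 1)) (Fin (n + 1)) F := (Pi.basisFun F (Fin (n + 1))).toMatrix b
  let T' : Matrix (Fin (n + 1)) (Fin (n + 1)) F := b.toMatrix (Pi.basisFun F (Fin (n + 1)))
  refine ⟨⟨T, T', Basis.toMatrix_mul_toMatrix_flip _ _, Basis.toMatrix_mul_toMatrix_flip _ _⟩, c, hc,
    Matrix.ext fun i j => ?_⟩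
  show (Tᵀ * A * T) i j = _
  have hcol : ∀ k, T.col k = b k := fun k => funext fun l => by simp [T, Basis.toMatrix_apply]
  have h1 := hb i j
  rw [Matrix.toBilin'_apply'] at h1
  rw [Matrix.smul_apply, Matrix.one_apply, smul_eq_mul, mul_ite, mul_one, mul_zero, ← h1, ← hcol, ← hcol,
    Matrix.mul_assoc, Matrix.mul_apply]
  simp only [dotProduct, Matrix.mulVec, Matrix.mul_apply, Matrix.transpose_apply, Matrix.col_apply]

/-- Over three elements a sum of three squares equals one only when one of the three is non-zero. -/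
theorem one_nonzero [Fintype F] (hq : Fintype.card F = 3) {a : Fin 3 → F} (ha : ∑ j, a j ^ 2 = 1) :
    ∃ l, ∀ r, r ≠ l → a r = 0 := by
  have h3 : (3 : F) = 0 := by
    have := Nat.cast_card_eq_zero F
    rw [hq] at this
    exact_mod_cast this
  have hsq : ∀ x : F, x ≠ 0 → x ^ 2 = 1 := fun x hx => by
    have := FiniteField.pow_card_sub_one_eq_one x hx
    rwa [hq] at this
  rw [Fin.sum_univ_three] at ha
  by_cases g0 : a 0 = 0 <;> by_cases g1 : a 1 = 0 <;> by_cases g2 : a 2 = 0
  all_goals first
    | (refine ⟨0, fun r hr => ?_⟩; fin_cases r <;> first | exact g1 | exact g2 | exact (hr rfl).elim)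
    | (refine ⟨1, fun r hr => ?_⟩; fin_cases r <;> first | exact g0 | exact g2 | exact (hr rfl).elim)
    | (refine ⟨2, fun r hr => ?_⟩; fin_cases r <;> first | exact g0 | exact g1 | exact (hr rfl).elim)
    | (exfalso
       simp only [g0, g1, g2, hsq _, ne_eq, not_false_iff, zero_pow, two_ne_zero] at ha
       first
         | exact one_ne_zero (α := F) (by linear_combination ha)
         | exact one_ne_zero (α := F) (by linear_combination -ha)
         | exact one_ne_zero (α := F) (by linear_combination h3 - ha))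

variable {ι : Type} [Fintype ι] [DecidableEq ι] {Q : (ι → F) → F} {B : LinearMap.BilinForm F (ι → F)}

/-- Over three elements the stabiliser of a decomposition into three-spaces permutes a frame. -/
theorem three_blocks [Fintype F] (hq : Fintype.card F = 3) (C : Orth.Space Q B) (h2 : (2 : F) ≠ 0) {t r : ℕ}
    (hcard : Fintype.card ι = r) {D : Fin t → Submodule F (ι → F)} (hD : IsOrthogonalMDecomposition Q 3 D)
    {H : Subgroup (GL ι F)} (hH : H ≤ isometryGroup F Q) (hle : H ≤ decompositionStabilizer D) :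
    ∃ D' : Fin r → Submodule F (ι → F), IsOrthogonalMDecomposition Q 1 D' ∧ H ≤ decompositionStabilizer D' := by
  classical
  have ht := hD.decomp.decomp.two_le
  let i0 : Fin t := ⟨0, by omega⟩
  let U := D i0
  let BU : LinearMap.BilinForm F U := B.restrict U
  have hBU : ∀ x : U, (∀ y, BU x y = 0) → x = 0 := by
    intro x hx
    by_contra hne
    obtain ⟨-, y, hy, hxy⟩ := hD.decomp.nondegenerate i0 x x.2 fun h => hne (Subtype.ext h)
    exact hxy (by rw [C.polar]; exact hx ⟨y, hy⟩)
  obtain ⟨b, c, hc, hb⟩ := exists_scalar_basis h2 BU (fun x y => C.symm _ _) hBU (n := 2) (by decide)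
    (hD.decomp.decomp.finrank_eq i0)
  choose e he using fun i => hD.isometric i0 i
  let w : Fin t → Fin 3 → ι → F := fun i j => ((e i (b j) : D i) : ι → F)
  have hQw : ∀ i j, Q (w i j) = c / 2 := fun i j => by
    rw [show Q (w i j) = Q ((b j : U) : ι → F) from he i (b j), eq_div_iff h2, mul_comm, ← C.self]
    have := hb j j
    rwa [if_pos rfl] at this
  have hQw0 : ∀ i j, Q (w i j) ≠ 0 := fun i j => by rw [hQw]; exact div_ne_zero hc h2
  have hwo : ∀ i j l, j ≠ l → B (w i j) (w i l) = 0 := fun i j l h => by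
    have h1 := he i (b j + b l)
    rw [map_add, Submodule.coe_add, Submodule.coe_add, C.add, C.add] at h1
    have h4 : B ((b j : U) : ι → F) ((b l : U) : ι → F) = 0 := by
      have := hb j l
      rwa [if_neg h] at this
    rw [show Q ((e i (b j) : D i) : ι → F) = Q ((b j : U) : ι → F) from he i (b j),
      show Q ((e i (b l) : D i) : ι → F) = Q ((b l : U) : ι → F) from he i (b l), h4] at h1
    simpa [w] using h1
  have hr : r = t * 3 := hcard.symm.trans (decomp_card hD.decomp.decomp).symm
  subst hr
  let v : Fin (t * 3) → ι → F := fun p => w (finProdFinEquiv.symm p).1 (finProdFinEquiv.symm p).2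
  refine lines_of_frame C h2 hcard (by omega) hc (v := v) (fun p p' => ?_) hH fun g hg p => ?_
  · split_ifs with hpp
    · subst hpp
      rw [C.self, hQw, mul_div_cancel₀ _ h2]
    · have hne : finProdFinEquiv.symm p ≠ finProdFinEquiv.symm p' := fun h =>
        hpp (finProdFinEquiv.symm.injective h)
      by_cases h1 : (finProdFinEquiv.symm p).1 = (finProdFinEquiv.symm p').1
      · simp only [v, h1]
        exact hwo _ _ _ fun h => hne (Prod.ext h1 h)
      · rw [← C.polar]
        exact hD.decomp.orthogonal _ _ h1 _ (e _ _).2 _ (e _ _).2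
  · obtain ⟨σ, hσ⟩ := hle hg
    set i := (finProdFinEquiv.symm p).1 with hi
    set j := (finProdFinEquiv.symm p).2 with hj
    have hm : g.val *ᵥ w i j ∈ D (σ i) := by
      rw [← hσ]
      exact ⟨_, (e i (b j)).2, Matrix.toLin'_apply _ _⟩
    obtain ⟨a, ha, hQa⟩ := Orth.orth_coords C h2 (hD.decomp.decomp.finrank_eq (σ i))
      (fun l => (e (σ i) (b l)).2) (hQw0 (σ i)) (hwo (σ i)) hm
    rw [Orth.mem_iso.1 (hH hg)] at hQa
    simp only [show ∀ l, Q ((e (σ i) (b l) : D (σ i)) : ι → F) = c / 2 from hQw (σ i), hQw,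
      ← Finset.sum_mul] at hQa
    obtain ⟨l, hl⟩ := one_nonzero hq (a := a)
      (mul_right_cancel₀ (div_ne_zero hc h2) (by rw [one_mul]; exact hQa.symm))
    refine ⟨finProdFinEquiv (σ i, l), ?_⟩
    simp only [v, Equiv.symm_apply_apply, ← hi, ← hj]
    rw [ha, Finset.sum_eq_single l (fun r _ hr => by rw [hl r hr, zero_smul])
      (fun h => absurd (Finset.mem_univ l) h)]
    exact Submodule.smul_mem _ _ (Submodule.mem_span_singleton_self _)

end Cfsg.Lib.Linear.AschOrth
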