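import Cfsg.Agent.Lib.Linear.AschOrth.Basic
import Cfsg.Agent.Lib.Linear.AschOrth.Forms
import Cfsg.Agent.Lib.Linear.FormsHalf
import Cfsg.Agent.Lib.Linear.NondegFix.TypeSum
import Cfsg.Agent.Lib.Linear.SympInvolution
import Cfsg.Agent.Lib.Linear.IsotropicFix.OrthSquare

/-!
# Types of even-dimensional subspaces and of orthogonal decompositions
-/

set_option autoImplicit false
set_option linter.unusedSectionVars false
set_option linter.style.haveILetI false

namespace Cfsg.Lib.Linear.AschOrth

open Cfsg.Geo Cfsg.Lib.Linear Cfsg.Lib.Linear.Asch Module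
open scoped Matrix MatrixGroups

variable {ι : Type} [Fintype ι] [DecidableEq ι] {F : Type*} [Field F]
  {Q : (ι → F) → F} {B : LinearMap.BilinForm F (ι → F)}

theorem finrank_eq_of_isometric {W W' : Submodule F (ι → F)} (h : AreIsometricFor Q W W') :
    finrank F W = finrank F W' :=
  h.elim fun e _ => e.finrank_eq

theorem plus_of_isometric {W W' : Submodule F (ι → F)} (h : AreIsometricFor Q W W') (hp : IsPlusTypeOn Q W) :
    IsPlusTypeOn Q W' := by
  obtain ⟨e, he⟩ := h
  obtain ⟨U, hUW, hU, hd⟩ := hp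
  have hinj : Function.Injective (W'.subtype.comp e.toLinearMap) := W'.subtype_injective.comp e.injective
  refine ⟨(U.comap W.subtype).map (W'.subtype.comp e.toLinearMap), ?_, ?_, ?_⟩
  · rintro _ ⟨x, -, rfl⟩
    exact (e x).2
  · rintro _ ⟨x, hx, rfl⟩
    show Q ((e x : W') : ι → F) = 0
    rw [he]
    exact hU _ hx
  · rw [← (Submodule.equivMapOfInjective _ hinj _).finrank_eq, ← e.finrank_eq,
      (Submodule.comapSubtypeEquivOfLe hUW).finrank_eq, hd]

theorem plus_iff_of_isometric {W W' : Submodule F (ι → F)} (h : AreIsometricFor Q W W') :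
    IsPlusTypeOn Q W ↔ IsPlusTypeOn Q W' := by
  refine ⟨plus_of_isometric h, plus_of_isometric ?_⟩
  obtain ⟨e, he⟩ := h
  exact ⟨e.symm, fun w => by rw [← he (e.symm w), e.apply_symm_apply]⟩

/-- Even-dimensional subspaces of the same type are isometric. -/
theorem isometric_of_type [Finite F] (C : Orth.Space Q B) {W W' : Submodule F (ι → F)} {k : ℕ} (hk : 1 ≤ k)
    (hd : finrank F W = 2 * k) (hd' : finrank F W' = 2 * k) (hn : Orth.NDeg B W) (hn' : Orth.NDeg B W')
    (ht : IsPlusTypeOn Q W ↔ IsPlusTypeOn Q W') : AreIsometricFor Q W W' := by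
  have key : ∀ {μ : Type} [Fintype μ] [DecidableEq μ] {R : (μ → F) → F}
      {D : LinearMap.BilinForm F (μ → F)}, Orth.Space R D → ∀ (E E' : (μ → F) →ₗ[F] (ι → F)),
      (∀ v, Q (E v) = R v) → (∀ v, Q (E' v) = R v) →
      AreIsometricFor Q (LinearMap.range E) (LinearMap.range E') := by
    intro μ _ _ R D CR E E' hE hE'
    refine ⟨(LinearEquiv.ofInjective E (NondegFix.embed_injective C CR hE)).symm.trans
      (LinearEquiv.ofInjective E' (NondegFix.embed_injective C CR hE')), fun w => ?_⟩
    obtain ⟨v, rfl⟩ := (LinearEquiv.ofInjective E (NondegFix.embed_injective C CR hE)).surjective w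
    rw [LinearEquiv.trans_apply, LinearEquiv.symm_apply_apply]
    exact (hE' v).trans (hE v).symm
  by_cases hp : IsPlusTypeOn Q W
  · obtain ⟨E, hE, rfl⟩ := (NondegFix.plus_pred_iff C hk W).1 ⟨hd, Orth.geo_of_ndeg C hn, hp⟩
    obtain ⟨E', hE', rfl⟩ := (NondegFix.plus_pred_iff C hk W').1 ⟨hd', Orth.geo_of_ndeg C hn', ht.1 hp⟩
    obtain ⟨D, CR⟩ := Orth.exists_space_plus (F := F) k
    exact key CR E E' hE hE'
  · obtain ⟨j, rfl⟩ : ∃ j, k = j + 1 := ⟨k - 1, by omega⟩
    rcases NondegFix.exists_std C hk hd hn with ⟨E, hE, rfl⟩ | ⟨ζ, hζ, E, hE, rfl⟩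
    · exact absurd (NondegFix.plus_type C hE).2.2 hp
    obtain ⟨E', hE', rfl⟩ :=
      (NondegFix.minus_pred_iff C (j := j) hζ W').1 ⟨hd', Orth.geo_of_ndeg C hn', fun h => hp (ht.2 h)⟩
    obtain ⟨D, CR⟩ := Orth.exists_space_minus j 1 ζ hζ
    exact key CR E E' hE hE'

/-- The type of an orthogonal decomposition into isometric blocks of even dimension. -/
theorem blocks_type [Finite F] (C : Orth.Space Q B) {t a : ℕ} {D : Fin t → Submodule F (ι → F)}
    (hD : IsOrthogonalMDecomposition Q (2 * a) D) (i0 : Fin t) :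
    IsPlusTypeOn Q (⊤ : Submodule F (ι → F)) ↔ (IsPlusTypeOn Q (D i0) ∨ Even t) := by
  classical
  have key : ∀ s : Finset (Fin t), Orth.NDeg B (s.sup D) ∧ finrank F ↥(s.sup D) = 2 * (a * s.card) ∧
      (IsPlusTypeOn Q (s.sup D) ↔ (IsPlusTypeOn Q (D i0) ∨ Even s.card)) := by
    intro s
    induction s using Finset.induction_on with
    | empty =>
      simpa using ⟨NondegFix.ndeg_bot, NondegFix.plus_bot Q C.zero⟩
    | insert i s hi ih =>
      obtain ⟨hn, hd, ht⟩ := ih
      have hni := Orth.ndeg_of_geo C (hD.decomp.nondegenerate i)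
      have horth : ∀ x ∈ D i, ∀ y ∈ s.sup D, B x y = 0 := fun x hx y hy => by
        have h : s.sup D ≤ LinearMap.ker (B x) := Finset.sup_le fun j hj z hz => by
          rw [LinearMap.mem_ker, ← C.polar]
          exact hD.decomp.orthogonal i j (fun h => hi (h ▸ hj)) x hx z hz
        exact LinearMap.mem_ker.1 (h hy)
      obtain ⟨h1, h2⟩ := NondegFix.ndeg_sup C hni hn horth
      rw [Finset.sup_insert, Finset.card_insert_of_notMem hi]
      refine ⟨h1, ?_, ?_⟩
      · rw [h2, hd, hD.decomp.decomp.finrank_eq i]; ring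
      · rw [NondegFix.type_sum C (hD.decomp.decomp.finrank_eq i) hd hni hn horth, ht,
          plus_iff_of_isometric (hD.isometric i i0), Nat.even_add_one]
        tauto
  obtain ⟨-, -, h⟩ := key Finset.univ
  have htop : (Finset.univ : Finset (Fin t)).sup D = ⊤ := by
    rw [Finset.sup_univ_eq_iSup]; exact hD.decomp.decomp.iSup_eq_top
  rwa [htop, Finset.card_univ, Fintype.card_fin] at h

/-- A plane without singular lines. -/
theorem aniso_plane (C : Orth.Space Q B) {W : Submodule F (ι → F)} (hd : finrank F W = 2)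
    (hm : ¬ IsPlusTypeOn Q W) {x : ι → F} (hx : x ∈ W) (h : Q x = 0) : x = 0 := by
  by_contra hne
  refine hm ⟨Submodule.span F {x}, (Submodule.span_singleton_le_iff_mem _ _).2 hx, fun y hy => ?_, ?_⟩
  · obtain ⟨c, rfl⟩ := Submodule.mem_span_singleton.1 hy
    rw [C.smul, h, mul_zero]
  · rw [finrank_span_singleton hne, hd]

/-- In even characteristic a non-degenerate subspace has even dimension. -/
theorem even_of_ndeg (C : Orth.Space Q B) (h2 : (2 : F) = 0) {W : Submodule F (ι → F)} (hW : Orth.NDeg B W) :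
    Even (finrank F W) :=
  SympInv.even_finrank B _ W le_rfl (fun w _ => by rw [C.self, h2, zero_mul]) fun x hx hx0 => by
    by_contra hne
    push Not at hne
    exact hx0 (hW x hx hne)

/-- The type of a space with an orthogonal frame. -/
theorem frame_type [Fintype F] (C : Orth.Space Q B) (h2 : (2 : F) ≠ 0) {N : ℕ} (hN : 1 ≤ N)
    (hcard : Fintype.card ι = 2 * N) {κ : Type} [Fintype κ] [DecidableEq κ] (hκ : Fintype.card κ = 2 * N)
    {v : κ → ι → F} {c : κ → F} (hc : ∀ i, c i ≠ 0) (hv : ∀ i j, B (v i) (v j) = if i = j then c i else 0) :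
    IsPlusTypeOn Q (⊤ : Submodule F (ι → F)) ↔ IsSquare ((-1 : F) ^ N * ∏ i, c i) := by
  have hli : LinearIndependent F v :=
    Forms.orth_li B v (fun i j h => by rw [hv, if_neg h]) fun i => by rw [hv, if_pos rfl]; exact hc i
  have hV : finrank F (ι → F) = 2 * N := by rw [finrank_fintype_fun_eq_card, hcard]
  haveI : Nonempty κ := Fintype.card_pos_iff.1 (by omega)
  let b := basisOfLinearIndependentOfCardEqFinrank hli (by rw [hV, hκ])
  have hdet : (LinearMap.BilinForm.toMatrix b B).det = ∏ i, c i := by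
    rw [show LinearMap.BilinForm.toMatrix b B = Matrix.diagonal c by
      ext i j
      rw [LinearMap.BilinForm.toMatrix_apply]
      simp only [b, coe_basisOfLinearIndependentOfCardEqFinrank, hv, Matrix.diagonal_apply], Matrix.det_diagonal]
  constructor
  · rintro ⟨U, -, hU, hd⟩
    rw [finrank_top, hV] at hd
    have h := Forms.half_disc B C.symm hV U (by omega) (fun x hx y hy => Orth.ts_orth C hU hx hy) b
    rwa [hdet] at h
  · intro h
    obtain ⟨X, hXd, hX⟩ := Forms.half_exists h2 B C.symm hN hV b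
      (by rw [hdet]; exact Finset.prod_ne_zero_iff.2 fun i _ => hc i) (by rwa [hdet])
    refine ⟨X, le_top, fun x hx => ?_, by rw [hXd, finrank_top, hV]⟩
    have h1 := hX x hx x hx
    rw [C.self] at h1
    exact (mul_eq_zero.1 h1).resolve_left h2

/-- A product which is a square exactly when minus one is, is a square. -/
theorem sq_of_neg_iff [Fintype F] (h2 : (2 : F) ≠ 0) {x : F} (hx : x ≠ 0)
    (h : IsSquare (-x) ↔ IsSquare (-1 : F)) : IsSquare x := by
  by_cases hm : IsSquare (-1 : F)
  · have := (h.2 hm).mul hm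
    simpa using this
  · have := IsoFix.isSquare_mul_of_not h2 (fun hh => hm (h.1 hh)) hm
    simpa using this

/-- A plane of the type of `x ^ 2 + y ^ 2` has an orthogonal pair with equal values. -/
theorem plane_frame [Fintype F] (C : Orth.Space Q B) (h2 : (2 : F) ≠ 0) {W : Submodule F (ι → F)}
    (hd : finrank F W = 2) (hW : Orth.NDeg B W) (ht : IsPlusTypeOn Q W ↔ IsSquare (-1 : F)) :
    ∃ (u w : ι → F) (c : F), c ≠ 0 ∧ u ∈ W ∧ w ∈ W ∧ B u w = 0 ∧ B u u = c ∧ B w w = c := by
  obtain ⟨u, hu, hQu⟩ := Orth.exists_nonsing C hW (fun h => by rw [h, finrank_bot] at hd; omega)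
  obtain ⟨w, hw, huw, hw0⟩ : ∃ w ∈ W, B u w = 0 ∧ w ≠ 0 := by
    obtain ⟨w, hw, hwu, hw0⟩ := Sing.exists_inf_ker_notMem W (B u) ⊥ (by rw [finrank_bot]; omega)
    exact ⟨w, hw, hwu, fun h => hw0 (h ▸ Submodule.zero_mem _)⟩
  have huu : B u u ≠ 0 := by rw [C.self]; exact mul_ne_zero h2 hQu
  have hu0 : u ≠ 0 := fun h => hQu (by rw [h, C.zero])
  have hli : LinearIndependent F ![u, w] := by
    refine LinearIndependent.pair_iff.2 fun s t hst => ?_
    have h1 := congrArg (B u) hst
    rw [map_add, map_smul, map_smul, huw, smul_zero, add_zero, map_zero, smul_eq_mul] at h1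
    have hs := (mul_eq_zero.1 h1).resolve_right huu
    rw [hs, zero_smul, zero_add, smul_eq_zero] at hst
    exact ⟨hs, hst.resolve_right hw0⟩
  have hspan : ∀ x ∈ W, ∃ a b : F, a • u + b • w = x := by
    intro x hx
    have heq : Submodule.span F (Set.range ![u, w]) = W :=
      Submodule.eq_of_le_of_finrank_le (Submodule.span_le.2 (by
        rintro _ ⟨i, rfl⟩
        fin_cases i
        exacts [hu, hw])) (by rw [finrank_span_eq_card hli, hd, Fintype.card_fin])
    rw [← heq, Matrix.range_cons_cons_empty, Submodule.mem_span_pair] at hx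
    exact hx
  have hQw : Q w ≠ 0 := fun h => hw0 (hW w hw fun y hy => by
    obtain ⟨a, b, rfl⟩ := hspan y hy
    rw [map_add, map_smul, map_smul, C.symm w u, huw, C.self, h, mul_zero, smul_zero, smul_zero, add_zero])
  have hiff : IsPlusTypeOn Q W ↔ IsSquare (-(Q u * Q w)) := by
    constructor
    · rintro ⟨U, hUW, hU, hUd⟩
      obtain ⟨x, hx, hx0⟩ := Submodule.exists_mem_ne_zero_of_ne_bot (p := U)
        (fun h => by rw [h, finrank_bot] at hUd; omega)
      obtain ⟨a, b, rfl⟩ := hspan x (hUW hx)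
      have h1 := hU _ hx
      rw [C.smul_add, huw, mul_zero, add_zero] at h1
      have ha : a ≠ 0 := fun h => by
        subst h
        have hb : b = 0 := by simpa [hQw] using h1
        exact hx0 (by rw [hb, zero_smul, zero_smul, add_zero])
      exact ⟨Q w * b / a, by field_simp; linear_combination (-1 : F) * h1⟩
    · rintro ⟨s, hs⟩
      have hx0 : s • u + Q u • w ≠ 0 := fun h => hQu (LinearIndependent.pair_iff.1 hli s (Q u) h).2
      refine ⟨Submodule.span F {s • u + Q u • w}, (Submodule.span_singleton_le_iff_mem _ _).2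
        (W.add_mem (W.smul_mem _ hu) (W.smul_mem _ hw)), fun y hy => ?_, by rw [finrank_span_singleton hx0, hd]⟩
      obtain ⟨c, rfl⟩ := Submodule.mem_span_singleton.1 hy
      rw [C.smul, C.smul_add, huw]
      linear_combination -(c ^ 2 * Q u) * hs
  obtain ⟨r, hr⟩ := sq_of_neg_iff h2 (mul_ne_zero hQu hQw) (hiff.symm.trans ht)
  have hr0 : r ≠ 0 := fun h => mul_ne_zero hQu hQw (by rw [hr, h, mul_zero])
  refine ⟨u, (r / Q w) • w, B u u, huu, hu, W.smul_mem _ hw, by rw [map_smul, huw, smul_zero], rfl, ?_⟩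
  rw [map_smul, map_smul, LinearMap.smul_apply, C.self, C.self, smul_eq_mul, smul_eq_mul]
  field_simp
  linear_combination (-1 : F) * hr

end Cfsg.Lib.Linear.AschOrth
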