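import Cfsg.Agent.Lib.Linear.AschOrth.EvenTensor
import Cfsg.Agent.Lib.Linear.AschOrth.Types

/-!
# Tensor products of a three-dimensional and a four-dimensional orthogonal space
-/

set_option autoImplicit false
set_option linter.unusedSectionVars false
set_option linter.style.haveILetI false

namespace Cfsg.Lib.Linear.AschOrth

open Cfsg.Geo Cfsg.Lib.Linear Cfsg.Lib.Linear.Asch Cfsg.Lib.Linear.AschGen Module
open Cfsg.Lib.Linear.AschSp (skew_two kron_comp_left kron_mulVec_pure formOfGram_mat)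
open scoped Matrix MatrixGroups Kronecker

variable {ι : Type} [Fintype ι] [DecidableEq ι] {F : Type*} [Field F]
  {Q : (ι → F) → F} {B : LinearMap.BilinForm F (ι → F)} {H : Subgroup (GL ι F)}

theorem omega_det_one {g : GL ι F} (hg : g ∈ omegaGL Q) : g.val.det = 1 := by
  obtain ⟨x, hx, rfl⟩ := hg
  have h := Abelianization.commutator_subset_ker
    ((Matrix.GeneralLinearGroup.det (n := ι) (R := F)).comp (isometryGroup F Q).subtype) hx
  exact congrArg Units.val (MonoidHom.mem_ker.1 h)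

theorem det_tm {β : Type} [Fintype β] [DecidableEq β] (e : ι ≃ β) (P : GL ι F) (X : Matrix β β F) :
    (tm e P X).det = X.det := by
  rw [tm, conjA_apply, Matrix.det_mul, Matrix.det_mul, Matrix.det_submatrix_equiv_self, mul_right_comm,
    ← Matrix.det_mul, ← Units.val_mul, mul_inv_cancel, Units.val_one, Matrix.det_one, one_mul]

section Change

variable {d k : ℕ} {e : ι ≃ Fin d × Fin k} {P : GL ι F}
  {A : Matrix (Fin d) (Fin d) F} {A' : Matrix (Fin k) (Fin k) F}

/-- A change of the two coordinate systems. -/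
theorem TData.change (T : TData Q H e P A A') (S : GL (Fin d) F) (R : GL (Fin k) F) :
    ∃ P' : GL ι F, TData Q H e P' (S.valᵀ * A * S.val) (R.valᵀ * A' * R.val) := by
  let y : GL (Fin d × Fin k) F := ⟨S.val ⊗ₖ R.val, (S⁻¹).val ⊗ₖ (R⁻¹).val,
    by rw [← Matrix.mul_kronecker_mul, Units.mul_inv, Units.mul_inv, Matrix.one_kronecker_one],
    by rw [← Matrix.mul_kronecker_mul, Units.inv_mul, Units.inv_mul, Matrix.one_kronecker_one]⟩
  refine ⟨P * glReindex e.symm y, ?_, ?_, ?_, fun g hg => ?_⟩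
  · rw [Matrix.det_mul, Matrix.det_mul, Matrix.det_transpose]
    exact ((S.isUnit.map Matrix.detMonoidHom).mul T.unitA).mul (S.isUnit.map Matrix.detMonoidHom)
  · rw [Matrix.det_mul, Matrix.det_mul, Matrix.det_transpose]
    exact ((R.isUnit.map Matrix.detMonoidHom).mul T.unitA').mul (R.isUnit.map Matrix.detMonoidHom)
  · rw [gO_change (e := e) (P := P) (Q := Q) y (P * glReindex e.symm y) rfl, T.gram]
    show (S.val ⊗ₖ R.val)ᵀ * (A ⊗ₖ A') * (S.val ⊗ₖ R.val) = _
    rw [kron_comp_left, ← Matrix.mul_kronecker_mul, ← Matrix.mul_kronecker_mul]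
  · obtain ⟨a, b, ν, hab, hν, hb, ha⟩ := T.hold g hg
    refine ⟨S⁻¹ * a * S, R⁻¹ * b * R, ν, ?_, hν, ?_, ?_⟩
    · have h1 : tm e (P * glReindex e.symm y) ((S⁻¹ * a * S).val ⊗ₖ (R⁻¹ * b * R).val) =
          tm e P (y.val * ((S⁻¹ * a * S).val ⊗ₖ (R⁻¹ * b * R).val) * (y⁻¹).val) := by
        have e1 : (P * glReindex e.symm y).val = P.val * y.val.submatrix e e := rfl
        have e2 : ((P * glReindex e.symm y)⁻¹).val = (y⁻¹).val.submatrix e e * (P⁻¹).val := by
          rw [mul_inv_rev, ← map_inv]; rfl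
        rw [tm, tm, conjA_apply, conjA_apply, e1, e2,
          ← Matrix.submatrix_mul_equiv _ _ e e e, ← Matrix.submatrix_mul_equiv _ _ e e e]
        simp only [Matrix.mul_assoc]
      rw [h1, hab]
      congr 1
      show _ = S.val ⊗ₖ R.val * ((S⁻¹ * a * S).val ⊗ₖ (R⁻¹ * b * R).val) * ((S⁻¹).val ⊗ₖ (R⁻¹).val)
      rw [← Matrix.mul_kronecker_mul, ← Matrix.mul_kronecker_mul, ← Units.val_mul, ← Units.val_mul, ← Units.val_mul,
        ← Units.val_mul]
      simp [mul_assoc]
    · simp only [Units.val_mul, Matrix.transpose_mul]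
      have hR : ((R⁻¹).val)ᵀ * R.valᵀ = 1 := by
        rw [← Matrix.transpose_mul, Units.mul_inv, Matrix.transpose_one]
      calc R.valᵀ * (b.valᵀ * ((R⁻¹).val)ᵀ) * (R.valᵀ * A' * R.val) * ((R⁻¹).val * b.val * R.val)
          = R.valᵀ * (b.valᵀ * (((R⁻¹).val)ᵀ * R.valᵀ) * A' * (R.val * (R⁻¹).val) * b.val) * R.val := by
            simp only [Matrix.mul_assoc]
        _ = ν • (R.valᵀ * A' * R.val) := by
            rw [hR, Units.mul_inv, Matrix.mul_one, Matrix.mul_one, hb, Matrix.mul_smul, Matrix.smul_mul]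
    · simp only [Units.val_mul, Matrix.transpose_mul]
      have hS : ((S⁻¹).val)ᵀ * S.valᵀ = 1 := by
        rw [← Matrix.transpose_mul, Units.mul_inv, Matrix.transpose_one]
      calc S.valᵀ * (a.valᵀ * ((S⁻¹).val)ᵀ) * (S.valᵀ * A * S.val) * ((S⁻¹).val * a.val * S.val)
          = S.valᵀ * (a.valᵀ * (((S⁻¹).val)ᵀ * S.valᵀ) * A * (S.val * (S⁻¹).val) * a.val) * S.val := by
            simp only [Matrix.mul_assoc]
        _ = ν⁻¹ • (S.valᵀ * A * S.val) := by
            rw [hS, Units.mul_inv, Matrix.mul_one, Matrix.mul_one, ha, Matrix.mul_smul, Matrix.smul_mul]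

/-- The embedding of the second factor along a unit vector of the first. -/
def blockEmb (e : ι ≃ Fin d × Fin k) (P : GL ι F) (j : Fin d) : (Fin k → F) →ₗ[F] (ι → F) where
  toFun w := P.val *ᵥ ((fun bc : Fin d × Fin k => (Pi.single j 1 : Fin d → F) bc.1 * w bc.2) ∘ e)
  map_add' w w' := by rw [← Matrix.mulVec_add]; congr 1; funext i; simp [mul_add]
  map_smul' c w := by rw [RingHom.id_apply, ← Matrix.mulVec_smul]; congr 1; funext i; simp; ring

/-- The blocks of the second factor. -/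
def blockSpace (e : ι ≃ Fin d × Fin k) (P : GL ι F) (j : Fin d) : Submodule F (ι → F) :=
  LinearMap.range (blockEmb e P j)

theorem blockEmb_inj (j : Fin d) : Function.Injective (blockEmb e P j) := by
  rw [injective_iff_map_eq_zero]
  intro w hw
  have h3 := congrArg ((P⁻¹).val *ᵥ ·) hw
  simp only [blockEmb, LinearMap.coe_mk, AddHom.coe_mk, inv_mulVec_mulVec, Matrix.mulVec_zero] at h3
  funext c
  simpa using congrFun h3 (e.symm (j, c))

variable {c : F}

theorem blockEmb_B (C : Orth.Space Q B) (T : TData Q H e P (c • 1) A') (i j : Fin d) (w w' : Fin k → F) :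
    B (blockEmb e P i w) (blockEmb e P j w') = (if i = j then c else 0) * (w ⬝ᵥ A' *ᵥ w') := by
  show B (P.val *ᵥ _) (P.val *ᵥ _) = _
  rw [T.pure_B C, Matrix.smul_mulVec, Matrix.one_mulVec, dotProduct_smul, single_dotProduct, one_mul,
    Pi.single_apply, smul_eq_mul, mul_ite, mul_one, mul_zero]

theorem blocks_orth (C : Orth.Space Q B) (h2 : (2 : F) ≠ 0) (hd : 2 ≤ d) (hk : 0 < k) (hc : c ≠ 0)
    (T : TData Q H e P (c • 1) A') : IsOrthogonalMDecomposition Q k (blockSpace e P) := by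
  classical
  have horth : ∀ i j, i ≠ j → ∀ x ∈ blockSpace e P i, ∀ y ∈ blockSpace e P j, B x y = 0 := by
    rintro i j hij _ ⟨w, rfl⟩ _ ⟨w', rfl⟩
    rw [blockEmb_B C T, if_neg hij, zero_mul]
  have hnd : ∀ i, ∀ x ∈ blockSpace e P i, x ≠ 0 → ∃ y ∈ blockSpace e P i, B y x ≠ 0 := by
    rintro i _ ⟨w, rfl⟩ hne
    by_contra hall
    push Not at hall
    refine hne ?_
    rw [show w = 0 from ?_, map_zero]
    refine (Matrix.mulVec_injective_iff_isUnit.2 ((Matrix.isUnit_iff_isUnit_det A').2 T.unitA')) ?_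
    rw [Matrix.mulVec_zero]
    funext m
    have h1 := hall _ ⟨Pi.single m 1, rfl⟩
    rw [blockEmb_B C T, if_pos rfl, single_dotProduct, one_mul] at h1
    exact (mul_eq_zero.1 h1).resolve_left hc
  refine ⟨⟨⟨hd, hk, fun i => ?_, ?_, ?_⟩, fun i x hx hx0 => ?_, fun i j hij x hx y hy => ?_⟩, fun i j => ?_⟩
  · rw [blockSpace, LinearMap.finrank_range_of_inj (blockEmb_inj i), Module.finrank_fin_fun]
  · refine fun i => disjoint_iff.2 ((Submodule.eq_bot_iff _).2 fun x hx => ?_)
    obtain ⟨hx1, hx2⟩ := hx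
    by_contra hne
    obtain ⟨y, hy, hyx⟩ := hnd i x hx1 hne
    have hle : (⨆ j, ⨆ (_ : j ≠ i), blockSpace e P j) ≤ LinearMap.ker (B y) :=
      iSup₂_le fun j hj z hz => LinearMap.mem_ker.2 (horth i j hj.symm y hy z hz)
    exact hyx (LinearMap.mem_ker.1 (hle hx2))
  · refine eq_top_iff.2 fun v _ => ?_
    have hv : v = ∑ j, blockEmb e P j (fun m => ((P⁻¹).val *ᵥ v) (e.symm (j, m))) := by
      simp only [blockEmb, LinearMap.coe_mk, AddHom.coe_mk, ← Matrix.mulVec_sum]
      conv_lhs => rw [← mulVec_inv_mulVec P v]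
      congr 1
      funext i
      simp [Finset.sum_apply, Pi.single_apply]
    rw [hv]
    exact Submodule.sum_mem _ fun j _ => Submodule.mem_iSup_of_mem j ⟨_, rfl⟩
  · obtain ⟨y, hy, hyx⟩ := hnd i x hx hx0
    exact ⟨⟨y, hy, by rw [C.polar]; exact hyx⟩, ⟨y, hy, by rw [C.polar, C.symm]; exact hyx⟩⟩
  · rw [C.polar]; exact horth i j hij x hx y hy
  · show AreIsometricFor Q (LinearMap.range (blockEmb e P i)) (LinearMap.range (blockEmb e P j))
    refine ⟨(LinearEquiv.ofInjective _ (blockEmb_inj i)).symm.trans (LinearEquiv.ofInjective _ (blockEmb_inj j)),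
      fun w => ?_⟩
    obtain ⟨w, rfl⟩ := (LinearEquiv.ofInjective _ (blockEmb_inj i)).surjective w
    rw [LinearEquiv.trans_apply, LinearEquiv.symm_apply_apply]
    show Q (blockEmb e P j w) = Q (blockEmb e P i w)
    refine mul_left_cancel₀ h2 ?_
    rw [← C.self, ← C.self, blockEmb_B C T, blockEmb_B C T, if_pos rfl, if_pos rfl]

theorem block_plus_iff (C : Orth.Space Q B) (h2 : (2 : F) ≠ 0) (hc : c ≠ 0) (T : TData Q H e P (c • 1) A')
    (j : Fin d) :
    IsPlusTypeOn Q (blockSpace e P j) ↔ IsPlusTypeOn (fun v : Fin k → F => formOfGram id A' v v) ⊤ := by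
  have hzero : ∀ w, Q (blockEmb e P j w) = 0 ↔ formOfGram id A' w w = 0 := fun w => by
    have h := C.self (blockEmb e P j w)
    rw [blockEmb_B C T, if_pos rfl, ← formOfGram_mat] at h
    constructor
    · intro h0
      rw [h0, mul_zero] at h
      exact (mul_eq_zero.1 h).resolve_left hc
    · intro h0
      rw [h0, mul_zero] at h
      exact (mul_eq_zero.1 h.symm).resolve_left h2
  constructor
  · rintro ⟨U, hU, hs, hdim⟩
    refine ⟨U.comap (blockEmb e P j), le_top, fun w hw => (hzero w).1 (hs _ hw), ?_⟩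
    have hmap : (U.comap (blockEmb e P j)).map (blockEmb e P j) = U := by
      rw [Submodule.map_comap_eq]; exact inf_eq_right.2 hU
    rw [(Submodule.equivMapOfInjective (blockEmb e P j) (blockEmb_inj j) _).finrank_eq, hmap, hdim, blockSpace,
      LinearMap.finrank_range_of_inj (blockEmb_inj j), finrank_top]
  · rintro ⟨U, -, hs, hdim⟩
    refine ⟨U.map (blockEmb e P j), LinearMap.map_le_range, ?_, ?_⟩
    · rintro _ ⟨w, hw, rfl⟩
      exact (hzero w).2 (hs _ hw)
    · rw [← (Submodule.equivMapOfInjective (blockEmb e P j) (blockEmb_inj j) _).finrank_eq, hdim, blockSpace,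
        LinearMap.finrank_range_of_inj (blockEmb_inj j), finrank_top]

end Change

/-! ### Similitudes of the tensor square of an alternating plane -/

/-- The alternating form of a plane. -/
def planeAlt (F : Type*) [Field F] : Matrix (Fin 2) (Fin 2) F := !![0, 1; -1, 0]

/-- The hyperbolic form in four variables. -/
def hypFour (F : Type*) [Field F] : Matrix (Fin 4) (Fin 4) F :=
  !![0, 0, 0, 1; 0, 0, -1, 0; 0, -1, 0, 0; 1, 0, 0, 0]

theorem hypFour_kron : (hypFour F).submatrix finProdFinEquiv finProdFinEquiv = planeAlt F ⊗ₖ planeAlt F := by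
  refine Matrix.ext fun ⟨a, b⟩ ⟨a', b'⟩ => ?_
  fin_cases a <;> fin_cases b <;> fin_cases a' <;> fin_cases b' <;> simp [hypFour, planeAlt, finProdFinEquiv]

theorem kron_rank_one (w : Fin 2 × Fin 2 → F) (h : w (0, 0) * w (1, 1) = w (0, 1) * w (1, 0)) :
    ∃ p p' : Fin 2 → F, ∀ i, w i = p i.1 * p' i.2 := by
  by_cases h0 : w (0, 0) = 0
  · rw [h0, zero_mul, eq_comm, mul_eq_zero] at h
    rcases h with h | h
    · refine ⟨![0, 1], ![w (1, 0), w (1, 1)], fun ⟨a, b⟩ => ?_⟩
      fin_cases a <;> fin_cases b <;> simp [h0, h]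
    · refine ⟨![w (0, 1), w (1, 1)], ![0, 1], fun ⟨a, b⟩ => ?_⟩
      fin_cases a <;> fin_cases b <;> simp [h0, h]
  · refine ⟨![1, w (1, 0) / w (0, 0)], ![w (0, 0), w (0, 1)], fun ⟨a, b⟩ => ?_⟩
    fin_cases a <;> fin_cases b <;> simp <;> field_simp
    linear_combination h

theorem det_swapMat_two : (swapMat 2 F).det = -1 := by
  have hsgn : Equiv.Perm.sign (Equiv.prodComm (Fin 2) (Fin 2) : Equiv.Perm (Fin 2 × Fin 2)) = -1 := by decide
  have h := Matrix.det_permute (Equiv.prodComm (Fin 2) (Fin 2) : Equiv.Perm (Fin 2 × Fin 2))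
    (1 : Matrix (Fin 2 × Fin 2) (Fin 2 × Fin 2) F)
  rw [hsgn, Matrix.det_one, mul_one] at h
  exact h.trans (by simp)

set_option maxHeartbeats 1000000 in
/-- A similitude of the tensor square of an alternating plane respects the factors up to exchanging them. -/
theorem kron_simil (h2 : (2 : F) ≠ 0) {b : Matrix (Fin 2 × Fin 2) (Fin 2 × Fin 2) F} {ν : F} (hν : ν ≠ 0)
    (h : bᵀ * (planeAlt F ⊗ₖ planeAlt F) * b = ν • (planeAlt F ⊗ₖ planeAlt F)) :
    ∃ x y : Matrix (Fin 2) (Fin 2) F, x.det * y.det = ν ∧ (b = x ⊗ₖ y ∨ b = (x ⊗ₖ y) * swapMat 2 F) := by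
  set K := planeAlt F ⊗ₖ planeAlt F with hK
  have rel : ∀ {M : Matrix (Fin 2 × Fin 2) (Fin 2 × Fin 2) F} {μ : F}, Mᵀ * K * M = μ • K → ∀ p p',
      M (0, 0) p * M (1, 1) p' - M (0, 1) p * M (1, 0) p' - M (1, 0) p * M (0, 1) p' + M (1, 1) p * M (0, 0) p' =
        μ * K p p' := by
    intro M μ hM p p'
    have := congrFun (congrFun hM p) p'
    rw [Matrix.smul_apply, smul_eq_mul] at this
    rw [← this]
    simp [hK, Matrix.mul_apply, Fintype.sum_prod_type, Fin.sum_univ_two, planeAlt]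
    ring
  have hsing : ∀ p, K p p = 0 := fun ⟨a, a'⟩ => by fin_cases a <;> simp [hK, planeAlt]
  obtain ⟨p, p', hp⟩ := kron_rank_one (fun i => b i (0, 0)) (by
    have h1 := rel h (0, 0) (0, 0)
    rw [hsing, mul_zero] at h1
    refine mul_left_cancel₀ h2 ?_
    linear_combination h1)
  obtain ⟨r, r', hr⟩ := kron_rank_one (fun i => b i (1, 1)) (by
    have h1 := rel h (1, 1) (1, 1)
    rw [hsing, mul_zero] at h1
    refine mul_left_cancel₀ h2 ?_
    linear_combination h1)
  let x : Matrix (Fin 2) (Fin 2) F := Matrix.of fun i j => ![p i, r i] j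
  let y : Matrix (Fin 2) (Fin 2) F := Matrix.of fun i j => ![p' i, r' i] j
  have hdet : x.det * y.det = ν := by
    have h1 := rel h (0, 0) (1, 1)
    rw [hp, hp, hp, hp, hr, hr, hr, hr] at h1
    simp [hK, planeAlt] at h1
    simp [x, y, Matrix.det_fin_two]
    linear_combination h1
  have hX : IsUnit (x ⊗ₖ y).det := by
    refine isUnit_iff_ne_zero.2 ?_
    rw [Matrix.det_kronecker, Fintype.card_fin, ← mul_pow]
    exact pow_ne_zero _ (hdet ▸ hν)
  set b0 := (x ⊗ₖ y)⁻¹ * b with hb0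
  clear_value b0
  have hb : b = (x ⊗ₖ y) * b0 := by
    rw [hb0, ← Matrix.mul_assoc, Matrix.mul_nonsing_inv _ hX, Matrix.one_mul]
  have hK0 : b0ᵀ * K * b0 = (1 : F) • K := by
    have hxy : (x ⊗ₖ y)ᵀ * K * (x ⊗ₖ y) = ν • K := by
      rw [hK, kron_comp_left, ← Matrix.mul_kronecker_mul, ← Matrix.mul_kronecker_mul, planeAlt, skew_two, skew_two,
        Matrix.smul_kronecker, Matrix.kronecker_smul, smul_smul, hdet]
    rw [one_smul]
    apply smul_right_injective _ hν
    show ν • (b0ᵀ * K * b0) = ν • K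
    calc ν • (b0ᵀ * K * b0) = b0ᵀ * ((x ⊗ₖ y)ᵀ * K * (x ⊗ₖ y)) * b0 := by
          rw [hxy, Matrix.mul_smul, Matrix.smul_mul]
      _ = ((x ⊗ₖ y) * b0)ᵀ * K * ((x ⊗ₖ y) * b0) := by rw [Matrix.transpose_mul]; simp only [Matrix.mul_assoc]
      _ = bᵀ * K * b := by rw [← hb]
      _ = ν • K := h
  have hcol : ∀ q, (∀ i, b i q = (x ⊗ₖ y) i q) → ∀ i, b0 i q = if i = q then 1 else 0 := fun q hq i => by
    rw [hb0, Matrix.mul_apply]
    simp only [hq]
    rw [← Matrix.mul_apply, Matrix.nonsing_inv_mul _ hX, Matrix.one_apply]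
  have c00 := hcol (0, 0) fun ⟨a, a'⟩ => by
    rw [show b (a, a') (0, 0) = p a * p' a' from hp (a, a')]; simp [x, y]
  have c11 := hcol (1, 1) fun ⟨a, a'⟩ => by
    rw [show b (a, a') (1, 1) = r a * r' a' from hr (a, a')]; simp [x, y]
  have e1 := rel hK0 (0, 0) (0, 1)
  have e2 := rel hK0 (0, 0) (1, 0)
  have e3 := rel hK0 (1, 1) (0, 1)
  have e4 := rel hK0 (1, 1) (1, 0)
  have e5 := rel hK0 (0, 1) (0, 1)
  have e6 := rel hK0 (1, 0) (1, 0)
  have e7 := rel hK0 (0, 1) (1, 0)
  simp [c00, c11, hK, planeAlt] at e1 e2 e3 e4 e5 e6 e7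
  rw [e1, e3] at e5
  rw [e2, e4] at e6
  rw [e1, e2, e3, e4] at e7
  by_cases ht : b0 (1, 0) (0, 1) = 0
  · rw [ht] at e7
    have hsv : b0 (0, 1) (0, 1) * b0 (1, 0) (1, 0) = 1 := by linear_combination -e7
    have hv0 : b0 (1, 0) (1, 0) ≠ 0 := fun h0 => by rw [h0, mul_zero] at hsv; exact zero_ne_one hsv
    have hu : b0 (0, 1) (1, 0) = 0 := by
      have : (2 : F) * (b0 (0, 1) (1, 0) * b0 (1, 0) (1, 0)) = 0 := by linear_combination -e6
      exact (mul_eq_zero.1 ((mul_eq_zero.1 this).resolve_left h2)).resolve_right hv0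
    refine ⟨x * Matrix.diagonal ![1, b0 (1, 0) (1, 0)], y * Matrix.diagonal ![1, b0 (0, 1) (0, 1)], ?_, Or.inl ?_⟩
    · simp [Matrix.det_mul, Matrix.det_diagonal, Fin.prod_univ_two]
      linear_combination hdet + (x.det * y.det) * hsv
    · rw [Matrix.mul_kronecker_mul, hb]
      congr 1
      refine Matrix.ext fun ⟨a, a'⟩ ⟨c, c'⟩ => ?_
      fin_cases a <;> fin_cases a' <;> fin_cases c <;> fin_cases c' <;>
        simp [c00, c11, e1, e2, e3, e4, ht, hu, hsv]
      linear_combination -hsv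
  · have hs : b0 (0, 1) (0, 1) = 0 := by
      have : (2 : F) * (b0 (0, 1) (0, 1) * b0 (1, 0) (0, 1)) = 0 := by linear_combination -e5
      exact (mul_eq_zero.1 ((mul_eq_zero.1 this).resolve_left h2)).resolve_right ht
    rw [hs] at e7
    have htu : b0 (1, 0) (0, 1) * b0 (0, 1) (1, 0) = 1 := by linear_combination -e7
    have hu0 : b0 (0, 1) (1, 0) ≠ 0 := fun h0 => by rw [h0, mul_zero] at htu; exact zero_ne_one htu
    have hv : b0 (1, 0) (1, 0) = 0 := by
      have : (2 : F) * (b0 (1, 0) (1, 0) * b0 (0, 1) (1, 0)) = 0 := by linear_combination -e6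
      exact (mul_eq_zero.1 ((mul_eq_zero.1 this).resolve_left h2)).resolve_right hu0
    refine ⟨x * Matrix.diagonal ![1, b0 (1, 0) (0, 1)], y * Matrix.diagonal ![1, b0 (0, 1) (1, 0)], ?_, Or.inr ?_⟩
    · simp [Matrix.det_mul, Matrix.det_diagonal, Fin.prod_univ_two]
      linear_combination hdet + (x.det * y.det) * htu
    · rw [Matrix.mul_kronecker_mul, hb, Matrix.mul_assoc]
      congr 1
      rw [mul_swapMat]
      refine Matrix.ext fun ⟨a, a'⟩ ⟨c, c'⟩ => ?_
      fin_cases a <;> fin_cases a' <;> fin_cases c <;> fin_cases c' <;>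
        simp [c00, c11, e1, e2, e3, e4, hs, hv, htu]

/-! ### The four-dimensional factor -/

/-- An invertible symmetric matrix of plus type is congruent to the hyperbolic form. -/
theorem exists_hyp_congr (h2 : (2 : F) ≠ 0) {A' : Matrix (Fin 4) (Fin 4) F} (hA : A'ᵀ = A') (hu : IsUnit A'.det)
    (hplus : IsPlusTypeOn (fun v : Fin 4 → F => formOfGram id A' v v) ⊤) :
    ∃ R : GL (Fin 4) F, R.valᵀ * A' * R.val = hypFour F := by
  obtain ⟨U, -, hs, hdim⟩ := hplus
  rw [finrank_top, Module.finrank_fin_fun] at hdim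
  let f : (Fin 4 → F) → (Fin 4 → F) → F := fun u v => u ⬝ᵥ A' *ᵥ v
  have fsymm : ∀ u v, f u v = f v u := fun u v => by
    show u ⬝ᵥ A' *ᵥ v = v ⬝ᵥ A' *ᵥ u
    rw [Matrix.dotProduct_mulVec, ← Matrix.mulVec_transpose, hA, dotProduct_comm]
  have fself : ∀ v ∈ U, f v v = 0 := fun v hv => by
    have h0 : formOfGram id A' v v = 0 := hs v hv
    rwa [formOfGram_mat] at h0
  have fU : ∀ u ∈ U, ∀ v ∈ U, f u v = 0 := fun u hu v hv => by
    have h1 := fself (u + v) (U.add_mem hu hv)
    simp only [f, Matrix.mulVec_add, dotProduct_add, add_dotProduct] at h1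
    have h3 := fsymm u v
    have h4 := fself u hu
    have h5 := fself v hv
    simp only [f] at h3 h4 h5 ⊢
    refine (mul_eq_zero.1 (show (2 : F) * (u ⬝ᵥ A' *ᵥ v) = 0 from ?_)).resolve_left h2
    linear_combination h1 + h3 - h4 - h5
  let bb := Module.finBasisOfFinrankEq F U (show finrank F U = 2 by omega)
  let u1 : Fin 4 → F := bb 0
  let u2 : Fin 4 → F := bb 1
  let φ : (Fin 4 → F) →ₗ[F] (Fin 2 → F) :=
    { toFun := fun v => ![f u1 v, f u2 v]
      map_add' := fun v w => by funext i; fin_cases i <;> simp [f, Matrix.mulVec_add, dotProduct_add]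
      map_smul' := fun c v => by funext i; fin_cases i <;> simp [f, Matrix.mulVec_smul, dotProduct_smul] }
  have hφ : Function.Surjective φ := by
    rw [← LinearMap.range_eq_top]
    by_contra hne
    obtain ⟨l, hl0, hl⟩ := Submodule.exists_le_ker_of_lt_top _ (lt_top_iff_ne_top.2 hne)
    have hlv : ∀ g : Fin 2 → F, l g = g 0 * l (Pi.single 0 1) + g 1 * l (Pi.single 1 1) := fun g => by
      conv_lhs => rw [show g = g 0 • Pi.single 0 1 + g 1 • Pi.single 1 1 by
        funext i; fin_cases i <;> simp]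
      rw [map_add, map_smul, map_smul, smul_eq_mul, smul_eq_mul]
    have hzero : A'ᵀ *ᵥ (l (Pi.single 0 1) • u1 + l (Pi.single 1 1) • u2) = 0 := by
      funext m
      have h1 : l (φ (Pi.single m 1)) = 0 := hl ⟨_, rfl⟩
      rw [hlv] at h1
      simp [φ, f, Matrix.mulVec_single_one] at h1
      simp [Matrix.mulVec, dotProduct, mul_add, Finset.sum_add_distrib]
      simp [dotProduct, Finset.sum_mul] at h1
      simp only [mul_assoc, mul_comm, mul_left_comm] at h1 ⊢
      exact h1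
    have h3 := (Matrix.mulVec_injective_iff_isUnit.2 ((Matrix.isUnit_iff_isUnit_det A'ᵀ).2
      (by rwa [Matrix.det_transpose]))) (hzero.trans (Matrix.mulVec_zero _).symm)
    have h4 : l (Pi.single 0 1) • bb 0 + l (Pi.single 1 1) • bb 1 = 0 := Subtype.ext (by simpa [u1, u2] using h3)
    have h5 := Fintype.linearIndependent_iff.1 bb.linearIndependent ![l (Pi.single 0 1), l (Pi.single 1 1)]
      (by simpa [Fin.sum_univ_two] using h4)
    refine hl0 (LinearMap.ext fun g => ?_)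
    have h6 := h5 0
    have h7 := h5 1
    simp at h6 h7
    rw [hlv, h6, h7]; simp
  obtain ⟨z1, hz1⟩ := hφ ![1, 0]
  obtain ⟨z2, hz2⟩ := hφ ![0, 1]
  have g11 : f u1 z1 = 1 := by simpa [φ] using congrFun hz1 0
  have g21 : f u2 z1 = 0 := by simpa [φ] using congrFun hz1 1
  have g12 : f u1 z2 = 0 := by simpa [φ] using congrFun hz2 0
  have g22 : f u2 z2 = 1 := by simpa [φ] using congrFun hz2 1
  have gu11 : f u1 u1 = 0 := fU _ (bb 0).2 _ (bb 0).2
  have gu12 : f u1 u2 = 0 := fU _ (bb 0).2 _ (bb 1).2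
  have gu22 : f u2 u2 = 0 := fU _ (bb 1).2 _ (bb 1).2
  let w1 := z1 - (f z1 z1 / 2) • u1
  let w2 := z2 - (f z2 z2 / 2) • u2 - (f z1 z2) • u1
  have fadd : ∀ u v w, f (u - v) w = f u w - f v w := fun u v w => sub_dotProduct _ _ _
  have fadd' : ∀ u v w, f w (u - v) = f w u - f w v := fun u v w => by
    simp [f, Matrix.mulVec_sub, dotProduct_sub]
  have fsmul : ∀ (c : F) u w, f (c • u) w = c * f u w := fun c u w => by simp [f]
  have fsmul' : ∀ (c : F) u w, f w (c • u) = c * f w u := fun c u w => by simp [f, Matrix.mulVec_smul]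
  let cols : Fin 4 → Fin 4 → F := ![u1, u2, -w2, w1]
  let R : Matrix (Fin 4) (Fin 4) F := Matrix.of fun i j => cols j i
  have hR : Rᵀ * A' * R = hypFour F := by
    refine Matrix.ext fun i j => ?_
    have hij : (Rᵀ * A' * R) i j = f (cols i) (cols j) := by
      rw [Matrix.mul_assoc, Matrix.mul_apply]
      simp [f, R, dotProduct, Matrix.mulVec, Matrix.mul_apply]
    have fneg : ∀ u w, f (-u) w = -f u w := fun u w => neg_dotProduct _ _
    have fneg' : ∀ u w, f w (-u) = -f w u := fun u w => by simp [f, Matrix.mulVec_neg]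
    rw [hij]
    fin_cases i <;> fin_cases j <;>
      simp [cols, hypFour, w1, w2, fadd, fadd', fsmul, fsmul', fneg, fneg', g11, g12, g21, g22, gu11, gu12, gu22,
        fsymm z1 u1, fsymm z1 u2, fsymm z2 u1, fsymm z2 u2, fsymm u2 u1, fsymm z2 z1] <;> field_simp <;> ring
  refine ⟨Matrix.GeneralLinearGroup.mk'' R ?_, hR⟩
  have h1 := congrArg Matrix.det hR
  rw [Matrix.det_mul] at h1
  refine isUnit_iff_ne_zero.2 fun h0 => ?_
  rw [h0, mul_zero] at h1
  have h3 : hypFour F * hypFour F = 1 := by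
    refine Matrix.ext fun i j => ?_
    fin_cases i <;> fin_cases j <;> simp [hypFour, Matrix.mul_apply, Fin.sum_univ_four]
  exact (isUnit_of_mul_isUnit_left (x := (hypFour F).det) (y := (hypFour F).det)
    (by rw [← Matrix.det_mul, h3, Matrix.det_one]; exact isUnit_one)).ne_zero h1.symm

/-! ### Dimension twelve -/

variable {e : ι ≃ Fin 3 × Fin 4} {P : GL ι F} {A : Matrix (Fin 3) (Fin 3) F} {A' : Matrix (Fin 4) (Fin 4) F}

theorem tensor_four_frame [Finite F] (C : Orth.Space Q B) (h2 : (2 : F) ≠ 0) (T : TData Q H e P A A') (hA : Aᵀ = A) :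
    ∃ (P' : GL ι F) (c : F), c ≠ 0 ∧ TData Q H e P' (c • 1) A' ∧
      (IsPlusTypeOn Q (⊤ : Submodule F (ι → F)) ↔ IsPlusTypeOn (fun v : Fin 4 → F => formOfGram id A' v v) ⊤) := by
  obtain ⟨S, c, hc, hS⟩ := exists_scalar_congr h2 (n := 2) even_two hA T.unitA
  obtain ⟨P', T'⟩ := T.change S 1
  rw [hS, Units.val_one, Matrix.transpose_one, Matrix.one_mul, Matrix.mul_one] at T'
  refine ⟨P', c, hc, T', ?_⟩
  have hD := blocks_orth C h2 (by norm_num) (by norm_num) hc T'
  rw [blocks_type (a := 2) C hD 0, block_plus_iff C h2 hc T']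
  exact ⟨fun h => h.resolve_right (by decide), Or.inl⟩

/-- A tensor decomposition `3 × 4` of a space of minus type. -/
theorem tensor_four_minus [Fintype F] (C : Orth.Space Q B) (h2 : (2 : F) ≠ 0) (hH : H ≤ omegaGL Q)
    (T : TData Q H e P A A') (hA : Aᵀ = A) (hminus : ¬ IsPlusTypeOn Q (⊤ : Submodule F (ι → F))) :
    (5 ≤ Fintype.card F ∧ ¬ IsPlusTypeOn (fun v : Fin 4 → F => formOfGram id A' v v) ⊤) ∨
      ∃ D : Fin 3 → Submodule F (ι → F), IsOrthogonalMDecomposition Q 4 D ∧ (∀ i, ¬ IsPlusTypeOn Q (D i)) ∧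
        H ≤ decompositionStabilizer D := by
  classical
  obtain ⟨P', c, hc, T', hiff⟩ := tensor_four_frame C h2 T hA
  have hA'm : ¬ IsPlusTypeOn (fun v : Fin 4 → F => formOfGram id A' v v) ⊤ := fun h => hminus (hiff.2 h)
  by_cases h5 : 5 ≤ Fintype.card F
  · exact Or.inl ⟨h5, hA'm⟩
  right
  have hchar : ringChar F ≠ 2 := fun h => h2 (by
    have h' := CharP.cast_eq_zero F (ringChar F)
    rw [h] at h'
    exact_mod_cast h')
  have hodd := FiniteField.odd_card_of_char_ne_two hchar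
  have hq : Fintype.card F = 3 := by
    have := Fintype.one_lt_card (α := F)
    omega
  have hD := blocks_orth C h2 (by norm_num) (by norm_num) hc T'
  refine ⟨blockSpace e P', hD, fun i => fun h => hA'm ((block_plus_iff C h2 hc T' i).1 h),
    le_decomp_of_maps hD.decomp.decomp fun g hg i => ?_⟩
  obtain ⟨a, b, ν, hab, hν, -, ha⟩ := T'.hold g hg
  rw [Matrix.mul_smul, Matrix.mul_one, Matrix.smul_mul, smul_comm] at ha
  have ha' : a.valᵀ * a.val = ν⁻¹ • 1 := smul_right_injective _ hc ha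
  have hsq : ∀ x : F, x ≠ 0 → x ^ 2 = 1 := fun x hx => by
    have := FiniteField.pow_card_sub_one_eq_one x hx
    rwa [hq] at this
  have hν1 : ν = 1 := by
    have h1 := congrArg Matrix.det ha'
    rw [Matrix.det_mul, Matrix.det_transpose, Matrix.det_smul, Matrix.det_one, mul_one, Fintype.card_fin] at h1
    have hda : a.val.det ^ 2 = 1 := hsq _ ((a.isUnit.map Matrix.detMonoidHom).ne_zero)
    have h3 : ν⁻¹ ^ 2 = 1 := hsq _ (inv_ne_zero hν)
    have h4 : ν⁻¹ = 1 := by linear_combination hda - h1 - ν⁻¹ * h3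
    exact inv_eq_one.1 h4
  have hcol : ∑ j, (a.val j i) ^ 2 = 1 := by
    have h1 := congrFun (congrFun ha' i) i
    rw [hν1, inv_one, one_smul, Matrix.one_apply_eq, Matrix.mul_apply] at h1
    simpa [sq] using h1
  obtain ⟨l, hl⟩ := one_nonzero hq hcol
  refine ⟨l, ?_⟩
  rintro _ ⟨w, rfl⟩
  refine ⟨a.val l i • (b.val *ᵥ w), ?_⟩
  show P'.val *ᵥ _ = g.val *ᵥ (P'.val *ᵥ _)
  rw [hab, tm_act, kron_mulVec_pure]
  congr 1
  funext x
  simp only [Function.comp_apply, Pi.smul_apply, smul_eq_mul, Matrix.mulVec_single_one, Matrix.col_apply]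
  by_cases hx : (e x).1 = l
  · rw [hx, Pi.single_eq_same]; ring
  · rw [Pi.single_eq_of_ne hx, hl _ hx]; ring

set_option maxHeartbeats 800000 in
/-- A tensor decomposition `3 × 4` of a space of plus type is one of alternating forms. -/
theorem tensor_four_plus [Fintype F] (C : Orth.Space Q B) (h2 : (2 : F) ≠ 0) (hH : H ≤ omegaGL Q)
    (T : TData Q H e P A A') (hA : Aᵀ = A) (hA' : A'ᵀ = A') (hplus : IsPlusTypeOn Q (⊤ : Submodule F (ι → F))) :
    ∃ (e' : ι ≃ Fin 2 × Fin 6) (P' : GL ι F) (A1 : Matrix (Fin 2) (Fin 2) F) (A2 : Matrix (Fin 6) (Fin 6) F),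
      TData Q H e' P' A1 A2 ∧ AltMat A1 ∧ AltMat A2 := by
  classical
  obtain ⟨P0, c, hc, T0, hiff⟩ := tensor_four_frame C h2 T hA
  obtain ⟨R, hR⟩ := exists_hyp_congr h2 hA' T.unitA' (hiff.1 hplus)
  obtain ⟨P1, T1⟩ := T.change 1 R
  rw [hR, Units.val_one, Matrix.transpose_one, Matrix.one_mul, Matrix.mul_one] at T1
  let f : Fin 3 × Fin 2 ≃ Fin 6 := finProdFinEquiv
  let z : Fin 2 × Fin 2 ≃ Fin 4 := finProdFinEquiv
  let ψ : Fin 3 × Fin 4 ≃ Fin 2 × Fin 6 :=
    { toFun := fun im => ((z.symm im.2).1, f (im.1, (z.symm im.2).2))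
      invFun := fun rq => ((f.symm rq.2).1, z (rq.1, (f.symm rq.2).2))
      left_inv := fun ⟨i, m⟩ => by simp
      right_inv := fun ⟨r, q⟩ => by simp }
  have hz : ∀ p p', hypFour F (z p) (z p') = planeAlt F p.1 p'.1 * planeAlt F p.2 p'.2 := fun p p' =>
    congrFun (congrFun (hypFour_kron (F := F)) p) p'
  have hS : AltMat (planeAlt F) := ⟨by
      refine Matrix.ext fun i j => ?_
      fin_cases i <;> fin_cases j <;> simp [planeAlt], fun i => by fin_cases i <;> simp [planeAlt]⟩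
  have hSu : IsUnit (planeAlt F).det := by simp [planeAlt, Matrix.det_fin_two]
  refine ⟨e.trans ψ, P1, planeAlt F, (A ⊗ₖ planeAlt F).submatrix f.symm f.symm, ⟨hSu, ?_, ?_, fun g hg => ?_⟩, hS,
    ⟨?_, fun q => ?_⟩⟩
  · rw [Matrix.det_submatrix_equiv_self, Matrix.det_kronecker]
    exact (T.unitA.pow _).mul (hSu.pow _)
  · show (gO e P1 Q).submatrix ψ.symm ψ.symm = _
    rw [T1.gram]
    refine Matrix.ext fun ⟨r, q⟩ ⟨r', q'⟩ => ?_
    show A (f.symm q).1 (f.symm q').1 * hypFour F (z _) (z _) = planeAlt F r r' * (A _ _ * planeAlt F _ _)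
    rw [hz]; ring
  · obtain ⟨a, b, ν, hab, hν, hb, ha⟩ := T1.hold g hg
    have hdet : a.val.det ^ 4 * b.val.det ^ 3 = 1 := by
      have h1 := congrArg Matrix.det hab
      rwa [omega_det_one (hH hg), det_tm, Matrix.det_kronecker, Fintype.card_fin, Fintype.card_fin, eq_comm] at h1
    have hda : a.val.det ^ 2 = ν⁻¹ ^ 3 := by
      have h1 := congrArg Matrix.det ha
      rw [Matrix.det_mul, Matrix.det_mul, Matrix.det_transpose, Matrix.det_smul, Fintype.card_fin] at h1
      exact mul_right_cancel₀ T.unitA.ne_zero (by linear_combination h1)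
    have hdb : b.val.det = ν ^ 2 := by
      have h1 := congrArg Matrix.det hb
      rw [Matrix.det_mul, Matrix.det_mul, Matrix.det_transpose, Matrix.det_smul, Fintype.card_fin] at h1
      have hb2 : b.val.det ^ 2 = ν ^ 4 := mul_right_cancel₀ T1.unitA'.ne_zero (by linear_combination h1)
      have hνν : ν * ν⁻¹ = 1 := mul_inv_cancel₀ hν
      have hb3 : b.val.det ^ 3 = ν ^ 6 := by
        have : ν⁻¹ ^ 6 * b.val.det ^ 3 = 1 := by
          rw [← hdet, show a.val.det ^ 4 = (a.val.det ^ 2) ^ 2 by ring, hda]; ring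
        calc b.val.det ^ 3 = (ν * ν⁻¹) ^ 6 * b.val.det ^ 3 := by rw [hνν]; ring
          _ = ν ^ 6 * (ν⁻¹ ^ 6 * b.val.det ^ 3) := by ring
          _ = ν ^ 6 := by rw [this, mul_one]
      refine mul_right_cancel₀ (pow_ne_zero 4 hν) ?_
      linear_combination hb3 - b.val.det * hb2
    obtain ⟨x, y, hxy, hxyb⟩ := kron_simil h2 hν (b := b.val.submatrix z z) (by
      rw [← hypFour_kron, Matrix.transpose_submatrix, Matrix.submatrix_mul_equiv, Matrix.submatrix_mul_equiv, hb]
      rfl)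
    have hbz : b.val.submatrix z z = x ⊗ₖ y := by
      refine hxyb.resolve_right fun h => ?_
      have h1 := congrArg Matrix.det h
      rw [Matrix.det_submatrix_equiv_self, Matrix.det_mul, det_swapMat_two, Matrix.det_kronecker, Fintype.card_fin,
        ← mul_pow, hxy, hdb] at h1
      have h3 : (2 : F) * ν ^ 2 = 0 := by linear_combination h1
      simp [h2, hν] at h3
    have hx0 : x.det ≠ 0 := fun h => hν (by rw [← hxy, h, zero_mul])
    have hy0 : y.det ≠ 0 := fun h => hν (by rw [← hxy, h, mul_zero])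
    refine ⟨Matrix.GeneralLinearGroup.mk'' x (isUnit_iff_ne_zero.2 hx0),
      Matrix.GeneralLinearGroup.mk'' ((a.val ⊗ₖ y).submatrix f.symm f.symm) (by
        rw [Matrix.det_submatrix_equiv_self, Matrix.det_kronecker]
        exact ((a.isUnit.map Matrix.detMonoidHom).pow _).mul ((isUnit_iff_ne_zero.2 hy0).pow _)),
      x.det⁻¹, ?_, inv_ne_zero hx0, ?_, ?_⟩
    · rw [hab, tm, tm]
      congr 1
      refine Matrix.ext fun i j => ?_
      show a.val (e i).1 (e j).1 * b.val (e i).2 (e j).2 =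
        x (z.symm (e i).2).1 (z.symm (e j).2).1 * (a.val (f.symm (f (_, _))).1 (f.symm (f (_, _))).1 *
          y (f.symm (f (_, _))).2 (f.symm (f (_, _))).2)
      have h1 := congrFun (congrFun hbz (z.symm (e i).2)) (z.symm (e j).2)
      rw [Matrix.submatrix_apply, Equiv.apply_symm_apply, Equiv.apply_symm_apply, Matrix.kroneckerMap_apply] at h1
      rw [h1]
      simp only [Equiv.symm_apply_apply]
      ring
    · show ((a.val ⊗ₖ y).submatrix f.symm f.symm)ᵀ * _ * ((a.val ⊗ₖ y).submatrix f.symm f.symm) = _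
      rw [Matrix.transpose_submatrix, Matrix.submatrix_mul_equiv, Matrix.submatrix_mul_equiv, kron_comp_left,
        ← Matrix.mul_kronecker_mul, ← Matrix.mul_kronecker_mul, ha, planeAlt, skew_two, Matrix.smul_kronecker,
        Matrix.kronecker_smul, smul_smul]
      rw [show ν⁻¹ * y.det = x.det⁻¹ by rw [← hxy]; field_simp]
      rfl
    · rw [inv_inv]
      exact skew_two x
  · rw [Matrix.transpose_submatrix, kron_comp_left, hA, hS.skew]
    refine Matrix.ext fun q q' => ?_
    simp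
  · show A _ _ * planeAlt F _ _ = 0
    rw [hS.diag, mul_zero]

end Cfsg.Lib.Linear.AschOrth
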