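import Cfsg.Agent.Lib.Linear.AschOrth.Product
import Cfsg.Agent.Lib.Linear.AschSp.TensorPow

/-!
# Tensor powers preserved by groups of isometries in odd dimension
-/

set_option autoImplicit false
set_option linter.unusedSectionVars false
set_option linter.style.haveILetI false

namespace Cfsg.Lib.Linear.AschOrth

open Cfsg.Geo Cfsg.Lib.Linear Cfsg.Lib.Linear.Asch
open Cfsg.Lib.Linear.AschGen (pureTens pureTens_mul pureTens_one powStd powStd_apply powStd_mul powStd_one
  powStdLin powEmb PowData conjA conjA_apply exists_conjA powEmb_injective adj)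
open Cfsg.Lib.Linear.AschSp (pureVec pureTens_mulVec pureVec_dot pureTens_transpose pureTens_inv
  scalar_of_comm_powStd powStd_transpose)
open scoped Matrix MatrixGroups Kronecker

variable {ι : Type} [Fintype ι] [DecidableEq ι] {F : Type*} [Field F]
  {Q : (ι → F) → F} {B : LinearMap.BilinForm F (ι → F)} {d t : ℕ}

/-- An odd-sized invertible matrix which is a multiple of its transpose is symmetric. -/
theorem odd_symm (h2 : (2 : F) ≠ 0) (hd : Odd d) {A : Matrix (Fin d) (Fin d) F} (hA : A.det ≠ 0) {ε : F}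
    (h : Aᵀ = ε • A) : Aᵀ = A := by
  have hA0 : A ≠ 0 := fun h0 => hA (by
    haveI : Nonempty (Fin d) := ⟨⟨0, hd.pos⟩⟩
    rw [h0, Matrix.det_zero])
  have h1 := congrArg Matrix.transpose h
  rw [Matrix.transpose_transpose, Matrix.transpose_smul, h, smul_smul] at h1
  obtain ⟨i, j, hij⟩ : ∃ i j, A i j ≠ 0 := by
    by_contra hne; push Not at hne; exact hA0 (Matrix.ext hne)
  have h3 := congrFun (congrFun h1 i) j
  rw [Matrix.smul_apply, smul_eq_mul] at h3
  have hεε : ε * ε = 1 := (mul_eq_right₀ hij).1 h3.symm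
  rcases mul_self_eq_one_iff.1 hεε with he | he
  · rw [h, he, one_smul]
  exfalso
  have h4 := congrArg Matrix.det h
  rw [Matrix.det_transpose, he, Matrix.det_smul, Fintype.card_fin, hd.neg_one_pow] at h4
  exact hA ((mul_eq_zero.1 (show (2 : F) * A.det = 0 by linear_combination h4)).resolve_left h2)

set_option maxHeartbeats 800000 in
/-- The polar form in a frame whose factors are spanned by perfect subgroups is a tensor power. -/
theorem pow_gram [Fintype F] (C : Orth.Space Q B) (h2 : (2 : F) ≠ 0) (hd : Odd d) {H : Subgroup (GL ι F)}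
    (hH : H ≤ isometryGroup F Q) {M : Fin t → Subgroup (GL ι F)} {e : ι ≃ (Fin t → Fin d)} {P : GL ι F}
    (hM : PowData H M e P) :
    ∃ (c : F) (A : Fin t → Matrix (Fin d) (Fin d) F), c ≠ 0 ∧ (∀ i, IsUnit (A i).det) ∧ (∀ i, (A i)ᵀ = A i) ∧
      gO e P Q = c • pureTens A := by
  classical
  haveI : NeZero d := ⟨hd.pos.ne'⟩
  have hinj : ∀ i, Function.Injective fun a : Matrix (Fin d) (Fin d) F => tm e P (powStd i a) :=
    fun i => powEmb_injective hd.pos e P i
  have tm_add : ∀ X Y : Matrix (Fin t → Fin d) (Fin t → Fin d) F, tm e P (X + Y) = tm e P X + tm e P Y :=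
    fun X Y => by rw [tm, tm, tm, ← map_add]; rfl
  have tm_smul : ∀ (c : F) (X : Matrix (Fin t → Fin d) (Fin t → Fin d) F), tm e P (c • X) = c • tm e P X :=
    fun c X => by rw [tm, tm, ← map_smul]; rfl
  have hσ : ∀ i a, ∃ a', oadj Q (tm e P (powStd i a)) = tm e P (powStd i a') := fun i a =>
    (hM.span i _).1 (oadj_mem_adj C ((hM.le i).trans hH) ((hM.span i _).2 ⟨a, rfl⟩))
  choose σ hσ using hσ
  have hσσ : ∀ i a, σ i (σ i a) = a := fun i a => hinj i (by
    show tm e P _ = tm e P _
    rw [← hσ, ← hσ, oadj_oadj C])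
  have hA : ∀ i, ∃ A : Matrix (Fin d) (Fin d) F, IsUnit A.det ∧ ∀ a, σ i a = A⁻¹ * aᵀ * A := by
    intro i
    have hadd : ∀ a b, σ i (a + b) = σ i a + σ i b := fun a b => hinj i (by
      show tm e P _ = tm e P _
      rw [← hσ, show powStd i (a + b) = powStd i a + powStd i b from (powStdLin i).map_add a b, tm_add, oadj_add,
        hσ, hσ, ← tm_add, ← show powStd i (σ i a + σ i b) = powStd i (σ i a) + powStd i (σ i b) from
          (powStdLin i).map_add _ _])
    have hsmul : ∀ (c : F) a, σ i (c • a) = c • σ i a := fun c a => hinj i (by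
      show tm e P _ = tm e P _
      rw [← hσ, show powStd i (c • a) = c • powStd i a from (powStdLin i).map_smul c a, tm_smul, oadj_smul,
        hσ, ← tm_smul, ← show powStd i (c • σ i a) = c • powStd i (σ i a) from (powStdLin i).map_smul c _])
    have hmul : ∀ a b, σ i (a * b) = σ i b * σ i a := fun a b => hinj i (by
      show tm e P _ = tm e P _
      rw [← hσ, ← powStd_mul, tm_mul, oadj_mul C, hσ, hσ, ← tm_mul, powStd_mul])
    have hone : σ i 1 = 1 := hinj i (by
      show tm e P _ = tm e P _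
      rw [← hσ, powStd_one, tm_one, oadj_one C])
    let L : Matrix (Fin d) (Fin d) F →ₗ[F] Matrix (Fin d) (Fin d) F :=
      { toFun := fun a => (σ i a)ᵀ
        map_add' := fun a b => by simp [hadd]
        map_smul' := fun c a => by simp [hsmul] }
    let Φ : Matrix (Fin d) (Fin d) F →ₐ[F] Matrix (Fin d) (Fin d) F :=
      AlgHom.ofLinearMap L (by show (σ i 1)ᵀ = 1; rw [hone, Matrix.transpose_one])
        (fun a b => by show (σ i (a * b))ᵀ = _; rw [hmul, Matrix.transpose_mul]; rfl)
    have hΦ : Function.Bijective Φ := by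
      refine ⟨fun a b hab => ?_, fun a => ⟨σ i aᵀ, ?_⟩⟩
      · have h1 : σ i a = σ i b := Matrix.transpose_injective hab
        rw [← hσσ i a, h1, hσσ]
      · show (σ i (σ i aᵀ))ᵀ = a
        rw [hσσ, Matrix.transpose_transpose]
    obtain ⟨Bm, hBm⟩ := exists_conjA (AlgEquiv.ofBijective Φ hΦ)
    refine ⟨Bm.valᵀ, by rw [Matrix.det_transpose]; exact Bm.isUnit.map Matrix.detMonoidHom, fun a => ?_⟩
    have h1 : (σ i a)ᵀ = Bm.val * a * (Bm⁻¹).val := hBm a
    have h3 := congrArg Matrix.transpose h1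
    rw [Matrix.transpose_transpose, Matrix.transpose_mul, Matrix.transpose_mul, Matrix.coe_units_inv,
      Matrix.transpose_nonsing_inv] at h3
    rw [h3, Matrix.mul_assoc]
  choose A hAu hA using hA
  obtain ⟨c, hG⟩ : ∃ c : F, gO e P Q = c • pureTens A := by
    obtain ⟨c, hc⟩ := scalar_of_comm_powStd (M := gO e P Q * pureTens fun i => (A i)⁻¹) fun i a => by
      have h1 := tm_oadj C (hσ i aᵀ)
      rw [powStd_transpose, Matrix.transpose_transpose, hA, Matrix.transpose_transpose] at h1
      have h3 : powStd i ((A i)⁻¹ * a * A i) * pureTens (fun j => (A j)⁻¹) =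
          pureTens (fun j => (A j)⁻¹) * powStd i a := by
        rw [powStd, powStd, pureTens_mul, pureTens_mul]
        congr 1
        funext j
        rcases eq_or_ne j i with rfl | hj
        · simp [Matrix.mul_assoc, Matrix.mul_nonsing_inv _ (hAu j)]
        · simp [hj]
      show _ * _ = _ * _
      rw [Matrix.mul_assoc, ← h3, ← Matrix.mul_assoc, ← h1, Matrix.mul_assoc]
    refine ⟨c, ?_⟩
    have h1 := congrArg (· * pureTens A) hc
    simp only [Matrix.mul_assoc, (pureTens_inv hAu).2, Matrix.mul_one, Matrix.smul_mul, Matrix.one_mul] at h1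
    exact h1
  have hc0 : c ≠ 0 := fun h => by
    have hu := gO_isUnit (e := e) (P := P) C
    rw [hG, h, zero_smul] at hu
    exact hu.ne_zero (Matrix.det_eq_zero_of_row_eq_zero (fun _ => ⟨0, hd.pos⟩) fun _ => rfl)
  refine ⟨c, A, hc0, hAu, fun i => ?_, hG⟩
  obtain ⟨ε, hε⟩ := Matrix.mem_range_scalar_of_commute_single (M := (A i)⁻¹ * (A i)ᵀ) fun x y _ => by
    have h1 := hσσ i (Matrix.single x y (1 : F))
    rw [hA, hA, Matrix.transpose_mul, Matrix.transpose_mul, Matrix.transpose_transpose,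
      Matrix.transpose_nonsing_inv] at h1
    have h3 := congrArg (fun z => z * ((A i)⁻¹ * (A i)ᵀ)) h1
    simp only [Matrix.mul_assoc] at h3
    have hu : IsUnit (A i)ᵀ.det := by rw [Matrix.det_transpose]; exact hAu i
    rw [← Matrix.mul_assoc (A i) (A i)⁻¹, Matrix.mul_nonsing_inv _ (hAu i), Matrix.one_mul,
      Matrix.nonsing_inv_mul _ hu, Matrix.mul_one] at h3
    show Matrix.single x y (1 : F) * _ = _ * Matrix.single x y (1 : F)
    rw [← h3]
    simp only [Matrix.mul_assoc]
  refine odd_symm h2 hd (hAu i).ne_zero (ε := ε) ?_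
  have h1 := congrArg (A i * ·) hε.symm
  simp only [← Matrix.mul_assoc, Matrix.mul_nonsing_inv _ (hAu i), Matrix.one_mul] at h1
  rw [h1, Matrix.scalar_apply, ← Matrix.smul_one_eq_diagonal, Matrix.mul_smul, Matrix.mul_one]

/-- A tensor power of invertible symmetric matrices becomes a scalar matrix in another frame. -/
theorem exists_frame [Finite F] (h2 : (2 : F) ≠ 0) (hd : Odd d) {e : ι ≃ (Fin t → Fin d)} {P : GL ι F} {c : F}
    (hc : c ≠ 0) {A : Fin t → Matrix (Fin d) (Fin d) F} (hAu : ∀ i, IsUnit (A i).det) (hA : ∀ i, (A i)ᵀ = A i)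
    (hG : gO e P Q = c • pureTens A) :
    ∃ (P' : GL ι F) (c' : F), c' ≠ 0 ∧ gO e P' Q = c' • 1 ∧
      tensorWreathSubgroup d t e P ≤ tensorWreathSubgroup d t e P' := by
  classical
  have hex : ∀ i, ∃ (T : GL (Fin d) F) (s : F), s ≠ 0 ∧ T.valᵀ * A i * T.val = s • 1 := by
    intro i
    obtain ⟨n, hn, rfl⟩ : ∃ n, Even n ∧ d = n + 1 := by
      obtain ⟨k, rfl⟩ := hd
      exact ⟨2 * k, even_two_mul k, rfl⟩
    exact exists_scalar_congr h2 hn (hA i) (hAu i)
  choose T s hs hT using hex
  let x : GL (Fin t → Fin d) F := ⟨pureTens fun i => (T i).val, pureTens fun i => ((T i)⁻¹).val,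
    by rw [pureTens_mul]; simp only [Units.mul_inv, pureTens_one],
    by rw [pureTens_mul]; simp only [Units.inv_mul, pureTens_one]⟩
  have hx : x ∈ tensorWreathStandard d t F := Subgroup.subset_closure (Or.inl ⟨T, fun p q => rfl⟩)
  refine ⟨P * glReindex e.symm x, c * ∏ i, s i, mul_ne_zero hc (Finset.prod_ne_zero_iff.2 fun i _ => hs i), ?_,
    wreath_change hx⟩
  rw [gO_change (e := e) (P := P) (Q := Q) x (P * glReindex e.symm x) rfl, hG]
  show (pureTens fun i => (T i).val)ᵀ * (c • pureTens A) * pureTens (fun i => (T i).val) = _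
  rw [pureTens_transpose, Matrix.mul_smul, Matrix.smul_mul, pureTens_mul, pureTens_mul]
  simp only [hT]
  rw [Cfsg.Lib.Linear.AschSp.pureTens_smul, pureTens_one, smul_smul]

/-- Elements of the standard stabiliser permute and transform the factors. -/
theorem standard_act {x : GL (Fin t → Fin d) F} (hx : x ∈ tensorWreathStandard d t F) :
    ∃ (a : Fin t → GL (Fin d) F) (σ : Equiv.Perm (Fin t)), ∀ u : Fin t → Fin d → F,
      x.val *ᵥ pureVec u = pureVec fun i => (a i).val *ᵥ u (σ i) := by
  induction hx using Subgroup.closure_induction with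
  | mem g hg =>
    rcases hg with ⟨gs, hgs⟩ | ⟨σ, hσ⟩
    · refine ⟨gs, 1, fun u => ?_⟩
      rw [show g.val = pureTens fun i => (gs i).val from Matrix.ext hgs, pureTens_mulVec]
      rfl
    · refine ⟨fun _ => 1, σ.symm, fun u => ?_⟩
      funext y
      have h1 : (g.val *ᵥ pureVec u) y = pureVec u (y ∘ σ) := by
        simp only [Matrix.mulVec, dotProduct, hσ, ite_mul, one_mul, zero_mul, Finset.sum_ite_eq', Finset.mem_univ,
          if_true]
      rw [h1]
      show ∏ i, u i (y (σ i)) = ∏ i, ((1 : GL (Fin d) F).val *ᵥ u (σ.symm i)) (y i)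
      rw [← Equiv.prod_comp σ fun i => ((1 : GL (Fin d) F).val *ᵥ u (σ.symm i)) (y i)]
      exact Finset.prod_congr rfl fun i _ => by rw [Equiv.symm_apply_apply, Units.val_one, Matrix.one_mulVec]
  | one => exact ⟨fun _ => 1, 1, fun u => by simp⟩
  | mul g h _ _ hg hh =>
    obtain ⟨a, σ, ha⟩ := hg
    obtain ⟨b, τ, hb⟩ := hh
    refine ⟨fun i => a i * b (σ i), σ.trans τ, fun u => ?_⟩
    rw [Units.val_mul, ← Matrix.mulVec_mulVec, hb, ha]
    simp only [Units.val_mul, ← Matrix.mulVec_mulVec, Equiv.trans_apply]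
  | inv g _ hg =>
    obtain ⟨a, σ, ha⟩ := hg
    refine ⟨fun j => (a (σ.symm j))⁻¹, σ.symm, fun u => ?_⟩
    have h1 := ha fun j => ((a (σ.symm j))⁻¹).val *ᵥ u (σ.symm j)
    simp only [Equiv.symm_apply_apply, mulVec_inv_mulVec] at h1
    rw [← h1, inv_mulVec_mulVec]

/-- A unit vector of a tensor power is a pure tensor. -/
theorem pureVec_single (x : Fin t → Fin d) :
    pureVec (fun i => (Pi.single (x i) (1 : F) : Fin d → F)) = Pi.single x 1 := by
  classical
  funext y
  simp only [pureVec, Pi.single_apply]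
  by_cases h : y = x
  · subst h; simp
  · obtain ⟨i, hi⟩ := Function.ne_iff.1 h
    rw [if_neg h]
    exact Finset.prod_eq_zero (Finset.mem_univ i) (if_neg hi)

/-- Over three elements an orthogonal stabiliser of a tensor power of spaces of dimension three is monomial. -/
theorem three_power_lines [Fintype F] (C : Orth.Space Q B) (hq : Fintype.card F = 3) (h2 : (2 : F) ≠ 0) (ht : 1 ≤ t)
    {H : Subgroup (GL ι F)} (hH : H ≤ isometryGroup F Q) {e : ι ≃ (Fin t → Fin 3)} {P : GL ι F} {c : F}
    (hc : c ≠ 0) (hg : gO e P Q = c • 1) (hle : H ≤ tensorWreathSubgroup 3 t e P) :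
    ∃ D : Fin (Fintype.card ι) → Submodule F (ι → F), IsOrthogonalMDecomposition Q 1 D ∧
      H ≤ decompositionStabilizer D := by
  classical
  let σ : Fin (Fintype.card ι) ≃ (Fin t → Fin 3) := (Fintype.equivFin ι).symm.trans e
  have hr : 2 ≤ Fintype.card ι := by
    rw [Fintype.card_congr e, Fintype.card_fun, Fintype.card_fin, Fintype.card_fin]
    calc 2 ≤ 3 ^ 1 := by norm_num
      _ ≤ 3 ^ t := Nat.pow_le_pow_right (by norm_num) ht
  refine lines_of_frame C h2 rfl hr hc (v := fun i => P.val *ᵥ (Pi.single (σ i) (1 : F) ∘ e))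
    (fun i j => ?_) hH fun g hgH i => ?_
  · rw [coord_form C, hg, Matrix.smul_mulVec, Matrix.one_mulVec, dotProduct_smul, smul_eq_mul,
      single_dotProduct, one_mul, Pi.single_apply, mul_ite, mul_one, mul_zero]
    exact if_congr σ.injective.eq_iff rfl rfl
  obtain ⟨_, ⟨x, hx, rfl⟩, hxg⟩ := hle hgH
  have hgv : g.val = tm e P x.val := by rw [← hxg]; rfl
  obtain ⟨a, π, hax⟩ := standard_act hx
  have hxx : x.valᵀ * x.val = 1 := by
    have h1 := gO_fix C (hH hgH) hgv
    rw [hg, Matrix.mul_smul, Matrix.mul_one, Matrix.smul_mul] at h1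
    exact smul_right_injective _ hc h1
  have key : ∀ u v : Fin t → Fin 3 → F,
      ∏ k, ((a k).val *ᵥ u (π k)) ⬝ᵥ ((a k).val *ᵥ v (π k)) = ∏ k, u k ⬝ᵥ v k := fun u v => by
    rw [← pureVec_dot, ← pureVec_dot, ← hax, ← hax, Matrix.dotProduct_mulVec, ← Matrix.mulVec_transpose,
      Matrix.mulVec_mulVec, hxx, Matrix.one_mulVec, dotProduct_comm]
  let N : Fin t → Matrix (Fin 3) (Fin 3) F := fun k => (a k).valᵀ * (a k).val
  have hN : ∀ k p q, ((a k).val *ᵥ (Pi.single p (1 : F) : Fin 3 → F)) ⬝ᵥ ((a k).val *ᵥ Pi.single q 1) = N k p q := by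
    intro k p q
    simp [N, Matrix.mulVec_single_one, Matrix.mul_apply, dotProduct]
  have key' : ∀ w w' : Fin t → Fin 3, ∏ k, N k (w (π k)) (w' (π k)) = ∏ k, if w k = w' k then 1 else 0 := by
    intro w w'
    have h1 := key (fun k => Pi.single (w k) (1 : F)) (fun k => Pi.single (w' k) (1 : F))
    simp only [hN] at h1
    rw [h1]
    refine Finset.prod_congr rfl fun k _ => ?_
    rw [single_dotProduct, one_mul, Pi.single_apply]
  have hdiag : ∀ k p, N k p p ≠ 0 := fun k p h => by
    have h1 := key' (fun _ => p) (fun _ => p)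
    rw [Finset.prod_eq_zero (Finset.mem_univ k) h] at h1
    simp at h1
  have hN1 : ∀ k, N k = 1 := by
    intro k
    have hrest : ∀ p q p' q' : Fin 3, (∏ l ∈ Finset.univ.erase k,
        N l (Function.update (fun _ => (0 : Fin 3)) (π k) p (π l)) (Function.update (fun _ => (0 : Fin 3)) (π k) q (π l))) =
        ∏ l ∈ Finset.univ.erase k, N l 0 0 := fun p q p' q' => Finset.prod_congr rfl fun l hl => by
      have hne : π l ≠ π k := fun h => (Finset.mem_erase.1 hl).1 (π.injective h)
      rw [Function.update_of_ne hne, Function.update_of_ne hne]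
    have hval : ∀ p q, N k p q * (∏ l ∈ Finset.univ.erase k, N l 0 0) = if p = q then 1 else 0 := by
      intro p q
      have h1 := key' (Function.update (fun _ => (0 : Fin 3)) (π k) p) (Function.update (fun _ => (0 : Fin 3)) (π k) q)
      rw [← Finset.mul_prod_erase _ _ (Finset.mem_univ k), Function.update_self, Function.update_self,
        hrest p q p q] at h1
      rw [h1]
      by_cases hpq : p = q
      · subst hpq; simp
      · rw [if_neg hpq]
        exact Finset.prod_eq_zero (Finset.mem_univ (π k)) (by simp [hpq])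
    set R := ∏ l ∈ Finset.univ.erase k, N l 0 0
    have hR : R ≠ 0 := Finset.prod_ne_zero_iff.2 fun l _ => hdiag l 0
    have hν : N k = R⁻¹ • 1 := Matrix.ext fun p q => by
      rw [Matrix.smul_apply, Matrix.one_apply, smul_eq_mul, ← hval p q, ← mul_assoc, mul_comm R⁻¹, mul_assoc,
        inv_mul_cancel₀ hR, mul_one]
    have h3 := congrArg Matrix.det hν
    have hb : (a k).val.det * (a k).val.det = 1 := sq_one_three hq (Matrix.GeneralLinearGroup.det_ne_zero (a k))
    rw [Matrix.det_mul, Matrix.det_transpose, Matrix.det_smul, Fintype.card_fin, Matrix.det_one, mul_one, hb] at h3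
    have h4 : R⁻¹ * R⁻¹ = 1 := sq_one_three hq (inv_ne_zero hR)
    have h5 : R⁻¹ = 1 := by linear_combination -h3 - R⁻¹ * h4
    rw [hν, h5, one_smul]
  choose l s hl using fun k => column_single hq (hN1 k) (σ i (π k))
  refine ⟨σ.symm l, Submodule.mem_span_singleton.2 ⟨∏ k, s k, ?_⟩⟩
  simp only [Equiv.apply_symm_apply]
  rw [hgv, tm_act, ← pureVec_single (σ i), hax, ← Matrix.mulVec_smul]
  congr 1
  funext z
  simp only [Pi.smul_apply, Function.comp_apply, smul_eq_mul, hl, pureVec, ← pureVec_single l,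
    ← Finset.prod_mul_distrib]

/-- The alternatives for a tensor power preserved by a group of isometries. -/
theorem power_cases [Fintype F] (C : Orth.Space Q B) (h2 : (2 : F) ≠ 0) (hd : Odd d) (ht : 1 ≤ t)
    {H : Subgroup (GL ι F)} (hH : H ≤ isometryGroup F Q) {e : ι ≃ (Fin t → Fin d)} {P : GL ι F} {c : F}
    (hc : c ≠ 0) {A : Fin t → Matrix (Fin d) (Fin d) F} (hAu : ∀ i, IsUnit (A i).det) (hA : ∀ i, (A i)ᵀ = A i)
    (hG : gO e P Q = c • pureTens A) (hle : H ≤ tensorWreathSubgroup d t e P) :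
    (¬ (Fintype.card F = 3 ∧ d = 3) ∧ ∃ (P' : GL ι F) (f₁ : (Fin d → F) → (Fin d → F) → F), IsSymmetricForm f₁ ∧
      IsTensorPowerFormStructure id (QuadraticMap.polar Q) f₁ e P' ∧ H ≤ tensorWreathSubgroup d t e P') ∨
    ((Fintype.card F).Prime ∧ ∃ D : Fin (Fintype.card ι) → Submodule F (ι → F), IsOrthogonalMDecomposition Q 1 D ∧
      H ≤ decompositionStabilizer D) := by
  classical
  obtain ⟨P', c', hc', hg, hch⟩ := exists_frame h2 hd hc hAu hA hG
  by_cases hex : Fintype.card F = 3 ∧ d = 3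
  · obtain ⟨hq, rfl⟩ := hex
    exact Or.inr ⟨by rw [hq]; norm_num, three_power_lines C hq h2 ht hH hc' hg (hle.trans hch)⟩
  refine Or.inl ⟨hex, P', formOfGram id (1 : Matrix (Fin d) (Fin d) F), AschSp.symm_formOfGram
    (by rw [Matrix.det_one]; exact isUnit_one) Matrix.transpose_one, ⟨c', hc', fun x y => ?_⟩, hle.trans hch⟩
  have hδ : ∀ a b : Fin t → Fin d, (∏ i, (1 : Matrix (Fin d) (Fin d) F) (a i) (b i)) =
      if a = b then 1 else 0 := fun a b => by
    have h := congrFun (congrFun (pureTens_one (F := F) (d := d) (t := t)) a) b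
    rwa [pureTens, Matrix.of_apply, Matrix.one_apply] at h
  rw [AschSp.gram_formOfGram, C.polar, coord_form C, hg, Matrix.smul_mulVec, Matrix.one_mulVec, dotProduct_smul,
    smul_eq_mul]
  simp only [hδ, id_eq]
  simp [dotProduct]

end Cfsg.Lib.Linear.AschOrth
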