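import Cfsg.Agent.Lib.Linear.AschOrth.Nine
import Cfsg.Agent.Lib.Linear.AschOrth.OddPower
import Cfsg.Agent.Lib.Linear.AschSp.PrimeField

/-!
# Groups of isometries in odd dimension
-/

set_option autoImplicit false
set_option linter.unusedSectionVars false
set_option linter.style.haveILetI false

namespace Cfsg.Lib.Linear.AschOrth

open Cfsg.Geo Cfsg.Lib.Linear Cfsg.Lib.Linear.Asch Cfsg.Lib.Linear.AschGen Module
open scoped Matrix MatrixGroups Kronecker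

variable {ι : Type} [Fintype ι] [DecidableEq ι] {F : Type*} [Field F]
  {Q : (ι → F) → F} {B : LinearMap.BilinForm F (ι → F)}

/-- A tensor product preserved by isometries gives symmetric forms on both factors. -/
theorem tensor_gram [Fintype F] (C : Orth.Space Q B) (h2 : (2 : F) ≠ 0) {H N : Subgroup (GL ι F)}
    (hN : N ≤ isometryGroup F Q) {d k : ℕ} (hd : Odd d) (hk : Odd k) {e : ι ≃ Fin d × Fin k} {P : GL ι F}
    (hmem : ∀ X, X ∈ adj N ↔ ∃ a, X = tensMat e P a 1) :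
    ∃ (A : Matrix (Fin d) (Fin d) F) (A' : Matrix (Fin k) (Fin k) F), IsUnit A.det ∧ IsUnit A'.det ∧
      Aᵀ = A ∧ A'ᵀ = A' ∧ gO e P Q = A ⊗ₖ A' := by
  classical
  obtain ⟨A, A', hG⟩ := AschSp.kron_factor (d := d) (k := k) hk.pos (gO_isUnit (e := e) (P := P) C) (fun a => by
    obtain ⟨a', ha⟩ := (hmem _).1 (oadj_mem_adj C hN ((hmem _).2 ⟨a, rfl⟩))
    exact ⟨a', tm_oadj C ha⟩)
  have hu := gO_isUnit (e := e) (P := P) C
  rw [hG, Matrix.det_kronecker, IsUnit.mul_iff, Fintype.card_fin, Fintype.card_fin] at hu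
  have hAu : IsUnit A.det := (isUnit_pow_iff hk.pos.ne').1 hu.1
  have hA'u : IsUnit A'.det := (isUnit_pow_iff hd.pos.ne').1 hu.2
  haveI : Nonempty (Fin d) := ⟨⟨0, hd.pos⟩⟩
  haveI : Nonempty (Fin k) := ⟨⟨0, hk.pos⟩⟩
  have hA0 : A ≠ 0 := fun h => hAu.ne_zero (by rw [h, Matrix.det_zero])
  have hA'0 : A' ≠ 0 := fun h => hA'u.ne_zero (by rw [h, Matrix.det_zero])
  have htr : Aᵀ ⊗ₖ A'ᵀ = A ⊗ₖ A' := by
    rw [← AschSp.kron_comp_left, ← hG, gO_transpose]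
  obtain ⟨μ, hμ, hA't, hAt⟩ := AschSp.kron_inj htr hA0 hA'0
  exact ⟨A, A', hAu, hA'u, odd_symm h2 hd hAu.ne_zero hAt, odd_symm h2 hk hA'u.ne_zero hA't, hG⟩

/-- A tensor decomposition with the factors listed in the other order. -/
theorem tensor_comm {d k : ℕ} {e : ι ≃ Fin d × Fin k} {P : GL ι F} :
    tensorProductSubgroup d k e P ≤ tensorProductSubgroup k d (e.trans (Equiv.prodComm _ _)) P := by
  rintro _ ⟨_, ⟨y, ⟨a, b, hy⟩, rfl⟩, rfl⟩
  refine ⟨_, ⟨glReindex (Equiv.prodComm _ _) y, ⟨b, a, ?_⟩, rfl⟩, rfl⟩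
  ext ⟨i, j⟩ ⟨i', j'⟩
  show y.val (j, i) (j', i') = _
  rw [hy]
  simp [mul_comm]

/-- Data of a tensor product member. -/
theorem tensor_data (C : Orth.Space Q B) {d k : ℕ} {e : ι ≃ Fin d × Fin k} {P : GL ι F}
    {A : Matrix (Fin d) (Fin d) F} {A' : Matrix (Fin k) (Fin k) F} (hG : gO e P Q = A ⊗ₖ A')
    (hAu : IsUnit A.det) (hA'u : IsUnit A'.det) (hA : Aᵀ = A) (hA' : A'ᵀ = A') :
    ∃ (f₁ : (Fin d → F) → (Fin d → F) → F) (f₂ : (Fin k → F) → (Fin k → F) → F),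
      IsSymmetricForm f₁ ∧ IsSymmetricForm f₂ ∧ IsTensorFormStructure id (QuadraticMap.polar Q) f₁ f₂ e P := by
  refine ⟨formOfGram id A, formOfGram id A', AschSp.symm_formOfGram hAu hA, AschSp.symm_formOfGram hA'u hA',
    1, one_ne_zero, fun x y => ?_⟩
  rw [AschSp.gram_formOfGram, AschSp.gram_formOfGram, one_mul, C.polar, coord_form C, hG,
    AschSp.formOfGram_mat]

/-- A group of isometries of odd degree lies in a geometric subgroup or is almost simple. -/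
theorem odd_general [Fintype F] (C : Orth.Space Q B) (hodd : Odd (Fintype.card F)) (hι : Odd (Fintype.card ι))
    (h7 : 7 ≤ Fintype.card ι) (hQrat : ∀ F₁ : Subfield F, ∀ v : ι → F, (∀ i, v i ∈ F₁) → Q v ∈ F₁)
    {H : Subgroup (GL ι F)} (hHI : H ≤ isometryGroup F Q) :
    (∃ W : Submodule F (ι → F), W ≠ ⊥ ∧ IsTotallySingularQuad Q W ∧ H ≤ subspaceStabilizer W) ∨
    (∃ W : Submodule F (ι → F), W ≠ ⊥ ∧ W ≠ ⊤ ∧ IsNondegenerateOn (QuadraticMap.polar Q) W ∧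
      H ≤ subspaceStabilizer W) ∨
    (∃ (t k : ℕ) (D : Fin t → Submodule F (ι → F)), 1 < k ∧ IsOrthogonalMDecomposition Q k D ∧
      H ≤ decompositionStabilizer D) ∨
    (∃ (t : ℕ) (D : Fin t → Submodule F (ι → F)), (Fintype.card F).Prime ∧ IsOrthogonalMDecomposition Q 1 D ∧
      H ≤ decompositionStabilizer D) ∨
    (∃ (r : ℕ) (K : Subalgebra F (Matrix ι ι F)), r.Prime ∧ Fintype.card ι ≠ r ∧ IsFieldSubalgebra r K ∧
      IsSelfAdjointFor (QuadraticMap.polar Q) K ∧ H ≤ subalgebraNormalizer K) ∨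
    (∃ (n₁ n₂ : ℕ) (e : ι ≃ Fin n₁ × Fin n₂) (P : GL ι F)
      (f₁ : (Fin n₁ → F) → (Fin n₁ → F) → F) (f₂ : (Fin n₂ → F) → (Fin n₂ → F) → F),
      3 ≤ n₁ ∧ n₁ < n₂ ∧ IsSymmetricForm f₁ ∧ IsSymmetricForm f₂ ∧
      IsTensorFormStructure id (QuadraticMap.polar Q) f₁ f₂ e P ∧ H ≤ tensorProductSubgroup n₁ n₂ e P) ∨
    (∃ (F₀ : Subfield F) (r : ℕ) (P : GL ι F), r.Prime ∧ Fintype.card F = Nat.card F₀ ^ r ∧
      IsQuadFormRationalStructure Q F₀ P ∧ H ≤ subfieldSubgroup F₀ P) ∨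
    (∃ (k t : ℕ) (e : ι ≃ (Fin t → Fin k)) (P : GL ι F) (f₁ : (Fin k → F) → (Fin k → F) → F),
      3 ≤ k ∧ 2 ≤ t ∧ ¬ (Fintype.card F = 3 ∧ k = 3) ∧ IsSymmetricForm f₁ ∧
      IsTensorPowerFormStructure id (QuadraticMap.polar Q) f₁ e P ∧ H ≤ tensorWreathSubgroup k t e P) ∨
    InOrthogonalResidualClass H := by
  classical
  have h2 : (2 : F) ≠ 0 := Orth.two_ne_zero_of_odd_card hodd
  haveI : Nonempty ι := Fintype.card_pos_iff.1 (by omega)
  by_cases hirr : ActsIrreducibly (matrixSet H)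
  swap
  · rw [irr_iff] at hirr
    push Not at hirr
    obtain ⟨W, hW, hW0, hW1⟩ := hirr
    by_cases hsing : W ⊓ B.orthogonal W = ⊥
    · exact Or.inr (Or.inl ⟨W, hW0, hW1, orth_nondegenerateOn C hsing,
        fun g hg => mem_subspaceStabilizer_of_inv (hW g hg)⟩)
    · refine Or.inl ⟨_, hsing, fun w hw => ?_, fun g hg => mem_subspaceStabilizer_of_inv
        (fun w hw => ⟨hW g hg w hw.1, orth_perp_inv C hHI hW g hg w hw.2⟩)⟩
      have h1 : B w w = 0 := hw.2 w hw.1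
      rw [C.self] at h1
      exact (mul_eq_zero.1 h1).resolve_left h2
  refine Or.inr (Or.inr ?_)
  have mkC5 : ∀ {G : Subgroup (GL ι F)} {F₀ : Subfield F}, F₀ ≠ ⊤ →
      ActsAbsolutelyIrreducibly (matrixSet G) → G ≤ isometryGroup F Q →
      (∀ g ∈ H, ∀ x ∈ G, g * x * g⁻¹ ∈ G) → RealisableOver F₀ (matrixSet G) →
      ∃ (F₀ : Subfield F) (s : ℕ) (P : GL ι F), s.Prime ∧ Fintype.card F = Nat.card F₀ ^ s ∧
        IsQuadFormRationalStructure Q F₀ P ∧ H ≤ subfieldSubgroup F₀ P := by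
    intro G F₀ h0 h1 h3 h4 hreal
    obtain ⟨F₁, s, P, -, hs, hc, hP, hle⟩ := orth_realisable_le C h2 hι hQrat h0 h1 h3 h4 hreal
    exact ⟨F₁, s, P, hs, hc, hP, hle⟩
  by_cases hF : FieldExt H
  · obtain ⟨N, hN, h1, hK⟩ := hF
    have hne := bicomm_lt_card C h2 hι (hN.le.trans hHI) h1 hK
    set d := finrank F (bicomm N) with hd
    have hdvd := field_dvd_card hK
    have hdodd : Odd d := Odd.of_dvd_nat hι hdvd
    have hsa := field_self_adjoint C h2 hdodd hK fun x hx => oadj_mem_bicomm C (hN.le.trans hHI) hx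
    obtain ⟨r, hr, hrs⟩ := Nat.exists_prime_and_dvd (show d ≠ 1 by omega)
    obtain ⟨K, hKle, hKf, hmem⟩ := AschSp.exists_prime_subfield hK hr hrs
    have hrn : Fintype.card ι ≠ r := fun h => hne (Nat.dvd_antisymm hdvd (h ▸ hrs))
    have hone : ∀ g ∈ H, ∀ x ∈ K, conjA g x ∈ K := by
      intro g hg x hx
      have h3 := (hmem x (hKle hx)).1 hx
      refine (hmem _ (conjA_bicomm hN hg (hKle hx))).2 ?_
      rw [← map_pow, h3]
    refine Or.inr (Or.inr (Or.inl ⟨r, K, hr, hrn, hKf, fun x hx u v => ?_, fun g hg x =>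
      ⟨fun hx => hone g hg x hx, fun hx => ?_⟩⟩))
    · rw [C.polar, C.polar, oadj_spec C, hsa x (hKle hx)]
    · have h3 := hone g⁻¹ (inv_mem hg) _ hx
      rwa [← conjA_apply, conjA_inv] at h3
  have power : ∀ {d t : ℕ} {e : ι ≃ (Fin t → Fin d)} {P : GL ι F} {c : F}
      {A : Fin t → Matrix (Fin d) (Fin d) F}, 3 ≤ d → 2 ≤ t → Odd d → c ≠ 0 → (∀ i, IsUnit (A i).det) →
      (∀ i, (A i)ᵀ = A i) → gO e P Q = c • pureTens A → H ≤ tensorWreathSubgroup d t e P →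
      (∃ (t : ℕ) (D : Fin t → Submodule F (ι → F)), (Fintype.card F).Prime ∧ IsOrthogonalMDecomposition Q 1 D ∧
        H ≤ decompositionStabilizer D) ∨
      (∃ (k t : ℕ) (e : ι ≃ (Fin t → Fin k)) (P : GL ι F) (f₁ : (Fin k → F) → (Fin k → F) → F),
        3 ≤ k ∧ 2 ≤ t ∧ ¬ (Fintype.card F = 3 ∧ k = 3) ∧ IsSymmetricForm f₁ ∧
        IsTensorPowerFormStructure id (QuadraticMap.polar Q) f₁ e P ∧ H ≤ tensorWreathSubgroup k t e P) := by
    intro d t e P c A hd3 ht hd hc hAu hA hG hle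
    rcases power_cases C h2 hd (by omega) hHI hc hAu hA hG hle with ⟨hex, P', f₁, hf, hT, hle'⟩ | ⟨hp, D, hD, hle'⟩
    · exact Or.inr ⟨d, t, e, P', f₁, hd3, ht, hex, hf, hT, hle'⟩
    · exact Or.inl ⟨_, D, hp, hD, hle'⟩
  rcases core hirr (by omega) with h | h | h | h | h | h
  · obtain ⟨t, m, D, ht, htm, hD, hle⟩ := imprimitive_odd C hι hHI h
    rcases Nat.lt_or_ge 1 m with hm | hm
    · exact Or.inl ⟨t, m, D, hm, hD, hle⟩
    obtain rfl : m = 1 := le_antisymm hm hD.decomp.decomp.pos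
    by_cases hp : (Fintype.card F).Prime
    · exact Or.inr (Or.inl ⟨t, D, hp, hD, hle⟩)
    have habs := (absIrr_or_fieldExt hirr).resolve_right hF
    obtain ⟨p, hpc⟩ := CharP.exists F
    obtain ⟨k, hpp, hk⟩ := FiniteField.card F p
    haveI := Fact.mk hpp
    obtain ⟨F₁, hF₁, -⟩ := exists_subfield_pow (F := F) p k 1 hk one_pos (one_dvd _)
    have hne : F₁ ≠ ⊤ := fun h => by
      rw [h, Nat.card_congr Subfield.topEquiv.toEquiv, Nat.card_eq_fintype_card, pow_one] at hF₁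
      exact hp (hF₁ ▸ hpp)
    rw [mul_one] at htm
    exact Or.inr (Or.inr (Or.inr (Or.inr (Or.inl (mkC5 hne habs hHI
      (fun g hg x hx => mul_mem (mul_mem hg hx) (inv_mem hg))
      (orth_monomial_realisable C h2 htm.symm hHI hD hle (by omega) F₁))))))
  · exact absurd h hF
  · obtain ⟨N, d, k, e, P, hN, hd, hk, hmem, hle⟩ := h
    have hdk : d * k = Fintype.card ι := by
      rw [Fintype.card_congr e, Fintype.card_prod, Fintype.card_fin, Fintype.card_fin]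
    obtain ⟨hdo, hko⟩ := Nat.odd_mul.1 (hdk ▸ hι)
    have hd3 : 3 ≤ d := by obtain ⟨j, rfl⟩ := hdo; omega
    have hk3 : 3 ≤ k := by obtain ⟨j, rfl⟩ := hko; omega
    obtain ⟨A, A', hAu, hA'u, hA, hA', hG⟩ := tensor_gram (H := H) C h2 (hN.le.trans hHI) hdo hko hmem
    rcases lt_trichotomy d k with hlt | heq | hgt
    · obtain ⟨f₁, f₂, hf₁, hf₂, hT⟩ := tensor_data C hG hAu hA'u hA hA'
      exact Or.inr (Or.inr (Or.inr (Or.inl ⟨d, k, e, P, f₁, f₂, hd3, hlt, hf₁, hf₂, hT, hle⟩)))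
    · subst heq
      have hG' : gO (e.trans (arrow d)) P Q = (1 : F) • pureTens ![A, A'] := by
        rw [one_smul]
        ext x y
        show gO e P Q ((arrow d).symm x) ((arrow d).symm y) = _
        rw [hG]
        simp [pureTens, Fin.prod_univ_two, arrow, finTwoArrowEquiv, Matrix.kroneckerMap_apply]
      rcases power hd3 le_rfl hdo one_ne_zero ((Fin.forall_fin_two.2 ⟨hAu, hA'u⟩))
        (by simp [Fin.forall_fin_two, hA, hA']) hG' (hle.trans tensor_le_wreath) with h | h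
      · exact Or.inr (Or.inl h)
      · exact Or.inr (Or.inr (Or.inr (Or.inr (Or.inr (Or.inl h)))))
    · have hG' : gO (e.trans (Equiv.prodComm _ _)) P Q = A' ⊗ₖ A := by
        ext ⟨i, j⟩ ⟨i', j'⟩
        show gO e P Q (j, i) (j', i') = _
        rw [hG]
        simp [Matrix.kroneckerMap_apply, mul_comm]
      obtain ⟨f₁, f₂, hf₁, hf₂, hT⟩ := tensor_data C hG' hA'u hAu hA' hA
      exact Or.inr (Or.inr (Or.inr (Or.inl ⟨k, d, _, P, f₁, f₂, hk3, hgt, hf₁, hf₂, hT, hle.trans tensor_comm⟩)))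
  · obtain ⟨R, r, m, h6⟩ := h
    refine (six_odd_false C h7 hHI h6 ?_).elim
    exact Odd.of_dvd_nat hι (h6.card_eq ▸ dvd_pow_self r h6.pos.ne')
  · obtain ⟨d, t, M, e, P, hd, ht, hM⟩ := h
    have hdt : d ^ t = Fintype.card ι := by
      rw [Fintype.card_congr e, Fintype.card_fun, Fintype.card_fin, Fintype.card_fin]
    have hdo : Odd d := Odd.of_dvd_nat hι (hdt ▸ dvd_pow_self d (by omega))
    have hd3 : 3 ≤ d := by obtain ⟨j, rfl⟩ := hdo; omega
    obtain ⟨c, A, hc, hAu, hA, hG⟩ := pow_gram C h2 hdo hHI hM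
    rcases power hd3 ht hdo hc hAu hA hG hM.stab with h | h
    · exact Or.inr (Or.inl h)
    · exact Or.inr (Or.inr (Or.inr (Or.inr (Or.inr (Or.inl h)))))
  · obtain ⟨P, hc⟩ := h
    by_cases hreal : ∃ F₀ : Subfield F, F₀ ≠ ⊤ ∧ RealisableOver F₀ (matrixSet P)
    · obtain ⟨F₀, h0, h1⟩ := hreal
      exact Or.inr (Or.inr (Or.inr (Or.inr (Or.inl (mkC5 h0 hc.absIrred (hc.sub.le.trans hHI) hc.sub.normal h1)))))
    · exact Or.inr (Or.inr (Or.inr (Or.inr (Or.inr (Or.inr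
        (almost_residual C hHI hc fun F₀ h0 h1 => hreal ⟨F₀, h0, h1⟩))))))

end Cfsg.Lib.Linear.AschOrth
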