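import Cfsg.Agent.Lib.Linear.AschOrth.EvenCore
import Cfsg.Agent.Lib.Linear.AschOrth.Eight
import Cfsg.Agent.Lib.Linear.AschOrth.EvenAbs

/-!
# Maximal subgroups of `Ω` in dimension ten
-/

set_option autoImplicit false
set_option linter.unusedSectionVars false
set_option linter.style.haveILetI false

namespace Cfsg.Lib.Linear.AschOrth

open Cfsg.Geo Cfsg.Lib.Linear Cfsg.Lib.Linear.Asch Cfsg.Lib.Linear.AschGen Module
open scoped Matrix MatrixGroups

variable {ι : Type} [Fintype ι] [DecidableEq ι] {F : Type*} [Field F]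
  {Q : (ι → F) → F} {B : LinearMap.BilinForm F (ι → F)} {H : Subgroup (GL ι F)}

theorem neg_one_square_iff [Fintype F] (h2 : (2 : F) ≠ 0) :
    (IsSquare (-1 : F) ↔ Fintype.card F % 4 = 1) ∧ (¬ IsSquare (-1 : F) ↔ Fintype.card F % 4 = 3) := by
  have ho := Nat.odd_iff.1 (odd_of_two_ne h2)
  rw [FiniteField.isSquare_neg_one_iff]
  omega

/-- An isometry group fixing two halves of odd dimension in `Ω` fixes each of them. -/
theorem ts_pair_fixed [Finite F] (C : Orth.Space Q B) (h5 : 5 ≤ Fintype.card ι) {k : ℕ} (hk : Odd k)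
    (hcard : 2 * k = Fintype.card ι) (hH : H ≤ omegaGL Q) {D : Fin 2 → Submodule F (ι → F)}
    (hD : IsMDecomposition k D) (hts : ∀ i, IsTotallySingularQuad Q (D i)) (hle : H ≤ decompositionStabilizer D) :
    InvSub H (D 0) := by
  intro g hg v hv
  obtain ⟨σ, hσ⟩ := hle hg
  have hhalf : ∀ i, Orth.IsHalf Q (D i) := fun i => ⟨hts i, by rw [hD.finrank_eq]; omega⟩
  have himg : ∀ x, x ∈ Orth.img g (D 0) ↔ x ∈ D (σ 0) := fun x => by
    rw [Orth.mem_img, ← hσ]
    constructor
    · exact fun h => ⟨_, h, by rw [Matrix.toLin'_apply, mulVec_inv_mulVec]⟩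
    · rintro ⟨y, hy, rfl⟩
      rwa [Matrix.toLin'_apply, inv_mulVec_mulVec]
  by_cases h : σ 0 = 0
  · exact h ▸ (hσ 0 ▸ ⟨v, hv, Matrix.toLin'_apply _ _⟩ : g.val *ᵥ v ∈ D (σ 0))
  exfalso
  have hpar := Orth.omega_parity C h5 (hH hg) (hhalf 0) (hhalf 0)
  have h1 : D 0 ⊓ Orth.img g (D 0) = ⊥ := (Submodule.eq_bot_iff _).2 fun x hx => by
    have h2 := (himg x).1 hx.2
    have hdis : Disjoint (D 0) (D (σ 0)) := hD.indep.pairwiseDisjoint (Ne.symm h)
    exact (Submodule.disjoint_def.1 hdis) x hx.1 h2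
  rw [h1, finrank_bot, inf_idem, hD.finrank_eq] at hpar
  obtain ⟨j, rfl⟩ := hk
  omega

/-- Frames with one value on non-degenerate subspaces of odd dimension. -/
theorem scalar_frame [Finite F] (C : Orth.Space Q B) (h2 : (2 : F) ≠ 0) {U : Submodule F (ι → F)} {k : ℕ}
    (hk : Odd k) (hd : finrank F U = k) (hn : Orth.NDeg B U) :
    ∃ (b : Basis (Fin k) F U) (c : F), c ≠ 0 ∧
      ∀ i j, B (b i : ι → F) (b j : ι → F) = if i = j then c else 0 := by
  obtain ⟨a, rfl⟩ := hk
  exact exists_scalar_basis h2 (B.restrict U) (fun x y => C.symm _ _)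
    (fun x hx => Subtype.ext (hn x x.2 fun y hy => hx ⟨y, hy⟩)) (even_two_mul a) hd

/-- The type of a space split into two non-isometric subspaces of the same odd dimension. -/
theorem pair_type [Fintype F] (C : Orth.Space Q B) (h2 : (2 : F) ≠ 0) {k : ℕ} (hk : Odd k)
    (hcard : Fintype.card ι = 2 * k) {D : Fin 2 → Submodule F (ι → F)}
    (hD : IsNondegenerateMDecomposition (QuadraticMap.polar Q) k D) (hiso : ¬ AreIsometricFor Q (D 0) (D 1)) :
    IsPlusTypeOn Q (⊤ : Submodule F (ι → F)) ↔ ¬ IsSquare (-1 : F) := by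
  classical
  choose b c hc hb using fun i => scalar_frame C h2 hk (hD.decomp.finrank_eq i)
    (Orth.ndeg_of_geo C (hD.nondegenerate i))
  have hns : ¬ IsSquare (c 0 * c 1) := by
    rintro ⟨r, hr⟩
    have hr0 : r ≠ 0 := fun h => mul_ne_zero (hc 0) (hc 1) (by rw [hr, h, mul_zero])
    let s : Fˣ := Units.mk0 (r / c 1) (div_ne_zero hr0 (hc 1))
    let e := (b 0).equiv ((b 1).unitsSMul fun _ => s) (Equiv.refl _)
    have hform : (B.restrict (D 1)).compl₁₂ e.toLinearMap e.toLinearMap = B.restrict (D 0) := by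
      refine LinearMap.BilinForm.ext_basis (b 0) fun i j => ?_
      simp only [LinearMap.compl₁₂_apply, LinearEquiv.coe_coe, e, Basis.equiv_apply, Equiv.refl_apply,
        Basis.unitsSMul_apply, Units.smul_def, map_smul, LinearMap.smul_apply, smul_eq_mul]
      show (s : F) * ((s : F) * B (b 1 i : ι → F) (b 1 j : ι → F)) = B (b 0 i : ι → F) (b 0 j : ι → F)
      rw [hb, hb]
      split_ifs
      · simp only [s, Units.val_mk0]
        field_simp [hc 1]
        linear_combination -hr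
      · simp
    refine hiso ⟨e, fun w => ?_⟩
    have h1 : B (e w : ι → F) (e w : ι → F) = B (w : ι → F) (w : ι → F) :=
      congrArg (fun f : LinearMap.BilinForm F (D 0) => f w w) hform
    rw [C.self, C.self] at h1
    exact mul_left_cancel₀ h2 h1
  rw [frame_type C h2 hk.pos hcard (κ := Fin 2 × Fin k) (by simp) (c := fun p => c p.1) (fun p => hc _)
    (v := fun p => (b p.1 p.2 : ι → F)) (fun p p' => ?_)]
  · have hprod : (-1 : F) ^ k * ∏ p : Fin 2 × Fin k, c p.1 = -(c 0 * c 1) ^ k := by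
      rw [Fintype.prod_prod_type, Fin.prod_univ_two]
      simp [hk.neg_one_pow, mul_pow]
    rw [hprod]
    obtain ⟨a, rfl⟩ := hk
    have hns' : ¬ IsSquare ((c 0 * c 1) ^ (2 * a + 1)) := fun ⟨r, hr⟩ => hns ⟨r / (c 0 * c 1) ^ a, by
      have := pow_ne_zero a (mul_ne_zero (hc 0) (hc 1))
      field_simp
      linear_combination hr⟩
    refine ⟨fun h hm => hns' ?_, fun hm => ?_⟩
    · simpa using h.mul hm
    · rw [neg_eq_neg_one_mul]
      exact IsoFix.isSquare_mul_of_not h2 hm hns'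
  · obtain ⟨i, x⟩ := p
    obtain ⟨i', y⟩ := p'
    by_cases hi : i = i'
    · subst hi
      simp [hb, Prod.ext_iff]
    · rw [if_neg (fun h => hi (congrArg Prod.fst h)), ← C.polar]
      exact hD.orthogonal i i' hi _ (b i x).2 _ (b i' y).2

set_option maxHeartbeats 800000 in
/-- The maximal subgroups of `Ω` in dimension ten. -/
theorem ten_cases [Fintype F] (C : Orth.Space Q B) (hcard : Fintype.card ι = 10)
    (hH : IsMaximalIn (omegaGL Q) H) :
    (RedCase Q 5 H ∧ ∀ U : Submodule F (ι → F), IsNondegenerateOn (QuadraticMap.polar Q) U →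
      finrank F U = 5 → ¬ InvSub H U) ∨
    ((Fintype.card F).Prime ∧ (IsPlusTypeOn Q (⊤ : Submodule F (ι → F)) ↔ Fintype.card F % 4 = 1) ∧
      Odd (Fintype.card F) ∧ ∃ D : Fin 10 → Submodule F (ι → F), IsOrthogonalMDecomposition Q 1 D ∧
        H = decompositionStabilizer D ⊓ omegaGL Q) ∨
    ((IsPlusTypeOn Q (⊤ : Submodule F (ι → F)) → 7 ≤ Fintype.card F) ∧
      (¬ IsPlusTypeOn Q (⊤ : Submodule F (ι → F)) → Fintype.card F ≠ 3) ∧
      ∃ D : Fin 5 → Submodule F (ι → F), IsOrthogonalMDecomposition Q 2 D ∧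
        H = decompositionStabilizer D ⊓ omegaGL Q) ∨
    (Odd (Fintype.card F) ∧ (IsPlusTypeOn Q (⊤ : Submodule F (ι → F)) ↔ Fintype.card F % 4 = 1) ∧
      ∃ D : Fin 2 → Submodule F (ι → F), IsOrthogonalMDecomposition Q 5 D ∧
        H = decompositionStabilizer D ⊓ omegaGL Q) ∨
    (Odd (Fintype.card F) ∧ (IsPlusTypeOn Q (⊤ : Submodule F (ι → F)) ↔ Fintype.card F % 4 = 3) ∧
      ∃ D : Fin 2 → Submodule F (ι → F), IsNondegenerateMDecomposition (QuadraticMap.polar Q) 5 D ∧
        ¬ AreIsometricFor Q (D 0) (D 1) ∧ H = decompositionStabilizer D ⊓ omegaGL Q) ∨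
    (Odd (Fintype.card F) ∧ ∃ K : Subalgebra F (Matrix ι ι F), IsFieldSubalgebra 2 K ∧
      IsSelfAdjointFor (QuadraticMap.polar Q) K ∧ H = subalgebraNormalizer K ⊓ omegaGL Q) ∨
    (¬ IsPlusTypeOn Q (⊤ : Submodule F (ι → F)) ∧ ∃ K : Subalgebra F (Matrix ι ι F), IsFieldSubalgebra 2 K ∧
      IsAdjointClosedFor (QuadraticMap.polar Q) K ∧ ¬ IsSelfAdjointFor (QuadraticMap.polar Q) K ∧
      (∀ k ∈ K, ∃ c : F, ∀ v, Q (k *ᵥ v) = c * Q v) ∧ H = subalgebraNormalizer K ⊓ omegaGL Q) ∨
    SubCase Q H ∨ InOrthogonalResidualClass H := by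
  classical
  have h7 : 7 ≤ Fintype.card ι := by omega
  have hn2 : 2 ≤ Fintype.card ι := by omega
  haveI : Nonempty ι := Fintype.card_pos_iff.1 (by omega)
  have hHI : H ≤ isometryGroup F Q := fun g hg => omegaGL_le_iso (hH.1.le hg)
  have h25 : Fintype.card ι = 2 * 5 := hcard
  by_cases hirr : ActsIrreducibly (matrixSet H)
  swap
  · by_cases hU : ∃ U : Submodule F (ι → F), IsNondegenerateOn (QuadraticMap.polar Q) U ∧ finrank F U = 5 ∧
        InvSub H U
    swap
    · push Not at hU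
      exact Or.inl ⟨reducible_even C (by norm_num) hcard hH hirr, hU⟩
    obtain ⟨U, hn, hd, hinv⟩ := hU
    obtain ⟨-, -, hdec, hle⟩ := pair_decomp C (k := 5) (by norm_num) h25 hd (Orth.ndeg_of_geo C hn) hHI hinv
    have heq := decomp_eq C h7 hH hdec.decomp hle
    have h2 : (2 : F) ≠ 0 := fun h => by
      have := even_of_ndeg C h (Orth.ndeg_of_geo C hn)
      rw [hd] at this
      exact absurd this (by decide)
    obtain ⟨hq1, hq3⟩ := neg_one_square_iff (F := F) h2
    by_cases hiso : AreIsometricFor Q (![U, B.orthogonal U] 0) (![U, B.orthogonal U] 1)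
    · have hO : IsOrthogonalMDecomposition Q 5 ![U, B.orthogonal U] := ⟨hdec, fun i j => by
        have hr : ∀ W : Submodule F (ι → F), AreIsometricFor Q W W := fun W =>
          ⟨LinearEquiv.refl F W, fun w => rfl⟩
        have hs : AreIsometricFor Q (![U, B.orthogonal U] 1) (![U, B.orthogonal U] 0) := by
          obtain ⟨f, hf⟩ := hiso
          exact ⟨f.symm, fun w => by rw [← hf (f.symm w), f.apply_symm_apply]⟩
        fin_cases i <;> fin_cases j
        exacts [hr _, hiso, hs, hr _]⟩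
      refine Or.inr (Or.inr (Or.inr (Or.inl ⟨odd_of_two_ne h2, ?_, _, hO, heq⟩)))
      rw [odd_blocks_type C h2 (by norm_num) h25 hO (by decide), Odd.neg_one_pow (by decide), hq1]
    · refine Or.inr (Or.inr (Or.inr (Or.inr (Or.inl ⟨odd_of_two_ne h2, ?_, _, hdec, hiso, heq⟩))))
      rw [pair_type C h2 (by decide) h25 hdec hiso, hq3]
  refine Or.inr ?_
  have lines : ∀ {D : Fin 10 → Submodule F (ι → F)}, IsOrthogonalMDecomposition Q 1 D →
      H ≤ decompositionStabilizer D →
      ((Fintype.card F).Prime ∧ (IsPlusTypeOn Q (⊤ : Submodule F (ι → F)) ↔ Fintype.card F % 4 = 1) ∧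
        Odd (Fintype.card F) ∧ ∃ D : Fin 10 → Submodule F (ι → F), IsOrthogonalMDecomposition Q 1 D ∧
          H = decompositionStabilizer D ⊓ omegaGL Q) ∨ SubCase Q H := by
    intro D hD hle
    have h2 : (2 : F) ≠ 0 := fun h => by simpa using block_even C h hD
    have habs := lines_absIrr C h2 (by omega) hD (by norm_num) (decomp_eq C h7 hH hD.decomp.decomp hle) hirr
    by_cases hp : (Fintype.card F).Prime
    · refine Or.inl ⟨hp, ?_, odd_of_two_ne h2, D, hD, decomp_eq C h7 hH hD.decomp.decomp hle⟩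
      rw [odd_blocks_type C h2 (by norm_num) h25 hD odd_one, Odd.neg_one_pow (by decide),
        (neg_one_square_iff h2).1]
    · obtain ⟨F₁, hF₁⟩ := exists_proper_subfield hp
      exact Or.inr (self_subfield_case C h7 hH habs hF₁
        (orth_monomial_realisable C h2 hcard hHI hD hle (by norm_num) F₁))
  have pairTS : ∀ {k : ℕ} {D : Fin 2 → Submodule F (ι → F)}, 2 * k = Fintype.card ι → IsMDecomposition k D →
      (∀ i, IsTotallySingularQuad Q (D i)) → H ≤ decompositionStabilizer D → False := by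
    intro k D hk hD hts hle
    obtain rfl : k = 5 := by omega
    have h := ts_pair_fixed C (by omega) (by decide) hk hH.1.le hD hts hle
    rcases irr_iff.1 hirr (D 0) h with h0 | h0
    · have := hD.finrank_eq 0
      rw [h0, finrank_bot] at this
      omega
    · have := hD.finrank_eq 0
      rw [h0, finrank_top, finrank_fintype_fun_eq_card, hcard] at this
      omega
  have quad : ∀ {K : Subalgebra F (Matrix ι ι F)}, IsFieldSubalgebra 2 K → H ≤ subalgebraNormalizer K →
      (∀ k ∈ K, oadj Q k ∈ K) →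
      (Odd (Fintype.card F) ∧ ∃ K : Subalgebra F (Matrix ι ι F), IsFieldSubalgebra 2 K ∧
        IsSelfAdjointFor (QuadraticMap.polar Q) K ∧ H = subalgebraNormalizer K ⊓ omegaGL Q) ∨
      (¬ IsPlusTypeOn Q (⊤ : Submodule F (ι → F)) ∧ ∃ K : Subalgebra F (Matrix ι ι F), IsFieldSubalgebra 2 K ∧
        IsAdjointClosedFor (QuadraticMap.polar Q) K ∧ ¬ IsSelfAdjointFor (QuadraticMap.polar Q) K ∧
        (∀ k ∈ K, ∃ c : F, ∀ v, Q (k *ᵥ v) = c * Q v) ∧ H = subalgebraNormalizer K ⊓ omegaGL Q) := by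
    intro K hK hle hadj
    have heq := eq_inf_of_maximal hH hle (not_omega_le_field C h7 one_lt_two hK)
    rcases quad_field_cases C (m := 5) (by decide) h25 hHI hirr hK hle hadj with ⟨ho, hsa⟩ | ⟨hac, hnsa, hsim⟩
    · exact Or.inl ⟨ho, K, hK, hsa, heq⟩
    · refine Or.inr ⟨fun hp => ?_, K, hK, hac, hnsa, fun k hk => ?_, heq⟩
      · obtain ⟨k0, hk0, hne⟩ : ∃ k0 ∈ K, oadj Q k0 ≠ k0 := by
          by_contra hne
          push Not at hne
          exact hnsa fun k hk u v => by rw [C.polar, C.polar, oadj_spec C, hne k hk]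
        exact absurd ((similarity_type C h25 hK hadj hsim hk0 hne).1 hp) (by decide)
      · obtain ⟨t, c, -, -, hc⟩ := hsim k hk
        exact ⟨c, hc⟩
  have imprim : Imprimitive H →
      ((Fintype.card F).Prime ∧ (IsPlusTypeOn Q (⊤ : Submodule F (ι → F)) ↔ Fintype.card F % 4 = 1) ∧
        Odd (Fintype.card F) ∧ ∃ D : Fin 10 → Submodule F (ι → F), IsOrthogonalMDecomposition Q 1 D ∧
          H = decompositionStabilizer D ⊓ omegaGL Q) ∨
      ((IsPlusTypeOn Q (⊤ : Submodule F (ι → F)) → 7 ≤ Fintype.card F) ∧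
        (¬ IsPlusTypeOn Q (⊤ : Submodule F (ι → F)) → Fintype.card F ≠ 3) ∧
        ∃ D : Fin 5 → Submodule F (ι → F), IsOrthogonalMDecomposition Q 2 D ∧
          H = decompositionStabilizer D ⊓ omegaGL Q) ∨
      (Odd (Fintype.card F) ∧ (IsPlusTypeOn Q (⊤ : Submodule F (ι → F)) ↔ Fintype.card F % 4 = 1) ∧
        ∃ D : Fin 2 → Submodule F (ι → F), IsOrthogonalMDecomposition Q 5 D ∧
          H = decompositionStabilizer D ⊓ omegaGL Q) ∨ SubCase Q H := by
    intro himp
    rcases imprimitive_even C (by omega) hHI hirr himp with ⟨t, m, D, ht, htm, hD, hle⟩ | ⟨k, D, hk, hD, hts, hle⟩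
    swap
    · exact (pairTS hk hD hts hle).elim
    rw [hcard] at htm
    have ht10 : t ≤ 10 := Nat.le_of_dvd (by norm_num) ⟨_, htm.symm⟩
    obtain ⟨rfl, rfl⟩ | ⟨rfl, rfl⟩ | ⟨rfl, rfl⟩ : (t = 10 ∧ m = 1) ∨ (t = 5 ∧ m = 2) ∨ (t = 2 ∧ m = 5) := by
      interval_cases t <;> omega
    · exact (lines hD hle).imp id fun h => Or.inr (Or.inr h)
    · have htype : IsPlusTypeOn Q (⊤ : Submodule F (ι → F)) ↔ IsPlusTypeOn Q (D 0) := by
        rw [blocks_type C (a := 1) hD 0]
        exact or_iff_left (by decide)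
      by_cases hp : IsPlusTypeOn Q (⊤ : Submodule F (ι → F))
      · have hall : ∀ i, IsPlusTypeOn Q (D i) := fun i =>
          (plus_iff_of_isometric (hD.isometric i 0)).2 (htype.1 hp)
        by_cases hq7 : 7 ≤ Fintype.card F
        · exact Or.inr (Or.inl ⟨fun _ => hq7, fun h => absurd hp h, D, hD, decomp_eq C h7 hH hD.decomp.decomp hle⟩)
        rcases (show Fintype.card F ≤ 3 ∨ Fintype.card F = 4 ∨ Fintype.card F = 5 ∨ Fintype.card F = 6 by omega)
          with hq | hq | hq | hq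
        · exact (small_plus_planes_false C hq hD hHI hle hall hirr).elim
        · obtain ⟨F₁, hF₁⟩ := exists_proper_subfield (F := F) (by rw [hq]; decide)
          exact Or.inr (Or.inr (Or.inr (self_subfield_case C h7 hH
            (four_planes_absIrr C hq (by omega) hD hall (decomp_eq C h7 hH hD.decomp.decomp hle) hirr) hF₁
            (four_planes_realisable C hq hD hHI hle hall F₁))))
        · have h2 : (2 : F) ≠ 0 := Orth.two_ne_zero_of_odd_card (by rw [hq]; decide)
          obtain ⟨D', hD', hle'⟩ := planes_lines C (Or.inr hq) hcard hD hHI hle (i0 := 0)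
            (iff_of_true (hall 0) ((neg_one_square_iff h2).1.2 (by rw [hq])))
          exact (lines hD' hle').imp id fun h => Or.inr (Or.inr h)
        · exfalso
          obtain ⟨k, hpp, hk⟩ := FiniteField.card F (ringChar F)
          rw [hq] at hk
          obtain ⟨p, hp'⟩ : ∃ p, p = ringChar F := ⟨_, rfl⟩
          rw [← hp'] at hk hpp
          have h2d : 2 ∣ p := Nat.prime_two.dvd_of_dvd_pow (hk ▸ (by norm_num : 2 ∣ 6))
          have h3d : 3 ∣ p := Nat.prime_three.dvd_of_dvd_pow (hk ▸ (by norm_num : 3 ∣ 6))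
          rw [Nat.prime_dvd_prime_iff_eq Nat.prime_two hpp] at h2d
          rw [← h2d] at h3d
          norm_num at h3d
      · by_cases hq : Fintype.card F = 3
        · have h2 : (2 : F) ≠ 0 := Orth.two_ne_zero_of_odd_card (by rw [hq]; decide)
          obtain ⟨D', hD', hle'⟩ := planes_lines C (Or.inl hq) hcard hD hHI hle (i0 := 0)
            (iff_of_false (fun h => hp (htype.2 h)) ((neg_one_square_iff h2).2.2 (by rw [hq])))
          exact (lines hD' hle').imp id fun h => Or.inr (Or.inr h)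
        · exact Or.inr (Or.inl ⟨fun h => absurd h hp, fun _ => hq, D, hD, decomp_eq C h7 hH hD.decomp.decomp hle⟩)
    · have h2 : (2 : F) ≠ 0 := fun h => absurd (block_even C h hD) (by decide)
      refine Or.inr (Or.inr (Or.inl ⟨odd_of_two_ne h2, ?_, D, hD, decomp_eq C h7 hH hD.decomp.decomp hle⟩))
      rw [odd_blocks_type C h2 (by norm_num) h25 hD (by decide), Odd.neg_one_pow (by decide),
        (neg_one_square_iff h2).1]
  by_cases hF : FieldExt H
  · rcases fieldExt_quad C (p := 5) (by norm_num) (by decide) h25 hHI hirr hF with himp | ⟨K, hK, hle, hadj⟩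
    swap
    · rcases quad hK hle hadj with h | h
      · exact Or.inr (Or.inr (Or.inr (Or.inr (Or.inl h))))
      · exact Or.inr (Or.inr (Or.inr (Or.inr (Or.inr (Or.inl h)))))
    rcases imprim himp with h | h | h | h
    · exact Or.inl h
    · exact Or.inr (Or.inl h)
    · exact Or.inr (Or.inr (Or.inl h))
    · exact Or.inr (Or.inr (Or.inr (Or.inr (Or.inr (Or.inr (Or.inl h))))))
  rcases core hirr hn2 with h | h | h | h | h | h
  · rcases imprim h with h | h | h | h
    · exact Or.inl h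
    · exact Or.inr (Or.inl h)
    · exact Or.inr (Or.inr (Or.inl h))
    · exact Or.inr (Or.inr (Or.inr (Or.inr (Or.inr (Or.inr (Or.inl h))))))
  · exact absurd h hF
  · obtain ⟨N, d, k, e, P, hN, hd, hk, hmem, hle⟩ := h
    obtain ⟨A, A', T, hcase⟩ := tensor_start C hHI hirr hN hd hk hmem hle
    have hdk := tensor_card e
    rw [hcard] at hdk
    have hd10 : d ≤ 10 := Nat.le_of_dvd (by norm_num) ⟨_, hdk.symm⟩
    have two : ∀ {e : ι ≃ Fin 2 × Fin 5} {A : Matrix (Fin 2) (Fin 2) F}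
        {A' : Matrix (Fin 5) (Fin 5) F}, TData Q H e P A A' →
        ((AltMat A ∧ AltMat A') ∨ ((2 : F) ≠ 0 ∧ Aᵀ = A ∧ A'ᵀ = A')) →
        (Odd (Fintype.card F) ∧ ∃ K : Subalgebra F (Matrix ι ι F), IsFieldSubalgebra 2 K ∧
          IsSelfAdjointFor (QuadraticMap.polar Q) K ∧ H = subalgebraNormalizer K ⊓ omegaGL Q) ∨
        (¬ IsPlusTypeOn Q (⊤ : Submodule F (ι → F)) ∧ ∃ K : Subalgebra F (Matrix ι ι F), IsFieldSubalgebra 2 K ∧
          IsAdjointClosedFor (QuadraticMap.polar Q) K ∧ ¬ IsSelfAdjointFor (QuadraticMap.polar Q) K ∧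
          (∀ k ∈ K, ∃ c : F, ∀ v, Q (k *ᵥ v) = c * Q v) ∧ H = subalgebraNormalizer K ⊓ omegaGL Q) := by
      intro e A A' T hcase
      rcases hcase with ⟨-, hA'⟩ | ⟨h2, hA, -⟩
      · exact absurd (hA'.even T.unitA') (by decide)
      · rcases sym_two C h2 (by norm_num) hHI T hA with ⟨D, hD, hts, hle⟩ | ⟨K, hK, hKle, hadj⟩
        · exact (pairTS ((tensor_card e).trans rfl) hD hts hle).elim
        · exact quad hK hKle hadj
    have hres : _ := (show (d = 2 ∧ k = 5) ∨ (d = 5 ∧ k = 2) by interval_cases d <;> omega)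
    rcases hres with ⟨rfl, rfl⟩ | ⟨rfl, rfl⟩
    · rcases two T hcase with h | h
      · exact Or.inr (Or.inr (Or.inr (Or.inr (Or.inl h))))
      · exact Or.inr (Or.inr (Or.inr (Or.inr (Or.inr (Or.inl h)))))
    · rcases two T.swap (hcase.imp (fun h => ⟨h.2, h.1⟩) fun h => ⟨h.1, h.2.2, h.2.1⟩) with h | h
      · exact Or.inr (Or.inr (Or.inr (Or.inr (Or.inl h))))
      · exact Or.inr (Or.inr (Or.inr (Or.inr (Or.inr (Or.inl h)))))
  · obtain ⟨R, r, m, h6⟩ := h
    exact (six_not_prime_power Nat.prime_two Nat.prime_five (by norm_num) (by rw [hcard]; norm_num)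
      (by rw [hcard]; norm_num) h6).elim
  · obtain ⟨d, t, M, e, P, hd, ht, hM⟩ := h
    have hdt := pow_dim e
    rw [hcard] at hdt
    have h1 : d ^ 2 ≤ 10 := hdt ▸ Nat.pow_le_pow_right (by omega) ht
    have h3 : 2 ^ t ≤ 10 := hdt ▸ Nat.pow_le_pow_left hd t
    have : d ≤ 3 := by nlinarith
    have : t ≤ 3 := by
      by_contra hlt
      have := Nat.pow_le_pow_right (show 0 < 2 by norm_num) (show 4 ≤ t by omega)
      omega
    interval_cases d <;> interval_cases t <;> simp_all
  · rcases almost_case C h7 hH h with h | h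
    · exact Or.inr (Or.inr (Or.inr (Or.inr (Or.inr (Or.inr (Or.inl h))))))
    · exact Or.inr (Or.inr (Or.inr (Or.inr (Or.inr (Or.inr (Or.inr h))))))

end Cfsg.Lib.Linear.AschOrth
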