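import Cfsg.Agent.Lib.Linear.AschOrth.EvenTensorFour
import Cfsg.Agent.Lib.Linear.AschOrth.Ten

/-!
# Maximal subgroups of `Ω` in dimension twelve
-/

set_option autoImplicit false
set_option linter.unusedSectionVars false
set_option linter.style.haveILetI false

namespace Cfsg.Lib.Linear.AschOrth

open Cfsg.Geo Cfsg.Lib.Linear Cfsg.Lib.Linear.Asch Cfsg.Lib.Linear.AschGen Module
open Cfsg.Lib.Linear.AschSp (symm_formOfGram)
open scoped Matrix MatrixGroups

variable {ι : Type} [Fintype ι] [DecidableEq ι] {F : Type*} [Field F]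
  {Q : (ι → F) → F} {B : LinearMap.BilinForm F (ι → F)} {H : Subgroup (GL ι F)}

/-- `H` is the stabiliser in `Ω` of a field of degree `r`. -/
def FieldCase (Q : (ι → F) → F) (r : ℕ) (H : Subgroup (GL ι F)) : Prop :=
  ∃ K : Subalgebra F (Matrix ι ι F), IsFieldSubalgebra r K ∧ H = subalgebraNormalizer K ⊓ omegaGL Q

theorem field_twelve [Fintype F] (C : Orth.Space Q B) (hcard : Fintype.card ι = 12)
    (hH : IsMaximalIn (omegaGL Q) H) (hF : FieldExt H) : FieldCase Q 2 H ∨ FieldCase Q 3 H := by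
  obtain ⟨r, K, hr, hdvd, hK, heq⟩ := field_case C (by omega) hH hF
  rw [hcard, show (12 : ℕ) = 2 ^ 2 * 3 by norm_num] at hdvd
  rcases hr.dvd_mul.1 hdvd with h | h
  · obtain rfl := (Nat.prime_dvd_prime_iff_eq hr Nat.prime_two).1 (hr.dvd_of_dvd_pow h)
    exact Or.inl ⟨K, hK, heq⟩
  · obtain rfl := (Nat.prime_dvd_prime_iff_eq hr Nat.prime_three).1 h
    exact Or.inr ⟨K, hK, heq⟩

/-- The dimensions of a decomposition in dimension twelve. -/
theorem twelve_blocks {t m : ℕ} (ht : 2 ≤ t) (h : t * m = 12) :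
    (t = 12 ∧ m = 1) ∨ (t = 6 ∧ m = 2) ∨ (t = 4 ∧ m = 3) ∨ (t = 3 ∧ m = 4) ∨ (t = 2 ∧ m = 6) := by
  have : t ≤ 12 := Nat.le_of_dvd (by norm_num) ⟨_, h.symm⟩
  interval_cases t <;> omega

/-- A tensor decomposition in dimension twelve has alternating factors of dimensions two and six, symmetric
factors with one of dimension two, or symmetric factors of dimensions three and four. -/
theorem tensor_twelve [Fintype F] (C : Orth.Space Q B) (hcard : Fintype.card ι = 12)
    (hHI : H ≤ isometryGroup F Q) (hirr : ActsIrreducibly (matrixSet H)) (h : TensorProd H) :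
    (∃ (e : ι ≃ Fin 2 × Fin 6) (P : GL ι F) (A : Matrix (Fin 2) (Fin 2) F) (A' : Matrix (Fin 6) (Fin 6) F),
      TData Q H e P A A' ∧ ((AltMat A ∧ AltMat A') ∨ ((2 : F) ≠ 0 ∧ Aᵀ = A ∧ A'ᵀ = A'))) ∨
    (∃ (e : ι ≃ Fin 3 × Fin 4) (P : GL ι F) (A : Matrix (Fin 3) (Fin 3) F) (A' : Matrix (Fin 4) (Fin 4) F),
      TData Q H e P A A' ∧ (2 : F) ≠ 0 ∧ Aᵀ = A ∧ A'ᵀ = A') := by
  obtain ⟨N, d, k, e, P, hN, hd, hk, hmem, hle⟩ := h
  obtain ⟨A, A', T, hcase⟩ := tensor_start C hHI hirr hN hd hk hmem hle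
  have hdk := tensor_card e
  rw [hcard] at hdk
  have hd12 : d ≤ 12 := Nat.le_of_dvd (by norm_num) ⟨_, hdk.symm⟩
  obtain ⟨rfl, rfl⟩ | ⟨rfl, rfl⟩ | ⟨rfl, rfl⟩ | ⟨rfl, rfl⟩ :
      (d = 2 ∧ k = 6) ∨ (d = 6 ∧ k = 2) ∨ (d = 3 ∧ k = 4) ∨ (d = 4 ∧ k = 3) := by
    interval_cases d <;> omega
  · exact Or.inl ⟨e, P, A, A', T, hcase⟩
  · exact Or.inl ⟨_, P, A', A, T.swap, hcase.imp (fun h => ⟨h.2, h.1⟩) fun h => ⟨h.1, h.2.2, h.2.1⟩⟩
  · rcases hcase with ⟨hA, -⟩ | ⟨h2, hA, hA'⟩
    · exact absurd (hA.even T.unitA) (by decide)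
    · exact Or.inr ⟨e, P, A, A', T, h2, hA, hA'⟩
  · rcases hcase with ⟨-, hA'⟩ | ⟨h2, hA, hA'⟩
    · exact absurd (hA'.even T.unitA') (by decide)
    · exact Or.inr ⟨_, P, A', A, T.swap, h2, hA', hA⟩

theorem pow_twelve_false [Fintype F] (hcard : Fintype.card ι = 12) (h : TensorPow H) : False := by
  obtain ⟨d, t, M, e, P, hd, ht, -⟩ := h
  have hdt := pow_dim e
  rw [hcard] at hdt
  have h1 : d ^ 2 ≤ 12 := hdt ▸ Nat.pow_le_pow_right (by omega) ht
  have h3 : 2 ^ t ≤ 12 := hdt ▸ Nat.pow_le_pow_left hd t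
  have : d ≤ 3 := by nlinarith
  have : t ≤ 3 := by
    by_contra hlt
    have := Nat.pow_le_pow_right (show 0 < 2 by norm_num) (show 4 ≤ t by omega)
    omega
  interval_cases d <;> interval_cases t <;> simp_all

/-- The irreducible maximal subgroups of `Ω` of minus type in dimension twelve. -/
theorem twelve_minus_irr [Fintype F] (C : Orth.Space Q B) (hcard : Fintype.card ι = 12)
    (hminus : ¬ IsPlusTypeOn Q (⊤ : Submodule F (ι → F))) (hH : IsMaximalIn (omegaGL Q) H)
    (hirr : ActsIrreducibly (matrixSet H)) :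
    (∃ D : Fin 3 → Submodule F (ι → F), IsOrthogonalMDecomposition Q 4 D ∧ (∀ i, ¬ IsPlusTypeOn Q (D i)) ∧
      H = decompositionStabilizer D ⊓ omegaGL Q) ∨
    FieldCase Q 2 H ∨ FieldCase Q 3 H ∨
    (Odd (Fintype.card F) ∧ 5 ≤ Fintype.card F ∧ ∃ (e : ι ≃ Fin 3 × Fin 4) (P : GL ι F)
      (f₁ : (Fin 3 → F) → (Fin 3 → F) → F) (f₂ : (Fin 4 → F) → (Fin 4 → F) → F),
      IsSymmetricForm f₁ ∧ IsSymmetricForm f₂ ∧ ¬ IsPlusTypeOn (fun v : Fin 4 → F => f₂ v v) ⊤ ∧
      IsTensorFormStructure id (QuadraticMap.polar Q) f₁ f₂ e P ∧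
      H = tensorProductSubgroup 3 4 e P ⊓ omegaGL Q) ∨
    SubCase Q H ∨ InOrthogonalResidualClass H := by
  classical
  have h7 : 7 ≤ Fintype.card ι := by omega
  have hn2 : 2 ≤ Fintype.card ι := by omega
  haveI : Nonempty ι := Fintype.card_pos_iff.1 (by omega)
  have hHI : H ≤ isometryGroup F Q := fun g hg => omegaGL_le_iso (hH.1.le hg)
  have h26 : Fintype.card ι = 2 * 6 := hcard
  by_cases hF : FieldExt H
  · exact Or.inr ((field_twelve C hcard hH hF).imp id Or.inl)
  rcases core hirr hn2 with h | h | h | h | h | h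
  · rcases imprimitive_even C (by omega) hHI hirr h with ⟨t, m, D, ht, htm, hD, hle⟩ | ⟨k, D, hk, hD, hts, -⟩
    swap
    · exact absurd (plus_of_ts_pair hk hD hts) hminus
    rw [hcard] at htm
    have hodd : ∀ {t m : ℕ} {D : Fin t → Submodule F (ι → F)}, IsOrthogonalMDecomposition Q m D → Odd m → False :=
      fun {t m D} hD hm => by
        have h2 : (2 : F) ≠ 0 := fun h => (Nat.not_even_iff_odd.2 hm) (block_even C h hD)
        exact hminus ((odd_blocks_type C h2 (by norm_num) h26 hD hm).2 ⟨1, by norm_num⟩)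
    rcases twelve_blocks ht htm with ⟨rfl, rfl⟩ | ⟨rfl, rfl⟩ | ⟨rfl, rfl⟩ | ⟨rfl, rfl⟩ | ⟨rfl, rfl⟩
    · exact (hodd hD odd_one).elim
    · exact absurd ((blocks_type C (a := 1) hD 0).2 (Or.inr (by decide))) hminus
    · exact (hodd hD (by decide)).elim
    · refine Or.inl ⟨D, hD, fun i hi => hminus ((blocks_type C (a := 2) hD i).2 (Or.inl hi)),
        decomp_eq C h7 hH hD.decomp.decomp hle⟩
    · exact absurd ((blocks_type C (a := 3) hD 0).2 (Or.inr (by decide))) hminus
  · exact absurd h hF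
  · rcases tensor_twelve C hcard hHI hirr h with ⟨e, P, A, A', T, hcase⟩ | ⟨e, P, A, A', T, h2, hA, hA'⟩
    · rcases hcase with ⟨hA, hA'⟩ | ⟨h2, hA, -⟩
      · exact absurd (two_plus C hn2 hHI hirr T hA hA') hminus
      · rcases sym_two C h2 (by norm_num) hHI T hA with ⟨D, hD, hts, -⟩ | ⟨K, hK, hle, -⟩
        · exact absurd (plus_of_ts_pair ((tensor_card e).trans rfl) hD hts) hminus
        · exact Or.inr (Or.inl ⟨K, hK, eq_inf_of_maximal hH hle (not_omega_le_field C h7 one_lt_two hK)⟩)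
    · rcases tensor_four_minus C h2 hH.1.le T hA hminus with ⟨h5, hA'm⟩ | ⟨D, hD, hDm, hle⟩
      · exact Or.inr (Or.inr (Or.inr (Or.inl ⟨odd_of_two_ne h2, h5, e, P, formOfGram id A, formOfGram id A',
          symm_formOfGram T.unitA hA, symm_formOfGram T.unitA' hA', hA'm, T.form C,
          eq_inf_of_maximal hH T.le (not_omega_le_tensor C h7 (by norm_num) (by norm_num) (by omega))⟩)))
      · exact Or.inl ⟨D, hD, hDm, decomp_eq C h7 hH hD.decomp.decomp hle⟩
  · obtain ⟨R, r, m, h6⟩ := h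
    exact (six_not_prime_power Nat.prime_two Nat.prime_three (by norm_num) (by rw [hcard]; norm_num)
      (by rw [hcard]; norm_num) h6).elim
  · exact (pow_twelve_false hcard h).elim
  · exact Or.inr (Or.inr (Or.inr (Or.inr (almost_case C h7 hH h))))

/-- The decompositions held by irreducible maximal subgroups of `Ω` of plus type in dimension twelve. -/
def BlockCase [Fintype F] (Q : (ι → F) → F) (H : Subgroup (GL ι F)) : Prop :=
  ((∃ p : ℕ, p.Prime ∧ Odd p ∧ Fintype.card F = p) ∧ ∃ D : Fin 12 → Submodule F (ι → F),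
      IsOrthogonalMDecomposition Q 1 D ∧ H = decompositionStabilizer D ⊓ omegaGL Q) ∨
    (7 ≤ Fintype.card F ∧ ∃ D : Fin 6 → Submodule F (ι → F), IsOrthogonalMDecomposition Q 2 D ∧
      (∀ i, IsPlusTypeOn Q (D i)) ∧ H = decompositionStabilizer D ⊓ omegaGL Q) ∨
    (Fintype.card F ≠ 3 ∧ ∃ D : Fin 6 → Submodule F (ι → F), IsOrthogonalMDecomposition Q 2 D ∧
      (∀ i, ¬ IsPlusTypeOn Q (D i)) ∧ H = decompositionStabilizer D ⊓ omegaGL Q) ∨
    (Odd (Fintype.card F) ∧ 5 ≤ Fintype.card F ∧ ∃ D : Fin 4 → Submodule F (ι → F),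
      IsOrthogonalMDecomposition Q 3 D ∧ H = decompositionStabilizer D ⊓ omegaGL Q) ∨
    (3 ≤ Fintype.card F ∧ ∃ D : Fin 3 → Submodule F (ι → F), IsOrthogonalMDecomposition Q 4 D ∧
      H = decompositionStabilizer D ⊓ omegaGL Q) ∨
    (∃ D : Fin 2 → Submodule F (ι → F), IsOrthogonalMDecomposition Q 6 D ∧
      H = decompositionStabilizer D ⊓ omegaGL Q) ∨
    (∃ D : Fin 2 → Submodule F (ι → F), IsMDecomposition 6 D ∧ (∀ i, IsTotallySingularQuad Q (D i)) ∧
      H = decompositionStabilizer D ⊓ omegaGL Q)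

/-- An imprimitive maximal subgroup in dimension twelve is one of the listed stabilisers or a subfield case. -/
theorem imprim_twelve [Fintype F] (C : Orth.Space Q B) (hcard : Fintype.card ι = 12)
    (hplus : IsPlusTypeOn Q (⊤ : Submodule F (ι → F))) (hH : IsMaximalIn (omegaGL Q) H)
    (hirr : ActsIrreducibly (matrixSet H)) (h : Imprimitive H) : BlockCase Q H ∨ SubCase Q H := by
  classical
  have h7 : 7 ≤ Fintype.card ι := by omega
  have hHI : H ≤ isometryGroup F Q := fun g hg => omegaGL_le_iso (hH.1.le hg)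
  rcases imprimitive_even C (by omega) hHI hirr h with ⟨t, m, D, ht, htm, hD, hle⟩ | ⟨k, D, hk, hD, hts, hle⟩
  swap
  · obtain rfl : k = 6 := by omega
    exact Or.inl (Or.inr (Or.inr (Or.inr (Or.inr (Or.inr (Or.inr
      ⟨D, hD, hts, decomp_eq C h7 hH hD hle⟩))))))
  rw [hcard] at htm
  have hq2 := Fintype.one_lt_card (α := F)
  have lines : ∀ {D : Fin 12 → Submodule F (ι → F)}, IsOrthogonalMDecomposition Q 1 D →
      H ≤ decompositionStabilizer D → BlockCase Q H ∨ SubCase Q H := by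
    intro D hD hle
    have h2 : (2 : F) ≠ 0 := fun h => by simpa using block_even C h hD
    have heq := decomp_eq C h7 hH hD.decomp.decomp hle
    by_cases hp : (Fintype.card F).Prime
    · exact Or.inl (Or.inl ⟨⟨_, hp, odd_of_two_ne h2, rfl⟩, D, hD, heq⟩)
    · obtain ⟨F₁, hF₁⟩ := exists_proper_subfield hp
      exact Or.inr (self_subfield_case C h7 hH (lines_absIrr C h2 (by omega) hD (by norm_num) heq hirr) hF₁
        (orth_monomial_realisable C h2 hcard hHI hD hle (by norm_num) F₁))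
  rcases twelve_blocks ht htm with ⟨rfl, rfl⟩ | ⟨rfl, rfl⟩ | ⟨rfl, rfl⟩ | ⟨rfl, rfl⟩ | ⟨rfl, rfl⟩
  · exact lines hD hle
  · have heq := decomp_eq C h7 hH hD.decomp.decomp hle
    by_cases hp : IsPlusTypeOn Q (D 0)
    · have hall : ∀ i, IsPlusTypeOn Q (D i) := fun i => (plus_iff_of_isometric (hD.isometric i 0)).2 hp
      by_cases hq7 : 7 ≤ Fintype.card F
      · exact Or.inl (Or.inr (Or.inl ⟨hq7, D, hD, hall, heq⟩))
      rcases (show Fintype.card F ≤ 3 ∨ Fintype.card F = 4 ∨ Fintype.card F = 5 ∨ Fintype.card F = 6 by omega)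
        with hq | hq | hq | hq
      · exact (small_plus_planes_false C hq hD hHI hle hall hirr).elim
      · obtain ⟨F₁, hF₁⟩ := exists_proper_subfield (F := F) (by rw [hq]; decide)
        exact Or.inr (self_subfield_case C h7 hH (four_planes_absIrr C hq (by omega) hD hall heq hirr) hF₁
          (four_planes_realisable C hq hD hHI hle hall F₁))
      · have h2 : (2 : F) ≠ 0 := Orth.two_ne_zero_of_odd_card (by rw [hq]; decide)
        obtain ⟨D', hD', hle'⟩ := planes_lines C (Or.inr hq) hcard hD hHI hle (i0 := 0)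
          (iff_of_true hp ((neg_one_square_iff h2).1.2 (by rw [hq])))
        exact lines hD' hle'
      · exfalso
        obtain ⟨k, hpp, hk⟩ := FiniteField.card F (ringChar F)
        rw [hq] at hk
        have h2d := (Nat.prime_dvd_prime_iff_eq Nat.prime_two hpp).1
          (Nat.prime_two.dvd_of_dvd_pow (hk ▸ (by norm_num : 2 ∣ 6)))
        have h3d := (Nat.prime_dvd_prime_iff_eq Nat.prime_three hpp).1
          (Nat.prime_three.dvd_of_dvd_pow (hk ▸ (by norm_num : 3 ∣ 6)))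
        omega
    · have hall : ∀ i, ¬ IsPlusTypeOn Q (D i) := fun i hi => hp ((plus_iff_of_isometric (hD.isometric i 0)).1 hi)
      by_cases hq : Fintype.card F = 3
      · have h2 : (2 : F) ≠ 0 := Orth.two_ne_zero_of_odd_card (by rw [hq]; decide)
        obtain ⟨D', hD', hle'⟩ := planes_lines C (Or.inl hq) hcard hD hHI hle (i0 := 0)
          (iff_of_false hp ((neg_one_square_iff h2).2.2 (by rw [hq])))
        exact lines hD' hle'
      · exact Or.inl (Or.inr (Or.inr (Or.inl ⟨hq, D, hD, hall, heq⟩)))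
  · have h2 : (2 : F) ≠ 0 := fun h => absurd (block_even C h hD) (by decide)
    have ho := odd_of_two_ne h2
    by_cases h5 : 5 ≤ Fintype.card F
    · exact Or.inl (Or.inr (Or.inr (Or.inr (Or.inl ⟨ho, h5, D, hD, decomp_eq C h7 hH hD.decomp.decomp hle⟩))))
    · obtain ⟨D', hD', hle'⟩ := three_blocks (by obtain ⟨j, hj⟩ := ho; omega) C h2 hcard hD hHI hle
      exact lines hD' hle'
  · by_cases h3 : 3 ≤ Fintype.card F
    · exact Or.inl (Or.inr (Or.inr (Or.inr (Or.inr (Or.inl ⟨h3, D, hD, decomp_eq C h7 hH hD.decomp.decomp hle⟩)))))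
    · have hp : ∀ i, IsPlusTypeOn Q (D i) := fun i => ((blocks_type C (a := 2) hD i).1 hplus).resolve_right (by decide)
      obtain ⟨D', hD', hall, hle'⟩ := split_two C (by omega) hD hHI hle hp
      exact Or.inl (Or.inr (Or.inr (Or.inl ⟨by omega, D', hD', hall, decomp_eq C h7 hH hD'.decomp.decomp hle'⟩)))
  · exact Or.inl (Or.inr (Or.inr (Or.inr (Or.inr (Or.inr (Or.inl
      ⟨D, hD, decomp_eq C h7 hH hD.decomp.decomp hle⟩))))))

/-- The stabiliser of a tensor decomposition into alternating forms on spaces of dimensions two and six. -/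
def AltTensorCase [Fintype F] (Q : (ι → F) → F) (H : Subgroup (GL ι F)) : Prop :=
  3 ≤ Fintype.card F ∧ ∃ (e : ι ≃ Fin 2 × Fin 6) (P : GL ι F) (f₁ : (Fin 2 → F) → (Fin 2 → F) → F)
    (f₂ : (Fin 6 → F) → (Fin 6 → F) → F), IsSymplecticForm f₁ ∧ IsSymplecticForm f₂ ∧
    IsTensorFormStructure id (QuadraticMap.polar Q) f₁ f₂ e P ∧
    (∀ (x₁ : Fin 2 → F) (x₂ : Fin 6 → F),
      Q (P.val *ᵥ ((fun a : Fin 2 × Fin 6 => x₁ a.1 * x₂ a.2) ∘ e)) = 0) ∧
    H = tensorProductSubgroup 2 6 e P ⊓ omegaGL Q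

/-- The irreducible maximal subgroups of `Ω` of plus type in dimension twelve. -/
theorem twelve_plus_irr [Fintype F] (C : Orth.Space Q B) (hcard : Fintype.card ι = 12)
    (hplus : IsPlusTypeOn Q (⊤ : Submodule F (ι → F))) (hH : IsMaximalIn (omegaGL Q) H)
    (hirr : ActsIrreducibly (matrixSet H)) :
    BlockCase Q H ∨ FieldCase Q 2 H ∨ FieldCase Q 3 H ∨ AltTensorCase Q H ∨ SubCase Q H ∨
      InOrthogonalResidualClass H := by
  classical
  have h7 : 7 ≤ Fintype.card ι := by omega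
  have hn2 : 2 ≤ Fintype.card ι := by omega
  haveI : Nonempty ι := Fintype.card_pos_iff.1 (by omega)
  have hHI : H ≤ isometryGroup F Q := fun g hg => omegaGL_le_iso (hH.1.le hg)
  by_cases hF : FieldExt H
  · exact Or.inr ((field_twelve C hcard hH hF).imp id Or.inl)
  have quad : ∀ {K : Subalgebra F (Matrix ι ι F)}, IsFieldSubalgebra 2 K → H ≤ subalgebraNormalizer K →
      FieldCase Q 2 H := fun {K} hK hle =>
    ⟨K, hK, eq_inf_of_maximal hH hle (not_omega_le_field C h7 one_lt_two hK)⟩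
  have alt : ∀ {e : ι ≃ Fin 2 × Fin 6} {P : GL ι F} {A : Matrix (Fin 2) (Fin 2) F}
      {A' : Matrix (Fin 6) (Fin 6) F}, TData Q H e P A A' → AltMat A → AltMat A' →
      FieldCase Q 2 H ∨ AltTensorCase Q H := by
    intro e P A A' T hA hA'
    by_cases h3 : 3 ≤ Fintype.card F
    · exact Or.inr ⟨h3, e, P, formOfGram id A, formOfGram id A', hA.symp T.unitA, hA'.symp T.unitA', T.form C,
        pure_singular C hn2 hHI hirr T hA hA',
        eq_inf_of_maximal hH T.le (not_omega_le_tensor C h7 (by norm_num) (by norm_num) (by omega))⟩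
    · obtain ⟨K, hK, hle⟩ := two_small (by have := Fintype.one_lt_card (α := F); omega) (by norm_num) T
      exact Or.inl (quad hK hle)
  rcases core hirr hn2 with h | h | h | h | h | h
  · rcases imprim_twelve C hcard hplus hH hirr h with h | h
    · exact Or.inl h
    · exact Or.inr (Or.inr (Or.inr (Or.inr (Or.inl h))))
  · exact absurd h hF
  · rcases tensor_twelve C hcard hHI hirr h with ⟨e, P, A, A', T, hcase⟩ | ⟨e, P, A, A', T, h2, hA, hA'⟩
    · rcases hcase with ⟨hA, hA'⟩ | ⟨h2, hA, -⟩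
      · rcases alt T hA hA' with h | h
        · exact Or.inr (Or.inl h)
        · exact Or.inr (Or.inr (Or.inr (Or.inl h)))
      · rcases sym_two C h2 (by norm_num) hHI T hA with ⟨D, hD, hts, hle⟩ | ⟨K, hK, hle, -⟩
        · exact Or.inl (Or.inr (Or.inr (Or.inr (Or.inr (Or.inr (Or.inr
            ⟨D, hD, hts, decomp_eq C h7 hH hD hle⟩))))))
        · exact Or.inr (Or.inl (quad hK hle))
    · obtain ⟨e', P', A1, A2, T', hA1, hA2⟩ := tensor_four_plus C h2 hH.1.le T hA hA' hplus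
      rcases alt T' hA1 hA2 with h | h
      · exact Or.inr (Or.inl h)
      · exact Or.inr (Or.inr (Or.inr (Or.inl h)))
  · obtain ⟨R, r, m, h6⟩ := h
    exact (six_not_prime_power Nat.prime_two Nat.prime_three (by norm_num) (by rw [hcard]; norm_num)
      (by rw [hcard]; norm_num) h6).elim
  · exact (pow_twelve_false hcard h).elim
  · exact Or.inr (Or.inr (Or.inr (Or.inr (almost_case C h7 hH h))))

/-- A six-space in a space of plus type of dimension twelve gives a decomposition into isometric halves. -/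
theorem six_space_plus [Fintype F] (C : Orth.Space Q B) (hcard : Fintype.card ι = 12)
    (hplus : IsPlusTypeOn Q (⊤ : Submodule F (ι → F))) (hH : IsMaximalIn (omegaGL Q) H)
    {U : Submodule F (ι → F)} (hd : finrank F U = 6) (hn : IsNondegenerateOn (QuadraticMap.polar Q) U)
    (hinv : InvSub H U) :
    ∃ D : Fin 2 → Submodule F (ι → F), IsOrthogonalMDecomposition Q 6 D ∧
      H = decompositionStabilizer D ⊓ omegaGL Q := by
  have hHI : H ≤ isometryGroup F Q := fun g hg => omegaGL_le_iso (hH.1.le hg)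
  obtain ⟨hd', hn', hdec, hle⟩ := pair_decomp C (k := 6) (by norm_num) hcard hd (Orth.ndeg_of_geo C hn) hHI hinv
  have htop : U ⊔ B.orthogonal U = ⊤ := top_unique (by
    rw [← hdec.decomp.iSup_eq_top]
    exact iSup_le fun i => by fin_cases i <;> simp [le_sup_left, le_sup_right])
  have htype := NondegFix.type_sum C (s := 3) (t := 3) hd hd' (Orth.ndeg_of_geo C hn) hn' fun x hx y hy => hy x hx
  rw [htop] at htype
  have hiso := isometric_of_type C (k := 3) (by norm_num) hd hd' (Orth.ndeg_of_geo C hn) hn' (htype.1 hplus)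
  have hr : ∀ W : Submodule F (ι → F), AreIsometricFor Q W W := fun W => ⟨LinearEquiv.refl F W, fun w => rfl⟩
  have hs : AreIsometricFor Q (B.orthogonal U) U := by
    obtain ⟨f, hf⟩ := hiso
    exact ⟨f.symm, fun w => by rw [← hf (f.symm w), f.apply_symm_apply]⟩
  exact ⟨_, ⟨hdec, fun i j => by fin_cases i <;> fin_cases j; exacts [hr _, hiso, hs, hr _]⟩,
    decomp_eq C (by omega) hH hdec.decomp hle⟩

end Cfsg.Lib.Linear.AschOrth
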